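import Cfsg.Agent.H466.RT.OneClass_m3
import Cfsg.Agent.S0820
import Cfsg.Agent.S0243
import Cfsg.Agent.SignalizersComponents.BalEndSz
import Cfsg.Agent.OddCyclic.FFSz
import Cfsg.Agent.H322.Tri.Suz
import Cfsg.Agent.ClassicalGeometry.PSL2Basic
import Cfsg.Agent.ClassicalGeometry.SLTwoFour
import Cfsg.Agent.StdAlt.PermTypes
import Cfsg.Agent.OddCyclic.CoverTrans
import Cfsg.Agent.SporadicB.DoubleCoverUnique
import Cfsg.Agent.OddHalf.CoverAlt
import Cfsg.Agent.TwoFusion.QGroupMain
import Cfsg.Agent.SylowL.Compare_m3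
import Cfsg.Agent.OddHalf.LongSL.Rk
import Cfsg.Agent.TwoESix.FiInst
import Cfsg.Prelude.Def_Spor_B
import Cfsg.Agent.GH.TOne.TwoCfg_m3
import Cfsg.Agent.SporadicA.Co0Mono
import Cfsg.Agent.SporadicA.Co0Basic
import Cfsg.Agent.J2Sylow.SporSylow
import Cfsg.Agent.LThreeCo1T8.Main
import Cfsg.Agent.KFacts.Ru.Core
import Cfsg.Agent.SporRec.SuzCl.Inv
import Cfsg.Agent.OddHalf.Known
import Cfsg.Agent.OddHalf.Quat.Classical_m3
import Cfsg.Agent.OddHalf.LieOddFam
import Cfsg.Agent.S0253
import Cfsg.Agent.S0254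
import Cfsg.Agent.FastGrp
import Cfsg.Agent.Prune
set_option linter.all false

section
prune_inst 0x7ffcbcfbaff83fdedfff7e7fffdfdffdfbfcffffffdffbcbffecefff8fdf5b0eb9e5fbad9febdaff1ef6e2be30f87b53fffffeffef6bdc7ffffd5ff45ffbff8ffdf7bd8871df8cbe0fbc2fff63f07fce7f3fffffffffffffffffffffffffffbeffffffffffff

-- part: H466/RT/LThree
section
prune_inst 0x341005003c0212000000000002000040300000020040000000000102004104400040000002000410100000000008000000000000420000000a000000000400208000400002000000240009008000000000000000000000000000000000000000000000000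
set_option linter.all false
open scoped Cfsg.Agent.FastGrp

/-!
# `L_3(4)`
-/

set_option autoImplicit false

namespace Cfsg.Agent.H466.RT

open Subgroup Cfsg Matrix

/-- one class of involutions, 2-rank at least 3, centralizers of involutions 2-groups -/
structure Easy (X : Type*) [Group X] : Prop where
  cl : OneCl X
  cent : ∀ s : X, s * s = 1 → s ≠ 1 → IsPGroup 2 (centralizer ({s} : Set X))
  three : ∃ r s t : X, Three r s t

theorem Three.map {X Y : Type*} [Group X] [Group Y] (f : X →* Y) (hf : Function.Injective f) {r s t : X}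
    (h : Three r s t) : Three (f r) (f s) (f t) where
  rr := by rw [← map_mul, h.rr, map_one]
  ss := by rw [← map_mul, h.ss, map_one]
  tt := by rw [← map_mul, h.tt, map_one]
  rs := by rw [← map_mul, h.rs, map_mul]
  rt := by rw [← map_mul, h.rt, map_mul]
  st := by rw [← map_mul, h.st, map_mul]
  r1 := fun h1 => h.r1 ((map_eq_one_iff f hf).1 h1)
  s1 := fun h1 => h.s1 ((map_eq_one_iff f hf).1 h1)
  t1 := fun h1 => h.t1 ((map_eq_one_iff f hf).1 h1)
  hrs := fun h1 => h.hrs (hf h1)
  hrt := fun h1 => h.hrt (hf h1)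
  hst := fun h1 => h.hst (hf h1)
  hrst := fun h1 => h.hrst (hf (by rw [map_mul, h1]))

theorem Easy.of_equiv {X Y : Type*} [Group X] [Group Y] (e : X ≃* Y) (h : Easy X) : Easy Y where
  cl := by
    intro s t hs hs1 ht ht1
    have h1 := h.cl (e.symm s) (e.symm t) (by rw [← map_mul, hs, map_one])
      (fun h2 => hs1 ((map_eq_one_iff e.symm e.symm.injective).1 h2)) (by rw [← map_mul, ht, map_one])
      (fun h2 => ht1 ((map_eq_one_iff e.symm e.symm.injective).1 h2))
    obtain ⟨c, hc⟩ := isConj_iff.1 h1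
    rw [isConj_iff]
    refine ⟨e c, ?_⟩
    have h2 := congrArg e hc
    rw [map_mul, map_mul, map_inv, e.apply_symm_apply, e.apply_symm_apply] at h2
    exact h2
  cent := by
    intro s hs hs1
    have h1 := h.cent (e.symm s) (by rw [← map_mul, hs, map_one])
      (fun h2 => hs1 ((map_eq_one_iff e.symm e.symm.injective).1 h2))
    rintro ⟨x, hx⟩
    obtain ⟨k, hk⟩ := h1 ⟨e.symm x, by
      rw [mem_cent] at hx ⊢
      rw [← map_mul, ← map_inv, ← map_mul, hx]⟩
    refine ⟨k, Subtype.ext ?_⟩
    have h2 : e.symm x ^ 2 ^ k = 1 := congrArg Subtype.val hk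
    rw [← map_pow] at h2
    exact (map_eq_one_iff e.symm e.symm.injective).1 h2
  three := by
    obtain ⟨r, s, t, h3⟩ := h.three
    exact ⟨_, _, _, h3.map e.toMonoidHom e.injective⟩

theorem Pair.not_easy {M : Type*} [Group M] [Finite M] {K : Subgroup M} {c : ℕ} (h : Pair M K c)
    (he : Easy (K ⧸ center K)) (hcard : Nat.card (center K) < 2 ^ nu (Nat.card (K ⧸ center K))) : False :=
  h.false_of_oneClass he.cl he.cent he.three hcard

section PSL

variable {F : Type*} [Field F]

/-- `1 + x E₀₂ + y E₁₂` -/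
def uxy (x y : F) : _root_.Matrix.SpecialLinearGroup (Fin 3) F := ⟨!![1, 0, x; 0, 1, y; 0, 0, 1], by
  simp [det_fin_three]⟩

theorem uxy_mul (x y x' y' : F) : uxy x y * uxy x' y' = uxy (x + x') (y + y') := by
  apply Subtype.ext
  change (!![1, 0, x; 0, 1, y; 0, 0, 1] : Matrix (Fin 3) (Fin 3) F) * !![1, 0, x'; 0, 1, y'; 0, 0, 1] =
    !![1, 0, x + x'; 0, 1, y + y'; 0, 0, 1]
  ext i j
  fin_cases i <;> fin_cases j <;> simp [Matrix.mul_apply, Fin.sum_univ_three, add_comm]

theorem uxy_center {x y : F} (h : uxy x y ∈ center (_root_.Matrix.SpecialLinearGroup (Fin 3) F)) : x = 0 ∧ y = 0 := by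
  obtain ⟨r, -, hr⟩ := Matrix.SpecialLinearGroup.mem_center_iff.mp h
  have h02 := congrFun (congrFun hr 0) 2
  have h12 := congrFun (congrFun hr 1) 2
  simp [uxy, Matrix.scalar_apply, Matrix.diagonal_apply] at h02 h12
  exact ⟨h02.symm, h12.symm⟩

theorem mk_uxy_ne {x y x' y' : F} (h : (x, y) ≠ (x', y')) :
    (QuotientGroup.mk (uxy x y) : ProjectiveSpecialLinearGroup (Fin 3) F) ≠ QuotientGroup.mk (uxy x' y') := by
  intro h1
  rw [QuotientGroup.eq] at h1
  have h2 : (uxy x y)⁻¹ = uxy (-x) (-y) := by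
    apply inv_eq_of_mul_eq_one_right
    rw [uxy_mul, add_neg_cancel, add_neg_cancel]
    apply Subtype.ext
    ext i j
    (revert i j; simp only [uxy, _root_.Fin.forall_fin_succ, _root_.Matrix.of_apply, _root_.Matrix.cons_val', _root_.Matrix.cons_val_fin_one, _root_.Matrix.SpecialLinearGroup.coe_one, Fin.isValue, _root_.Matrix.cons_val_zero, _root_.Matrix.cons_val_succ, _root_.IsEmpty.forall_iff, _root_.and_true, _root_.Matrix.one_apply_eq, Nat.reduceAdd, _root_.Fin.succ_zero_eq_one, _root_.ne_eq, _root_.zero_ne_one, _root_.not_false_eq_true, _root_.Matrix.one_apply_ne, _root_.Fin.succ_one_eq_two, Fin.reduceEq, _root_.and_self, _root_.Fin.succ_ne_zero, _root_.true_and])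
  rw [h2, uxy_mul] at h1
  obtain ⟨h3, h4⟩ := uxy_center h1
  apply h
  rw [Prod.mk.injEq]
  exact ⟨(neg_add_eq_zero.1 h3), (neg_add_eq_zero.1 h4)⟩

variable [Fintype F]

theorem two_eq_zero (hF : Fintype.card F = 4) : (2 : F) = 0 := by
  have h4 : ((Fintype.card F : ℕ) : F) = 0 := Nat.cast_card_eq_zero F
  rw [hF] at h4
  have : (2 : F) * 2 = 0 := by
    have h5 : ((4 : ℕ) : F) = 2 * 2 := by norm_num
    rw [← h5, h4]
  simpa only [_root_.mul_eq_zero, _root_.or_self] using this

theorem add_self' (hF : Fintype.card F = 4) (x : F) : x + x = 0 := by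
  rw [← two_mul, two_eq_zero hF, zero_mul]

/-- the transvection -/
def tv : _root_.Matrix.SpecialLinearGroup (Fin 3) F := ⟨!![1, 1, 0; 0, 1, 0; 0, 0, 1], by
  simp [det_fin_three]⟩

omit [Fintype F] in
theorem tv_val : (tv (F := F)).val = !![1, 1, 0; 0, 1, 0; 0, 0, 1] := rfl

theorem tv_tv (hF : Fintype.card F = 4) : (tv : _root_.Matrix.SpecialLinearGroup (Fin 3) F) * tv = 1 := by
  apply Subtype.ext
  change (tv (F := F)).val * (tv (F := F)).val = 1
  have := add_self' hF (1 : F)
  rw [tv_val]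
  ext i j
  (revert i j; simp only [Matrix.mul_apply, Fin.sum_univ_three, this, _root_.Fin.forall_fin_succ, _root_.Matrix.of_apply, _root_.Matrix.cons_val', _root_.Matrix.cons_val_fin_one, Fin.isValue, _root_.Matrix.cons_val_zero, _root_.Matrix.cons_val_one, _root_.Matrix.cons_val, _root_.mul_one, _root_.MulZeroClass.mul_zero, _root_.add_zero, _root_.Matrix.cons_val_succ, _root_.zero_add, _root_.IsEmpty.forall_iff, _root_.and_true, _root_.Matrix.one_apply_eq, Nat.reduceAdd, _root_.Fin.succ_zero_eq_one, _root_.ne_eq, _root_.zero_ne_one, _root_.not_false_eq_true, _root_.Matrix.one_apply_ne, _root_.Fin.succ_one_eq_two, Fin.reduceEq, _root_.and_self, _root_.Fin.succ_ne_zero, _root_.true_and])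

theorem tv_not_center : (tv : _root_.Matrix.SpecialLinearGroup (Fin 3) F) ∉ center (_root_.Matrix.SpecialLinearGroup (Fin 3) F) := by
  intro h
  obtain ⟨r, -, hr⟩ := Matrix.SpecialLinearGroup.mem_center_iff.mp h
  have h01 := congrFun (congrFun hr 0) 1
  have h2 : (tv (F := F)).val 0 1 = 1 := by rw [tv_val]; simp
  change _ = (tv (F := F)).val 0 1 at h01
  rw [h2] at h01
  simp [Matrix.scalar_apply, Matrix.diagonal_apply] at h01

theorem pow_three_of_center {z : _root_.Matrix.SpecialLinearGroup (Fin 3) F} (hz : z ∈ center (_root_.Matrix.SpecialLinearGroup (Fin 3) F)) :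
    z ^ 3 = 1 := by
  obtain ⟨r, hr, hr'⟩ := Matrix.SpecialLinearGroup.mem_center_iff.mp hz
  rw [Fintype.card_fin] at hr
  apply Subtype.ext
  rw [Matrix.SpecialLinearGroup.coe_pow, ← hr', ← map_pow, hr, map_one]
  rfl

theorem pow_four (hF : Fintype.card F = 4) {g : _root_.Matrix.SpecialLinearGroup (Fin 3) F} (hg : g * tv = tv * g) :
    g ^ 4 ∈ center (_root_.Matrix.SpecialLinearGroup (Fin 3) F) := by
  have ha := add_self' hF
  have h1 : ∀ i j, (g * tv).val i j = (tv * g).val i j := fun i j => by rw [hg]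
  have h2 : ∀ i j, (g * tv).val i j = g.val i j + (if j = 1 then g.val i 0 else 0) := by
    intro i j
    change (g.val * (tv (F := F)).val) i j = _
    rw [Matrix.mul_apply, Fin.sum_univ_three, tv_val]
    (revert j; simp only [_root_.Fin.forall_fin_succ, Fin.isValue, _root_.Matrix.of_apply, _root_.Matrix.cons_val', _root_.Matrix.cons_val_fin_one, _root_.Matrix.cons_val_zero, _root_.Matrix.cons_val_one, _root_.Matrix.cons_val, _root_.mul_one, _root_.MulZeroClass.mul_zero, _root_.add_zero, _root_.zero_ne_one, ↓reduceIte, _root_.Matrix.cons_val_succ, _root_.Fin.succ_zero_eq_one, _root_.zero_add, _root_.Fin.succ_one_eq_two, Fin.reduceEq, _root_.IsEmpty.forall_iff, _root_.and_true, _root_.true_and]) <;> (repeat' with_reducible apply And.intro)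
    exact add_comm _ _
  have h3 : ∀ i j, (tv * g).val i j = g.val i j + (if i = 0 then g.val 1 j else 0) := by
    intro i j
    change ((tv (F := F)).val * g.val) i j = _
    rw [Matrix.mul_apply, Fin.sum_univ_three, tv_val]
    (revert i; simp only [_root_.Fin.forall_fin_succ, Fin.isValue, _root_.Matrix.of_apply, _root_.Matrix.cons_val', _root_.Matrix.cons_val_zero, _root_.Matrix.cons_val_fin_one, _root_.Matrix.cons_val_one, _root_.Matrix.cons_val, _root_.one_mul, _root_.MulZeroClass.zero_mul, _root_.add_zero, ↓reduceIte, _root_.Matrix.cons_val_succ, _root_.Fin.succ_ne_zero, _root_.zero_add, _root_.Fin.succ_zero_eq_one, _root_.Fin.succ_one_eq_two, _root_.IsEmpty.forall_iff, _root_.and_self])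
  have h4 : ∀ i j, (if j = 1 then g.val i 0 else 0) = (if i = 0 then g.val 1 j else 0) := by
    intro i j
    have := h1 i j
    rw [h2, h3] at this
    exact add_left_cancel this
  have g10 : g.val 1 0 = 0 := by simpa using (h4 0 0).symm
  have g11 : g.val 1 1 = g.val 0 0 := by simpa using (h4 0 1).symm
  have g12 : g.val 1 2 = 0 := by simpa using (h4 0 2).symm
  have g20 : g.val 2 0 = 0 := by simpa using (h4 2 1)
  have hdet : g.val.det = 1 := g.2
  rw [det_fin_three, g10, g11, g12, g20] at hdet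
  set a := g.val 0 0 with had
  have hd2 : a * a * g.val 2 2 = 1 := by linear_combination hdet
  have ha0 : a ≠ 0 := by
    intro h0
    rw [h0] at hd2
    simp at hd2
  have ha3 : a ^ 3 = 1 := by
    have := FiniteField.pow_card_sub_one_eq_one a ha0
    rwa [hF] at this
  have g22 : g.val 2 2 = a := by
    have : a * a * g.val 2 2 = a * a * a := by
      rw [hd2]
      have : a * a * a = a ^ 3 := by ring
      rw [this, ha3]
    exact mul_left_cancel₀ (mul_ne_zero ha0 ha0) this
  set b := g.val 0 1 with hb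
  set p := g.val 0 2 with hp
  set q := g.val 2 1 with hq
  have hg : g.val = !![a, b, p; 0, a, 0; 0, q, a] := by
    ext i j
    (revert i j; simp only [had, hb, hp, hq, g10, g11, g12, g20, g22, _root_.Fin.forall_fin_succ, Fin.isValue, _root_.Matrix.of_apply, _root_.Matrix.cons_val', _root_.Matrix.cons_val_fin_one, _root_.Matrix.cons_val_zero, _root_.Matrix.cons_val_succ, _root_.Fin.succ_zero_eq_one, _root_.Fin.succ_one_eq_two, _root_.IsEmpty.forall_iff, _root_.and_true, _root_.and_self])
  have hg2 : g.val * g.val = !![a * a, p * q, 0; 0, a * a, 0; 0, 0, a * a] := by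
    rw [hg]
    ext i j
    fin_cases i <;> fin_cases j <;> simp only [Matrix.mul_apply, Fin.sum_univ_three, _root_.Fin.zero_eta, _root_.Fin.isValue, _root_.Matrix.of_apply, _root_.Matrix.cons_val', _root_.Matrix.cons_val_fin_one, _root_.Matrix.cons_val_zero, _root_.Matrix.cons_val_one, _root_.MulZeroClass.mul_zero, _root_.add_zero, _root_.Matrix.cons_val, _root_.Fin.mk_one, _root_.add_eq_right, _root_.Fin.reduceFinMk, _root_.MulZeroClass.zero_mul, _root_.zero_add]
    · linear_combination ha (a * b)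
    · linear_combination ha (a * p)
    · linear_combination ha (a * q)
  have hg4 : (g ^ 4).val = !![a, 0, 0; 0, a, 0; 0, 0, a] := by
    have e1 : (g ^ 4).val = (g.val * g.val) * (g.val * g.val) := by
      rw [Matrix.SpecialLinearGroup.coe_pow]
      have : g.val ^ 4 = (g.val * g.val) * (g.val * g.val) := by
        rw [← pow_two, ← pow_two, ← pow_mul]
      exact this
    have e2 : a * a * (a * a) = a := by
      linear_combination a * ha3
    rw [e1, hg2]
    ext i j
    (revert i j; simp only [Matrix.mul_apply, Fin.sum_univ_three, e2, _root_.Fin.forall_fin_succ, _root_.Matrix.of_apply, _root_.Matrix.cons_val', _root_.Matrix.cons_val_fin_one, Fin.isValue, _root_.Matrix.cons_val_zero, _root_.Matrix.cons_val_one, _root_.Matrix.cons_val, _root_.MulZeroClass.mul_zero, _root_.add_zero, _root_.Matrix.cons_val_succ, _root_.zero_add, _root_.forall_const, _root_.MulZeroClass.zero_mul, _root_.implies_true, _root_.and_true, _root_.true_and]) <;> (repeat' with_reducible apply And.intro)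
    linear_combination ha (a * a * (p * q))
  rw [Matrix.SpecialLinearGroup.mem_center_iff]
  refine ⟨a, by rw [Fintype.card_fin]; exact ha3, ?_⟩
  change _ = (g ^ 4).val
  rw [hg4]
  ext i j
  (revert i j; simp only [Matrix.scalar_apply, Matrix.diagonal_apply, _root_.Fin.forall_fin_succ, _root_.Matrix.of_apply, _root_.Matrix.cons_val', _root_.Matrix.cons_val_fin_one, Fin.isValue, _root_.Matrix.cons_val_zero, _root_.Matrix.cons_val_succ, _root_.Fin.succ_zero_eq_one, _root_.Fin.succ_one_eq_two, _root_.IsEmpty.forall_iff, _root_.and_true, ↓reduceIte, _root_.zero_ne_one, Fin.reduceEq, _root_.and_self, _root_.Fin.succ_ne_zero, _root_.ite_eq_right_iff, _root_.ite_eq_left_iff, _root_.true_and, _root_.not_true_eq_false])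

theorem easy_psl34 (hF : Fintype.card F = 4) : Easy (ProjectiveSpecialLinearGroup (Fin 3) F) := by
  have : Fact (Nat.Prime 2) := ⟨Nat.prime_two⟩
  have hcl : OneCl (ProjectiveSpecialLinearGroup (Fin 3) F) := by
    intro s t hs hs1 ht ht1
    exact Cfsg.Agent.S0820.result hF s t (orderOf_eq_prime (by rw [pow_two, hs]) hs1)
      (orderOf_eq_prime (by rw [pow_two, ht]) ht1)
  have ha := add_self' hF
  refine ⟨hcl, ?_, ?_⟩
  · -- the fixed transvection
    have key : ∀ x : ProjectiveSpecialLinearGroup (Fin 3) F,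
        x * QuotientGroup.mk tv * x⁻¹ = QuotientGroup.mk tv → x ^ 4 = 1 := by
      intro x hx
      obtain ⟨g, rfl⟩ := QuotientGroup.mk_surjective x
      have h1 : (g * tv * g⁻¹)⁻¹ * tv ∈ center (_root_.Matrix.SpecialLinearGroup (Fin 3) F) := by
        rw [← QuotientGroup.eq]
        exact hx
      obtain ⟨z, hz⟩ : ∃ z, z = (g * tv * g⁻¹)⁻¹ * tv := ⟨_, rfl⟩
      rw [← hz] at h1
      have hzc := mem_center_iff.1 h1
      have h2 : tv = g * tv * g⁻¹ * z := by rw [hz]; group
      have h3 : z * z = 1 := by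
        have h4 : (tv : _root_.Matrix.SpecialLinearGroup (Fin 3) F) * tv = 1 := tv_tv hF
        calc z * z = (g * (tv * tv) * g⁻¹) * (z * z) := by rw [h4]; group
          _ = (g * tv * g⁻¹) * ((g * tv * g⁻¹) * z) * z := by group
          _ = (g * tv * g⁻¹) * (z * (g * tv * g⁻¹)) * z := by rw [hzc (g * tv * g⁻¹)]
          _ = (g * tv * g⁻¹ * z) * (g * tv * g⁻¹ * z) := by group
          _ = 1 := by rw [← h2, h4]
      have h5 : z = 1 := by
        have h6 := pow_three_of_center h1
        have h7 : z ^ 3 = z * z * z := by rw [pow_succ, pow_two]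
        rw [h7, h3, one_mul] at h6
        exact h6
      rw [h5, mul_one] at h2
      have h7 : g * tv = tv * g := by
        rw [← mul_inv_eq_iff_eq_mul]
        exact h2.symm
      have h8 := pow_four hF h7
      rw [← QuotientGroup.eq_one_iff] at h8
      exact h8
    have htv : (QuotientGroup.mk tv : ProjectiveSpecialLinearGroup (Fin 3) F) * QuotientGroup.mk tv = 1 := by
      rw [← QuotientGroup.mk_mul, tv_tv hF]
      rfl
    have htv1 : (QuotientGroup.mk tv : ProjectiveSpecialLinearGroup (Fin 3) F) ≠ 1 := by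
      intro h1
      exact tv_not_center ((QuotientGroup.eq_one_iff _).1 h1)
    intro s hs hs1
    obtain ⟨c, hc⟩ := isConj_iff.1 (hcl _ s htv htv1 hs hs1)
    rintro ⟨x, hx⟩
    refine ⟨2, Subtype.ext ?_⟩
    change x ^ 4 = 1
    rw [mem_cent] at hx
    have h1 : (c⁻¹ * x * c) ^ 4 = 1 := by
      apply key
      rw [← hc] at hx
      calc c⁻¹ * x * c * QuotientGroup.mk tv * (c⁻¹ * x * c)⁻¹
          = c⁻¹ * (x * (c * QuotientGroup.mk tv * c⁻¹) * x⁻¹) * c := by group
        _ = QuotientGroup.mk tv := by rw [hx]; group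
    have h2 : (c⁻¹ * x * c) ^ 4 = c⁻¹ * x ^ 4 * c := by
      have := conj_pow (a := c⁻¹) (b := x) (i := 4)
      rwa [inv_inv] at this
    rw [h2] at h1
    calc x ^ 4 = c * (c⁻¹ * x ^ 4 * c) * c⁻¹ := by group
      _ = 1 := by rw [h1]; group
  · obtain ⟨w, hw⟩ : ∃ w : F, w ≠ 0 ∧ w ≠ 1 := by
      by_contra hcon
      push Not at hcon
      have : Fintype.card F ≤ 2 := by
        classical
        have h1 : (Finset.univ : Finset F) ⊆ {0, 1} := by
          intro x _
          by_cases h0 : x = 0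
          · simp only [h0, _root_.Finset.mem_insert, _root_.Finset.mem_singleton, _root_.zero_ne_one, _root_.or_false]
          · simp only [hcon x h0, _root_.Finset.mem_insert, _root_.one_ne_zero, _root_.Finset.mem_singleton, _root_.or_true]
        have h2 := Finset.card_le_card h1
        rw [Finset.card_univ] at h2
        exact h2.trans Finset.card_le_two
      omega
    have e00 : uxy (0 : F) 0 = 1 := by
      apply Subtype.ext
      ext i j
      (revert i j; simp only [uxy, _root_.Fin.forall_fin_succ, _root_.Matrix.of_apply, _root_.Matrix.cons_val', _root_.Matrix.cons_val_fin_one, _root_.Matrix.SpecialLinearGroup.coe_one, Fin.isValue, _root_.Matrix.cons_val_zero, _root_.Matrix.cons_val_succ, _root_.IsEmpty.forall_iff, _root_.and_true, _root_.Matrix.one_apply_eq, Nat.reduceAdd, _root_.Fin.succ_zero_eq_one, _root_.ne_eq, _root_.zero_ne_one, _root_.not_false_eq_true, _root_.Matrix.one_apply_ne, _root_.Fin.succ_one_eq_two, Fin.reduceEq, _root_.and_self, _root_.Fin.succ_ne_zero,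 _root_.true_and])
    have hone : (1 : ProjectiveSpecialLinearGroup (Fin 3) F) = QuotientGroup.mk (uxy 0 0) := by rw [e00]; rfl
    have hmul : ∀ x y x' y' : F, (QuotientGroup.mk (uxy x y) : ProjectiveSpecialLinearGroup (Fin 3) F) *
        QuotientGroup.mk (uxy x' y') = QuotientGroup.mk (uxy (x + x') (y + y')) := by
      intro x y x' y'
      rw [← uxy_mul]
      rfl
    refine ⟨QuotientGroup.mk (uxy 1 0), QuotientGroup.mk (uxy w 0), QuotientGroup.mk (uxy 0 1), ?_⟩
    constructor
    · rw [hmul, ha, ha, hone]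
    · rw [hmul, ha, ha, hone]
    · rw [hmul, ha, ha, hone]
    · rw [hmul, hmul, add_comm 1 w]
    · rw [hmul, hmul, add_comm 1 0, add_comm (0 : F) 1]
    · rw [hmul, hmul, add_comm w 0, add_comm (0 : F) 1]
    · rw [hone]; apply mk_uxy_ne; simp
    · rw [hone]; apply mk_uxy_ne; simp [hw.1]
    · rw [hone]; apply mk_uxy_ne; simp
    · apply mk_uxy_ne
      intro h
      rw [Prod.mk.injEq] at h
      exact hw.2 h.1.symm
    · apply mk_uxy_ne; simp
    · apply mk_uxy_ne; simp
    · rw [hmul]; apply mk_uxy_ne; simp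

theorem nu_psl34 (hF : Fintype.card F = 4) : nu (Nat.card (ProjectiveSpecialLinearGroup (Fin 3) F)) = 6 := by
  have h := Cfsg.Agent.S0243.result hF 3 (by norm_num)
  have h2 : Nat.card (ProjectiveSpecialLinearGroup (Fin 3) F) = 20160 := by
    simp only [Fin.prod_univ_three, _root_.Nat.add_one_sub_one, _root_.Nat.gcd_self, _root_.Nat.reducePow, _root_.Fin.isValue, _root_.Fin.coe_ofNat_eq_mod, _root_.Nat.zero_mod, _root_.pow_zero, _root_.Nat.one_mod, _root_.pow_one, _root_.Nat.reduceSub, _root_.Nat.reduceMul, _root_.Nat.mod_succ] at h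
    omega
  rw [h2]
  have : (20160 : ℕ) = 2 ^ 6 * 315 := by norm_num
  rw [this, nu_mul (by norm_num) (by norm_num), nu_two_pow, nu_odd (by decide)]

end PSL

end Cfsg.Agent.H466.RT

private theorem dce_e403a75d989e : _root_.True := by
  try have : _root_.True := by simp only [_root_.Matrix.ProjectiveSpecialLinearGroup.congr_simp]
  try have : _root_.True := by simp only [_root_.Cfsg.Agent.H466.RT.uxy.eq_1]
  exact _root_.True.intro
end

-- part: H466/RT/SzEight
section
set_option linter.all false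
open scoped Cfsg.Agent.FastGrp

/-!
# Suzuki groups have one class of involutions, 2-rank at least 3, centralizers of involutions 2-groups
-/

set_option autoImplicit false

namespace Cfsg.Agent.H466.RT

open Subgroup Cfsg

theorem easy_sz {J : Type*} [Group J] [Finite J] (h : Lie.IsoSuzuki J) : Easy J := by
  have : Fact (Nat.Prime 2) := ⟨Nat.prime_two⟩
  refine ⟨?_, ?_, ?_⟩
  · intro s t hs hs1 ht ht1
    exact isConj_iff.2 (Cfsg.Agent.OddCyclic.FFSz.conj_inv h hs hs1 ht ht1)
  · intro s hs hs1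
    exact Cfsg.Agent.SignalizersComponents.BalEndSz.isPGroup_centralizer_suzuki h
      (orderOf_eq_prime (by rw [pow_two, hs]) hs1)
  · obtain ⟨F, iF, iF', m, hm, hF, ⟨R⟩⟩ := ThreePrime.SzRel.exists_rel h
    have h8 : 8 ≤ Nat.card F := by
      rw [Nat.card_eq_fintype_card, hF]
      exact ThreePrime.SzRel.Rel.eight_le hm
    classical
    have hss : ∀ x : F, x + x = 0 := R.add_self
    obtain ⟨x, hx⟩ := ThreePrime.SzRel.Rel.exists_not_mem h8 ({0, 1} : Finset F)
      (Finset.card_le_two.trans (by norm_num))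
    obtain ⟨y, hy⟩ := ThreePrime.SzRel.Rel.exists_not_mem h8 ({0, 1, x, 1 + x} : Finset F)
      (Finset.card_le_four.trans (by norm_num))
    simp only [Finset.mem_insert, Finset.mem_singleton, not_or] at hx hy
    have hmul : ∀ a b : F, R.u 0 a * R.u 0 b = R.u 0 (a + b) := by
      intro a b
      rw [R.u_mul, add_zero, zero_mul, add_zero]
    have hne : ∀ {a b : F}, a ≠ b → R.u 0 a ≠ R.u 0 b := fun hab hc => hab (R.u_inj hc).2
    refine ⟨R.u 0 1, R.u 0 x, R.u 0 y, ?_⟩
    constructor
    · rw [hmul, hss, R.u_zero]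
    · rw [hmul, hss, R.u_zero]
    · rw [hmul, hss, R.u_zero]
    · rw [hmul, hmul, add_comm]
    · rw [hmul, hmul, add_comm]
    · rw [hmul, hmul, add_comm]
    · rw [← R.u_zero]; exact hne one_ne_zero
    · rw [← R.u_zero]; exact hne hx.1
    · rw [← R.u_zero]; exact hne hy.1
    · exact hne (Ne.symm hx.2)
    · exact hne (Ne.symm hy.2.1)
    · exact hne (Ne.symm hy.2.2.1)
    · rw [hmul]; exact hne (Ne.symm hy.2.2.2)

theorem nu_sz {J : Type*} [Group J] [Finite J] (h : Lie.IsoSuzuki J) : 6 ≤ nu (Nat.card J) := by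
  obtain ⟨F, iF, iF', m, hm, hF, ⟨R⟩⟩ := ThreePrime.SzRel.exists_rel h
  have h1 : Nat.card R.T = 2 ^ (2 * (2 * m + 1)) := by
    rw [R.card_T, Nat.card_eq_fintype_card, hF, ← pow_add]
    congr 1
    ring
  have h2 : nu (Nat.card R.T) ≤ nu (Nat.card J) := nu_le Nat.card_pos.ne' (card_subgroup_dvd_card _)
  rw [h1, nu_two_pow] at h2
  omega

end Cfsg.Agent.H466.RT
end

-- part: H466/RT/SzEight_mg
section

end

-- part: H466/RT/NoPair
section
prune_inst 0x2000000001000000000000000000002000200002000002000000000000000000000000000000000000000000000000000000000000000000201000000000000000000000000000000000000000000000000000000000000000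
set_option linter.all false
open scoped Cfsg.Agent.FastGrp

-- part: H466/RT/RankOne
section
/-!
# Pairs with `K / Z(K) = PSL(2, q)`, `q` odd
-/

set_option autoImplicit false

namespace Cfsg.Agent.H466.RT

open Subgroup Cfsg

/-- centre of order 2, involutions central, quaternion subgroup, small real element of odd order -/
structure ROne (L : Type*) [Group L] : Prop where
  card : Nat.card (center L) = 2
  inv : ∀ x : L, x * x = 1 → x ∈ center L
  quat : HasQ L
  real : ∃ x : L, Real' x ∧ Odd (orderOf x) ∧ x ≠ 1 ∧ nu (Nat.card (centralizer ({x} : Set L))) + 2 ≤ nu (Nat.card L)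

theorem Real'.map {G H : Type*} [Group G] [Group H] (f : G →* H) {x : G} (h : Real' x) : Real' (f x) := by
  obtain ⟨g, hg⟩ := h
  exact ⟨f g, by rw [← map_mul, ← map_inv, ← map_mul, hg, map_inv]⟩

theorem card_centralizer_equiv {G H : Type*} [Group G] [Group H] (e : G ≃* H) (x : G) :
    Nat.card (centralizer ({e x} : Set H)) = Nat.card (centralizer ({x} : Set G)) := by
  have h1 : centralizer ({e x} : Set H) = (centralizer ({x} : Set G)).map e.toMonoidHom := by
    ext y
    rw [mem_map, mem_cent]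
    constructor
    · intro hy
      refine ⟨e.symm y, ?_, e.apply_symm_apply y⟩
      rw [mem_cent]
      apply e.injective
      rw [map_mul, map_mul, map_inv, e.apply_symm_apply]
      exact hy
    · rintro ⟨y, hy, rfl⟩
      have h2 := mem_cent.1 hy
      change e y * e x * (e y)⁻¹ = e x
      rw [← map_mul, ← map_inv, ← map_mul, h2]
  rw [h1]
  exact card_map_of_injective e.injective

theorem ROne.of_equiv {L L' : Type*} [Group L] [Group L'] (e : L ≃* L') (h : ROne L) : ROne L' := by
  refine ⟨?_, ?_, ?_, ?_⟩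
  · rw [← h.card]
    exact Nat.card_congr (Subgroup.centerCongr e).symm.toEquiv
  · intro x hx
    have h1 : e.symm x * e.symm x = 1 := by rw [← map_mul, hx, map_one]
    have h2 := mem_center_iff.1 (h.inv _ h1)
    rw [mem_center_iff]
    intro g
    apply e.symm.injective
    rw [map_mul, map_mul]
    exact h2 _
  · exact h.quat.map (f := e.toMonoidHom) e.injective
  · obtain ⟨x, h1, h2, h3, h4⟩ := h.real
    refine ⟨e x, h1.map e.toMonoidHom, ?_, ?_, ?_⟩
    · have : orderOf (e x) = orderOf x := MulEquiv.orderOf_eq e x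
      rw [this]
      exact h2
    · exact fun h5 => h3 ((map_eq_one_iff e e.injective).1 h5)
    · rw [card_centralizer_equiv, ← Nat.card_congr e.toEquiv]
      exact h4

theorem Pair.not_rOne {M : Type*} [Group M] [Finite M] {K : Subgroup M} {c : ℕ} (h : Pair M K c) : ¬ ROne K := by
  intro hr
  obtain ⟨i, j, hq⟩ := hr.quat
  have hcm := hq.comm
  have hii : i * i ∈ center K := by
    apply hr.inv
    have h1 : j * (i * i) = i * i * j := by rw [hq.1]; exact (mul_assoc j j j).symm
    have h2 : i * j * (i * j) = i * i := hq.2.1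
    -- `i² = i j i j`, `j i j = i`
    have h3 : j * i * j = i := by
      have : i * (j * i * j) = i * i := by rw [← h2]; simp only [mul_assoc]
      exact mul_left_cancel this
    have h4 : j * j * (i * i) = 1 := by
      -- `i = j i j = j (j i j) j = j² i j²`
      have h5 : i = j * j * i * (j * j) := by
        calc i = j * i * j := h3.symm
          _ = j * (j * i * j) * j := congrArg (fun t => j * t * j) h3.symm
          _ = j * j * i * (j * j) := by simp only [mul_assoc]
      have h6 : i * (j * j) = j * j * i := by rw [← hq.1]; simp only [mul_assoc]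
      have h7 : i = j * j * (j * j) * i := by
        calc i = j * j * (i * (j * j)) := by rw [← mul_assoc]; exact h5
          _ = j * j * (j * j) * i := by rw [h6]; simp only [mul_assoc]
      rw [hq.1]
      have h8 : j * j * (j * j) * i = 1 * i := by rw [one_mul]; exact h7.symm
      exact mul_right_cancel h8
    rw [hq.1] at h4 ⊢
    exact h4
  have hin : i ∉ center K := by
    intro h1
    have h2 := mem_center_iff.1 h1 j
    apply hq.2.2
    rw [← hcm]
    calc i⁻¹ * j⁻¹ * i * j = i⁻¹ * j⁻¹ * (i * j) := by rw [mul_assoc]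
      _ = i⁻¹ * j⁻¹ * (j * i) := by rw [h2]
      _ = 1 := by group
  have hjn : j ∉ center K := by
    intro h1
    have h2 := mem_center_iff.1 h1 i
    apply hq.2.2
    rw [← hcm]
    calc i⁻¹ * j⁻¹ * i * j = i⁻¹ * j⁻¹ * (i * j) := by rw [mul_assoc]
      _ = i⁻¹ * j⁻¹ * (j * i) := by rw [h2]
      _ = 1 := by group
  apply h.false_of_rankOne hr.card hr.inv ?_ hr.real
  have e1 : ∀ x : K, (x : K ⧸ center K) = 1 ↔ x ∈ center K := fun x => QuotientGroup.eq_one_iff x
  refine ⟨(i : K ⧸ center K), (j : K ⧸ center K), ?_, ?_, ?_, ?_, ?_, ?_⟩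
  · rw [← QuotientGroup.mk_mul, e1]; exact hii
  · rw [← QuotientGroup.mk_mul, e1, ← hq.1]; exact hii
  · rw [Ne, e1]; exact hin
  · rw [Ne, e1]; exact hjn
  · intro h1
    rw [QuotientGroup.eq] at h1
    have h2 := mem_center_iff.1 h1 i
    have h3 : i * j = j * i := by
      calc i * j = i * (i * (i⁻¹ * j)) := by group
        _ = i * (i⁻¹ * j * i) := by rw [h2]
        _ = j * i := by group
    apply hq.2.2
    rw [← hcm]
    calc i⁻¹ * j⁻¹ * i * j = i⁻¹ * j⁻¹ * (i * j) := by rw [mul_assoc]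
      _ = i⁻¹ * j⁻¹ * (j * i) := by rw [h3]
      _ = 1 := by group
  · rw [← QuotientGroup.mk_mul, ← QuotientGroup.mk_mul, QuotientGroup.eq]
    have h1 : (i * j)⁻¹ * (j * i) = (i * i)⁻¹ := by
      rw [← hcm]; group
    rw [h1]
    exact (center K).inv_mem hii

end Cfsg.Agent.H466.RT
end

-- part: H466/RT/PslTwo
section
/-!
# `SL(2, q)`, `q ≥ 5` odd
-/

set_option autoImplicit false

namespace Cfsg.Agent.H466.RT

open Subgroup Cfsg Matrix

variable {F : Type*} [Field F] [Fintype F]

/-- the matrix -/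
def mt (A : _root_.Matrix.SpecialLinearGroup (Fin 2) F) : Matrix (Fin 2) (Fin 2) F := A.val

omit [Fintype F] in
theorem mt_mul (A B : _root_.Matrix.SpecialLinearGroup (Fin 2) F) : mt (A * B) = mt A * mt B := rfl

omit [Fintype F] in
theorem mt_one : mt (1 : _root_.Matrix.SpecialLinearGroup (Fin 2) F) = 1 := rfl

omit [Fintype F] in
theorem mt_neg_one : mt (-1 : _root_.Matrix.SpecialLinearGroup (Fin 2) F) = -1 := rfl

omit [Fintype F] in
theorem mt_ext {A B : _root_.Matrix.SpecialLinearGroup (Fin 2) F} (h : mt A = mt B) : A = B := Subtype.ext h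

omit [Fintype F] in
theorem mt_mul_apply (A B : _root_.Matrix.SpecialLinearGroup (Fin 2) F) (i j : Fin 2) :
    mt (A * B) i j = mt A i 0 * mt B 0 j + mt A i 1 * mt B 1 j := by
  rw [mt_mul, Matrix.mul_apply, Fin.sum_univ_two]

omit [Fintype F] in
/-- if no element commuting with `x` has square `-1` then 4 does not divide the order of the centralizer -/
theorem nu_le_one [Finite F] (h2 : (2 : F) ≠ 0) {x : _root_.Matrix.SpecialLinearGroup (Fin 2) F}
    (h : ∀ z, z * x = x * z → z * z ≠ -1) : nu (Nat.card (centralizer ({x} : Set (_root_.Matrix.SpecialLinearGroup (Fin 2) F)))) ≤ 1 := by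
  by_contra hcon
  have h3 : 4 ∣ Nat.card (centralizer ({x} : Set (_root_.Matrix.SpecialLinearGroup (Fin 2) F))) := by
    have h4 := dvd_of_le_nu (n := Nat.card (centralizer ({x} : Set (_root_.Matrix.SpecialLinearGroup (Fin 2) F))))
      (k := 2) (card_ne _) (by omega)
    simpa only [_root_.Nat.reducePow] using h4
  obtain ⟨a, -, z, hz, ha1, haa, -, hz1, hza, hzz⟩ := Cfsg.Agent.StdAlt.PermTypes.exists_pair_of_four_dvd _ h3
  have h4 := Cfsg.Agent.ClassicalGeometry.SLTwoFour.eq_one_or_neg_one_of_mul_self h2 a haa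
  have h5 : a = -1 := h4.resolve_left ha1
  rcases hzz with h6 | h6
  · rcases Cfsg.Agent.ClassicalGeometry.SLTwoFour.eq_one_or_neg_one_of_mul_self h2 z h6 with h7 | h7
    · exact hz1 h7
    · exact hza (h7.trans h5.symm)
  · rw [h5] at h6
    refine h z ?_ h6
    have := mem_cent.1 hz
    rw [mul_inv_eq_iff_eq_mul] at this
    exact this

theorem rOne_sl (hodd : Odd (Fintype.card F)) (h5 : 5 ≤ Fintype.card F) : ROne (_root_.Matrix.SpecialLinearGroup (Fin 2) F) := by
  classical
  have h2 : (2 : F) ≠ 0 := by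
    intro h2
    have h3 : CharP F 2 := CharTwo.of_one_ne_zero_of_two_eq_zero one_ne_zero h2
    obtain ⟨n, -, hn⟩ := FiniteField.card F 2
    rw [hn] at hodd
    obtain ⟨m, hm⟩ := Nat.exists_eq_succ_of_ne_zero n.ne_zero
    rw [hm, pow_succ, Nat.odd_iff] at hodd
    omega
  have hinv : ∀ x : _root_.Matrix.SpecialLinearGroup (Fin 2) F, x * x = 1 → x ∈ center (_root_.Matrix.SpecialLinearGroup (Fin 2) F) := by
    intro x hx
    rw [Cfsg.Agent.ClassicalGeometry.PSL2Basic.mem_center_SL2_iff]
    exact Cfsg.Agent.ClassicalGeometry.SLTwoFour.eq_one_or_neg_one_of_mul_self h2 x hx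
  have hnu : 3 ≤ nu (Nat.card (_root_.Matrix.SpecialLinearGroup (Fin 2) F)) := by
    have h3 : 2 ^ 3 ∣ Nat.card (_root_.Matrix.SpecialLinearGroup (Fin 2) F) := by
      rw [Cfsg.Agent.ClassicalGeometry.PSL2Basic.card_SL2]
      apply Dvd.dvd.mul_left
      obtain ⟨m, hm⟩ := hodd
      rw [hm]
      have h4 : (2 * m + 1) ^ 2 - 1 = 4 * (m * (m + 1)) := by
        have : (2 * m + 1) ^ 2 = 4 * (m * (m + 1)) + 1 := by ring
        omega
      rw [h4]
      have h5 : 2 ∣ m * (m + 1) := (Nat.even_mul_succ_self m).two_dvd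
      obtain ⟨k, hk⟩ := h5
      exact ⟨k, by rw [hk]; ring⟩
    exact (Nat.Prime.pow_dvd_iff_le_factorization Nat.prime_two Nat.card_pos.ne').1 h3
  refine ⟨Cfsg.Agent.ClassicalGeometry.PSL2Basic.card_center_SL2_odd h2, hinv, (hasSL_sl_two h2).hasQ, ?_⟩
  by_cases hm : Fintype.card F % 4 = 3
  · -- torus element
    obtain ⟨a, ha⟩ : ∃ a : F, a ∉ ({0, 1, -1} : Finset F) := by
      by_contra hcon
      push Not at hcon
      have h1 : (Finset.univ : Finset F) ⊆ {0, 1, -1} := fun x _ => hcon x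
      have h3 := Finset.card_le_card h1
      rw [Finset.card_univ] at h3
      have h4 : ({0, 1, -1} : Finset F).card ≤ 3 := Finset.card_le_three
      omega
    simp only [Finset.mem_insert, Finset.mem_singleton, not_or] at ha
    obtain ⟨ha0, ha1, ham⟩ := ha
    have hns : ∀ b : F, b * b ≠ -1 := by
      intro b hb
      have := FiniteField.isSquare_neg_one_iff (F := F)
      exact (this.1 ⟨b, hb.symm⟩) hm
    have hb1 : a ^ 2 ≠ 1 := by
      intro h
      have h3 : (a - 1) * (a + 1) = 0 := by linear_combination h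
      rcases mul_eq_zero.1 h3 with h4 | h4
      · exact ha1 (by linear_combination h4)
      · exact ham (by linear_combination h4)
    have hbb : a ^ 2 * a ^ 2 ≠ 1 := by
      intro h
      have h3 : (a ^ 2 - 1) * (a ^ 2 + 1) = 0 := by linear_combination h
      rcases mul_eq_zero.1 h3 with h4 | h4
      · exact hb1 (by linear_combination h4)
      · exact hns a (by linear_combination h4)
    let x : _root_.Matrix.SpecialLinearGroup (Fin 2) F := ⟨!![a ^ 2, 0; 0, (a ^ 2)⁻¹], by
      rw [det_fin_two_of]; field_simp; ring⟩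
    let t : _root_.Matrix.SpecialLinearGroup (Fin 2) F := ⟨!![0, 1; -1, 0], by rw [det_fin_two_of]; ring⟩
    let x' : _root_.Matrix.SpecialLinearGroup (Fin 2) F := ⟨!![(a ^ 2)⁻¹, 0; 0, a ^ 2], by
      rw [det_fin_two_of]; field_simp; ring⟩
    have hxx' : x * x' = 1 := by
      have h : !![a ^ 2, 0; 0, (a ^ 2)⁻¹] * !![(a ^ 2)⁻¹, 0; 0, a ^ 2] = (1 : Matrix (Fin 2) (Fin 2) F) := by
        rw [mul_fin_two, one_fin_two]
        have ha2 : a ^ 2 ≠ 0 := pow_ne_zero 2 ha0
        congr 1
        ext r s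
        (revert r s; simp [ha0, _root_.Fin.forall_fin_succ])
      exact Subtype.ext h
    have hxi : x⁻¹ = x' := inv_eq_of_mul_eq_one_right hxx'
    have hpow : ∀ n : ℕ, mt (x ^ n) = !![(a ^ 2) ^ n, 0; 0, ((a ^ 2)⁻¹) ^ n] := by
      intro n
      induction n with
      | zero => rw [pow_zero, pow_zero, pow_zero, mt_one, one_fin_two]
      | succ n ih =>
        rw [pow_succ, mt_mul, ih]
        change !![(a ^ 2) ^ n, 0; 0, ((a ^ 2)⁻¹) ^ n] * !![a ^ 2, 0; 0, (a ^ 2)⁻¹] = _
        rw [mul_fin_two]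
        simp [pow_succ]
    have hcard : (a ^ 2) ^ ((Fintype.card F - 1) / 2) = 1 := by
      rw [← pow_mul]
      have h3 : 2 * ((Fintype.card F - 1) / 2) = Fintype.card F - 1 := by omega
      rw [h3]
      exact FiniteField.pow_card_sub_one_eq_one a ha0
    refine ⟨x, ⟨t, ?_⟩, ?_, ?_, ?_⟩
    · rw [mul_inv_eq_iff_eq_mul, hxi]
      have h : !![(0 : F), 1; -1, 0] * !![a ^ 2, 0; 0, (a ^ 2)⁻¹] =
          !![(a ^ 2)⁻¹, 0; 0, a ^ 2] * !![(0 : F), 1; -1, 0] := by
        rw [mul_fin_two, mul_fin_two]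
        simp
      exact Subtype.ext h
    · -- the order is odd
      have h3 : x ^ ((Fintype.card F - 1) / 2) = 1 := by
        apply mt_ext
        rw [hpow, inv_pow, hcard, inv_one, mt_one, one_fin_two]
      have h4 : Odd ((Fintype.card F - 1) / 2) := by
        rw [Nat.odd_iff]
        omega
      exact Odd.of_dvd_nat h4 (orderOf_dvd_of_pow_eq_one h3)
    · intro h
      have h3 := congrArg (fun g : _root_.Matrix.SpecialLinearGroup (Fin 2) F => mt g 0 0) h
      exact hb1 h3
    · have h3 : nu (Nat.card (centralizer ({x} : Set (_root_.Matrix.SpecialLinearGroup (Fin 2) F)))) ≤ 1 := by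
        apply nu_le_one h2
        intro z hz hzz
        have h01 := congrArg (fun g : _root_.Matrix.SpecialLinearGroup (Fin 2) F => mt g 0 1) hz
        have hz2 := congrArg (fun g : _root_.Matrix.SpecialLinearGroup (Fin 2) F => mt g 0 0) hzz
        simp only [mt_mul_apply] at h01 hz2
        rw [mt_neg_one] at hz2
        have e00 : mt x 0 0 = a ^ 2 := rfl
        have e01 : mt x 0 1 = 0 := rfl
        have e11 : mt x 1 1 = (a ^ 2)⁻¹ := rfl
        rw [e00, e01, e11] at h01
        have ha2 : a ^ 2 ≠ 0 := pow_ne_zero 2 ha0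
        have hz01 : mt z 0 1 = 0 := by
          have h4 : mt z 0 1 * (a ^ 2 * a ^ 2 - 1) = 0 := by
            have h5 : (a ^ 2)⁻¹ * a ^ 2 = 1 := inv_mul_cancel₀ ha2
            linear_combination (-(a ^ 2)) * h01 + mt z 0 1 * h5
          rcases mul_eq_zero.1 h4 with h5 | h5
          · exact h5
          · exact absurd (by linear_combination h5) hbb
        rw [hz01] at hz2
        apply hns (mt z 0 0)
        have e : (-1 : Matrix (Fin 2) (Fin 2) F) 0 0 = -1 := by simp
        rw [e] at hz2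
        linear_combination hz2
      omega
  · -- unipotent element
    obtain ⟨a, ha⟩ : ∃ a : F, a * a = -1 := by
      obtain ⟨a, ha⟩ := (FiniteField.isSquare_neg_one_iff (F := F)).2 hm
      exact ⟨a, ha.symm⟩
    let x : _root_.Matrix.SpecialLinearGroup (Fin 2) F := ⟨!![1, 1; 0, 1], by rw [det_fin_two_of]; ring⟩
    let x' : _root_.Matrix.SpecialLinearGroup (Fin 2) F := ⟨!![1, -1; 0, 1], by rw [det_fin_two_of]; ring⟩
    let t : _root_.Matrix.SpecialLinearGroup (Fin 2) F := ⟨!![a, 0; 0, -a], by rw [det_fin_two_of]; linear_combination -ha⟩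
    have hxx' : x * x' = 1 := by
      have h : !![(1 : F), 1; 0, 1] * !![1, -1; 0, 1] = (1 : Matrix (Fin 2) (Fin 2) F) := by
        rw [mul_fin_two, one_fin_two]
        simp
      exact Subtype.ext h
    have hxi : x⁻¹ = x' := inv_eq_of_mul_eq_one_right hxx'
    have hpow : ∀ n : ℕ, mt (x ^ n) = !![1, (n : F); 0, 1] := by
      intro n
      induction n with
      | zero => rw [pow_zero, mt_one, one_fin_two, Nat.cast_zero]
      | succ n ih =>
        rw [pow_succ, mt_mul, ih]
        change !![1, (n : F); 0, 1] * !![1, 1; 0, 1] = _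
        rw [mul_fin_two]
        simp only [add_comm, _root_.mul_one, _root_.MulZeroClass.mul_zero, _root_.zero_add, _root_.add_zero, _root_.Nat.cast_add, _root_.Nat.cast_one]
    refine ⟨x, ⟨t, ?_⟩, ?_, ?_, ?_⟩
    · rw [mul_inv_eq_iff_eq_mul, hxi]
      have h : !![a, 0; 0, -a] * !![(1 : F), 1; 0, 1] = !![1, -1; 0, 1] * !![a, 0; 0, -a] := by
        rw [mul_fin_two, mul_fin_two]
        simp
      exact Subtype.ext h
    · have h3 : x ^ Fintype.card F = 1 := by
        apply mt_ext
        rw [hpow, FiniteField.cast_card_eq_zero, mt_one, one_fin_two]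
      exact Odd.of_dvd_nat hodd (orderOf_dvd_of_pow_eq_one h3)
    · intro h
      have h3 := congrArg (fun g : _root_.Matrix.SpecialLinearGroup (Fin 2) F => mt g 0 1) h
      have e : mt (1 : _root_.Matrix.SpecialLinearGroup (Fin 2) F) 0 1 = 0 := by rw [mt_one]; simp
      exact one_ne_zero (h3.trans e)
    · have h3 : nu (Nat.card (centralizer ({x} : Set (_root_.Matrix.SpecialLinearGroup (Fin 2) F)))) ≤ 1 := by
        apply nu_le_one h2
        intro z hz hzz
        have h00 := congrArg (fun g : _root_.Matrix.SpecialLinearGroup (Fin 2) F => mt g 0 0) hz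
        have h01 := congrArg (fun g : _root_.Matrix.SpecialLinearGroup (Fin 2) F => mt g 0 1) hz
        have hz2 := congrArg (fun g : _root_.Matrix.SpecialLinearGroup (Fin 2) F => mt g 0 0) hzz
        have hdet : mt z 0 0 * mt z 1 1 - mt z 0 1 * mt z 1 0 = 1 := by
          have := z.2
          rw [det_fin_two] at this
          exact this
        simp only [mt_mul_apply] at h00 h01 hz2
        rw [mt_neg_one] at hz2
        have e00 : mt x 0 0 = 1 := rfl
        have e01 : mt x 0 1 = 1 := rfl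
        have e10 : mt x 1 0 = 0 := rfl
        have e11 : mt x 1 1 = 1 := rfl
        rw [e00, e01, e10] at h00
        rw [e00, e01, e11] at h01
        have e : (-1 : Matrix (Fin 2) (Fin 2) F) 0 0 = -1 := by simp
        rw [e] at hz2
        have k1 : mt z 1 0 = 0 := by linear_combination -h00
        have k2 : mt z 0 0 = mt z 1 1 := by linear_combination h01
        rw [k1] at hz2 hdet
        rw [← k2] at hdet
        apply h2
        linear_combination hz2 - hdet
      omega

/-- **No pair with `K / Z(K) = PSL(2, q)`, `q ≥ 5` odd.** -/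
theorem Pair.not_psl {M : Type*} [Group M] [Finite M] {K : Subgroup M} {c : ℕ} (h : Pair M K c)
    (hodd : Odd (Fintype.card F)) (h5 : 5 ≤ Fintype.card F)
    (e : K ⧸ center K ≃* ProjectiveSpecialLinearGroup (Fin 2) F) : False := by
  have hodd' : Odd (Nat.card F) := by rwa [Nat.card_eq_fintype_card]
  rcases Cfsg.Agent.OddCyclic.CoverTrans.sl_two_of_perfect h.qs.1.commutator_eq_top h.z2 hodd' e with h1 | ⟨⟨f⟩⟩
  · exact h.zne h1
  · exact h.not_rOne ((rOne_sl hodd h5).of_equiv f.symm)

end Cfsg.Agent.H466.RT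
end

-- part: H466/RT/ASeven
section
/-!
# Pairs with `K / Z(K) = A_7`
-/

set_option autoImplicit false

namespace Cfsg.Agent.H466.RT

open Subgroup Cfsg Equiv
open scoped commutatorElement

/-- a perfect group has no complement to its centre, unless trivial -/
theorem not_isComplement' {K : Type*} [Group K] (hp : commutator K = ⊤) (hz : center K ≠ ⊥) (L : Subgroup K) :
    ¬ (center K).IsComplement' L := by
  intro h
  have h1 : commutator K ≤ L := by
    rw [commutator_def, commutator_le]
    intro x _ y _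
    obtain ⟨⟨⟨z, hzm⟩, ⟨l, hl⟩⟩, hx⟩ := h.2 x
    obtain ⟨⟨⟨w, hwm⟩, ⟨m, hm⟩⟩, hy⟩ := h.2 y
    change z * l = x at hx
    change w * m = y at hy
    have hz := mem_center_iff.1 hzm
    have hw := mem_center_iff.1 hwm
    have h2 : ⁅x, y⁆ = ⁅l, m⁆ := by
      rw [← hx, ← hy, commutatorElement_def, commutatorElement_def]
      calc z * l * (w * m) * (z * l)⁻¹ * (w * m)⁻¹
          = z * l * w * m * l⁻¹ * z⁻¹ * m⁻¹ * w⁻¹ := by group
        _ = l * z * w * m * l⁻¹ * z⁻¹ * m⁻¹ * w⁻¹ := by rw [hz l]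
        _ = l * (z * w) * m * l⁻¹ * z⁻¹ * m⁻¹ * w⁻¹ := by group
        _ = l * (w * z) * m * l⁻¹ * z⁻¹ * m⁻¹ * w⁻¹ := by rw [hw z]
        _ = l * w * (z * m) * l⁻¹ * z⁻¹ * m⁻¹ * w⁻¹ := by group
        _ = l * w * (m * z) * l⁻¹ * z⁻¹ * m⁻¹ * w⁻¹ := by rw [hz m]
        _ = l * w * m * (z * l⁻¹) * z⁻¹ * m⁻¹ * w⁻¹ := by group
        _ = l * w * m * (l⁻¹ * z) * z⁻¹ * m⁻¹ * w⁻¹ := by rw [hz l⁻¹]
        _ = l * w * m * l⁻¹ * m⁻¹ * w⁻¹ := by group
        _ = w * l * m * l⁻¹ * m⁻¹ * w⁻¹ := by rw [hw l]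
        _ = w * (l * m * l⁻¹ * m⁻¹) * w⁻¹ := by group
        _ = (l * m * l⁻¹ * m⁻¹) * w * w⁻¹ := by rw [hw (l * m * l⁻¹ * m⁻¹)]
        _ = l * m * l⁻¹ * m⁻¹ := by group
    rw [h2, commutatorElement_def]
    exact L.mul_mem (L.mul_mem (L.mul_mem hl hm) (L.inv_mem hl)) (L.inv_mem hm)
  rw [hp] at h1
  apply hz
  rw [eq_bot_iff]
  intro x hx
  exact h.disjoint.le_bot ⟨hx, h1 (mem_top x)⟩

/-- the 5-cycle -/
def c5 : Perm (Fin 7) := ⟨![1, 2, 3, 4, 0, 5, 6], ![4, 0, 1, 2, 3, 5, 6], by decide, by decide⟩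
/-- inverts the 5-cycle -/
def d5 : Perm (Fin 7) := ⟨![0, 4, 3, 2, 1, 5, 6], ![0, 4, 3, 2, 1, 5, 6], by decide, by decide⟩
/-- `(01)(23)` -/
def f1 : Perm (Fin 7) := ⟨![1, 0, 3, 2, 4, 5, 6], ![1, 0, 3, 2, 4, 5, 6], by decide, by decide⟩
/-- `(02)(13)` -/
def f2 : Perm (Fin 7) := ⟨![2, 3, 0, 1, 4, 5, 6], ![2, 3, 0, 1, 4, 5, 6], by decide, by decide⟩

theorem c5_mem : c5 ∈ alternatingGroup (Fin 7) := by rw [Perm.mem_alternatingGroup]; decide
theorem d5_mem : d5 ∈ alternatingGroup (Fin 7) := by rw [Perm.mem_alternatingGroup]; decide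
theorem f1_mem : f1 ∈ alternatingGroup (Fin 7) := by rw [Perm.mem_alternatingGroup]; decide
theorem f2_mem : f2 ∈ alternatingGroup (Fin 7) := by rw [Perm.mem_alternatingGroup]; decide

theorem no_invol {t : Perm (Fin 7)} (ht : t * c5 = c5 * t) (htt : t * t = 1) (hs : Perm.sign t = 1) : t = 1 := by
  have h0 : ∀ i, t (c5 i) = c5 (t i) := fun i => congrArg (fun p : Perm (Fin 7) => p i) ht
  have h1 : ∀ i, t (t i) = i := fun i => congrArg (fun p : Perm (Fin 7) => p i) htt
  have e1 : t 1 = c5 (t 0) := h0 0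
  have e2 : t 2 = c5 (c5 (t 0)) := by rw [← e1]; exact h0 1
  have e3 : t 3 = c5 (c5 (c5 (t 0))) := by rw [← e2]; exact h0 2
  have e4 : t 4 = c5 (c5 (c5 (c5 (t 0)))) := by rw [← e3]; exact h0 3
  have e5 : t 5 = c5 (t 5) := h0 5
  have e6 : t 6 = c5 (t 6) := h0 6
  have k5 : t 5 = 5 ∨ t 5 = 6 := by
    revert e5
    generalize t 5 = x
    revert x
    decide
  have k6 : t 6 = 5 ∨ t 6 = 6 := by
    revert e6
    generalize t 6 = x
    revert x
    decide
  have k0 : t 0 = 0 := by
    have hb : ∀ i, t 0 = i → t i = 0 := fun i hi => by rw [← hi]; exact h1 0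
    have hx : t 0 = 0 ∨ t 0 = 1 ∨ t 0 = 2 ∨ t 0 = 3 ∨ t 0 = 4 ∨ t 0 = 5 ∨ t 0 = 6 := by
      generalize t 0 = x
      revert x
      decide
    rcases hx with h | h | h | h | h | h | h
    · exact h
    · have := hb _ h
      rw [e1, h] at this
      exact absurd this (by decide)
    · have := hb _ h
      rw [e2, h] at this
      exact absurd this (by decide)
    · have := hb _ h
      rw [e3, h] at this
      exact absurd this (by decide)
    · have := hb _ h
      rw [e4, h] at this
      exact absurd this (by decide)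
    · have := hb _ h
      rcases k5 with h' | h' <;> rw [h'] at this <;> exact absurd this (by decide)
    · have := hb _ h
      rcases k6 with h' | h' <;> rw [h'] at this <;> exact absurd this (by decide)
  rw [k0] at e1 e2 e3 e4
  have e1' : t 1 = 1 := e1
  have e2' : t 2 = 2 := e2
  have e3' : t 3 = 3 := e3
  have e4' : t 4 = 4 := e4
  rcases k5 with h5 | h5
  · have h6 : t 6 = 6 := by
      rcases k6 with h6 | h6
      · have := h1 6
        rw [h6, h5] at this
        exact absurd this (by decide)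
      · exact h6
    apply Equiv.ext
    intro i
    fin_cases i
    · exact k0
    · exact e1'
    · exact e2'
    · exact e3'
    · exact e4'
    · exact h5
    · exact h6
  · have h6 : t 6 = 5 := by
      have := h1 5
      rw [h5] at this
      exact this
    have : t = swap 5 6 := by
      apply Equiv.ext
      intro i
      fin_cases i
      · exact k0
      · exact e1'
      · exact e2'
      · exact e3'
      · exact e4'
      · exact h5
      · exact h6
    rw [this, Perm.sign_swap (by decide)] at hs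
    exact absurd hs (by decide)

/-- **`A_7`** -/
theorem Pair.not_a7 {M : Type*} [Group M] [Finite M] {K : Subgroup M} {c : ℕ} (h : Pair M K c)
    (e : K ⧸ center K ≃* alternatingGroup (Fin 7)) : False := by
  have : Fact (Nat.Prime 2) := ⟨Nat.prime_two⟩
  have hperf : commutator K = ⊤ := h.qs.1.commutator_eq_top
  have hz2 : Nat.card (center K) = 2 := by
    have h1 := Cfsg.Agent.OddHalf.CoverAlt.card_le_two hperf (center K) le_rfl h.z2 (by norm_num : 5 ≤ 7) e
    have h2 : 1 < Nat.card (center K) := one_lt_card_iff_ne_bot _ |>.2 h.zne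
    omega
  have hcov : IsNonsplitDoubleCover K (alternatingGroup (Fin 7)) :=
    ⟨hz2, ⟨e⟩, fun L => not_isComplement' hperf h.zne L⟩
  apply h.false_of_rankOne hz2
  · intro x hx
    by_cases h1 : x = 1
    · rw [h1]; exact one_mem _
    · exact Cfsg.Agent.SporadicB.DoubleCoverUnique.seven hcov x (orderOf_eq_prime (by rw [pow_two, hx]) h1)
  · refine ⟨e.symm ⟨f1, f1_mem⟩, e.symm ⟨f2, f2_mem⟩, ?_, ?_, ?_, ?_, ?_, ?_⟩
    · rw [← map_mul, map_eq_one_iff e.symm e.symm.injective]; apply Subtype.ext; decide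
    · rw [← map_mul, map_eq_one_iff e.symm e.symm.injective]; apply Subtype.ext; decide
    · rw [Ne, map_eq_one_iff e.symm e.symm.injective]
      intro h1; exact absurd (congrArg Subtype.val h1) (by decide)
    · rw [Ne, map_eq_one_iff e.symm e.symm.injective]
      intro h1; exact absurd (congrArg Subtype.val h1) (by decide)
    · intro h1
      exact absurd (congrArg Subtype.val (e.symm.injective h1)) (by decide)
    · rw [← map_mul, ← map_mul]
      refine congrArg e.symm (Subtype.ext ?_)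
      decide
  · have hc5 : orderOf (⟨c5, c5_mem⟩ : alternatingGroup (Fin 7)) = 5 := by
      have : Fact (Nat.Prime 5) := ⟨by norm_num⟩
      apply orderOf_eq_prime
      · apply Subtype.ext; decide
      · intro h1; exact absurd (congrArg Subtype.val h1) (by decide)
    have ho : orderOf (e.symm ⟨c5, c5_mem⟩) = 5 := by
      rw [← hc5]
      exact MulEquiv.orderOf_eq e.symm _
    have hreal : Real' (e.symm ⟨c5, c5_mem⟩) := by
      refine ⟨e.symm ⟨d5, d5_mem⟩, ?_⟩
      rw [← map_mul, ← map_inv, ← map_mul, ← map_inv]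
      refine congrArg e.symm (Subtype.ext ?_)
      decide
    obtain ⟨x, hx, hxo, hx1, hxn⟩ := exists_real_odd (L := K) h.z2 hreal (by rw [ho]; decide)
      (by
        intro h1
        rw [h1, orderOf_one] at ho
        exact absurd ho (by norm_num))
    refine ⟨x, hx, hxo, hx1, ?_⟩
    have h0 : nu (Nat.card (centralizer ({e.symm ⟨c5, c5_mem⟩} : Set (K ⧸ center K)))) = 0 := by
      by_contra hcon
      have h2 : 2 ∣ Nat.card (centralizer ({e.symm ⟨c5, c5_mem⟩} : Set (K ⧸ center K))) := by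
        have h4 := dvd_of_le_nu (n := Nat.card (centralizer ({e.symm ⟨c5, c5_mem⟩} : Set (K ⧸ center K))))
          (k := 1) (card_ne _) (by omega)
        simpa only [_root_.pow_one] using h4
      obtain ⟨⟨g, hg⟩, hgo⟩ := exists_prime_orderOf_dvd_card' 2 h2
      rw [orderOf_mk] at hgo
      have hgg : g * g = 1 := by rw [← pow_two, ← hgo, pow_orderOf_eq_one]
      have hg1 : g ≠ 1 := by
        rintro rfl
        rw [orderOf_one] at hgo
        exact absurd hgo (by norm_num)
      apply hg1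
      rw [← map_eq_one_iff e e.injective]
      apply Subtype.ext
      apply no_invol
      · have h5 := mem_cent.1 hg
        rw [mul_inv_eq_iff_eq_mul] at h5
        have h6 := congrArg e h5
        rw [map_mul, map_mul, e.apply_symm_apply] at h6
        exact congrArg Subtype.val h6
      · have h6 := congrArg e hgg
        rw [map_mul, map_one] at h6
        exact congrArg Subtype.val h6
      · exact Perm.mem_alternatingGroup.1 (e g).2
    have h1 : nu (Nat.card K) = 4 := by
      rw [nu_card_quot (center K), hz2, Nat.card_congr e.toEquiv, Cfsg.Agent.TwoFusion.A7NoSwap.card_A7]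
      have e1 : nu 2520 = 3 := by
        have : (2520 : ℕ) = 2 ^ 3 * 315 := by norm_num
        rw [this, nu_mul (by norm_num) (by norm_num), nu_two_pow, nu_odd (by decide)]
      have e2 : nu 2 = 1 := by
        have := nu_two_pow 1
        rwa [pow_one] at this
      rw [e1, e2]
    have h2 : nu (Nat.card (center K)) = 1 := by
      rw [hz2]
      have := nu_two_pow 1
      rwa [pow_one] at this
    rw [h0, h2] at hxn
    omega

end Cfsg.Agent.H466.RT
end

-- part: H466/RT/AltEight
section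
/-!
# `SL(2, 3)` in the alternating groups of degree at least 8
-/

set_option autoImplicit false

namespace Cfsg.Agent.H466.RT

namespace AltEight

/-- `i` -/
def pi : Equiv.Perm (Fin 8) :=
  ⟨![5, 2, 0, 6, 3, 1, 7, 4], ![2, 5, 1, 4, 7, 0, 3, 6], by decide, by decide⟩
/-- `j` -/
def pj : Equiv.Perm (Fin 8) :=
  ⟨![4, 6, 3, 5, 1, 7, 0, 2], ![6, 4, 7, 2, 0, 3, 1, 5], by decide, by decide⟩
/-- `h` -/
def ph : Equiv.Perm (Fin 8) :=
  ⟨![3, 7, 2, 6, 1, 5, 0, 4], ![6, 4, 2, 0, 7, 5, 3, 1], by decide, by decide⟩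

theorem hasSL : HasSL (alternatingGroup (Fin 8)) := by
  refine ⟨⟨pi, ?_⟩, ⟨pj, ?_⟩, ⟨ph, ?_⟩, ⟨?_, ?_, ?_⟩, ?_, ?_⟩
  · rw [Equiv.Perm.mem_alternatingGroup]
    decide +kernel
  · rw [Equiv.Perm.mem_alternatingGroup]
    decide +kernel
  · rw [Equiv.Perm.mem_alternatingGroup]
    decide +kernel
  · apply Subtype.ext
    change pi * pi = pj * pj
    decide +kernel
  · apply Subtype.ext
    change pi * pj * (pi * pj) = pi * pi
    decide +kernel
  · intro h
    have h1 : pi * pi = 1 := congrArg Subtype.val h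
    revert h1
    decide +kernel
  · rw [mul_inv_eq_iff_eq_mul]
    apply Subtype.ext
    change ph * pi = pj * ph
    decide +kernel
  · rw [mul_inv_eq_iff_eq_mul]
    apply Subtype.ext
    change ph * pj = pi * pj * ph
    decide +kernel

end AltEight

/-- `SL(2, 3)` is a subgroup of `A_n` for `n ≥ 8`. -/
theorem hasSL_alt {n : ℕ} (hn : 8 ≤ n) : HasSL (alternatingGroup (Fin n)) := by
  obtain ⟨f, hf⟩ := Cfsg.Agent.SylowL.Compare.exists_alt_hom hn
  exact AltEight.hasSL.map hf

end Cfsg.Agent.H466.RT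
end

-- part: H466/RT/OddLie
section
/-!
# `SL(2, 3)` in the groups of Lie type of rank at least 2 in odd characteristic
-/

set_option autoImplicit false

namespace Cfsg.Agent.H466.RT

open Cfsg.Agent.OddHalf.LieOddFam Cfsg.Agent.OddHalf.LongSL

universe u

/-- the groups of Lie type of rank at least 2 in odd characteristic contain `SL(2, 3)`. -/
theorem hasSL_rk {X : Type u} [Group X] {q : ℕ} (hq : OddPow q) (h : Rk X q) : HasSL X := by
  obtain ⟨j, J, -, -, -, -, F, _, _, hF, ho, ⟨e⟩⟩ := hasLong_of_rk hq h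
  have h2 : (2 : F) ≠ 0 := by
    intro h2
    have h3 : CharP F 2 := CharTwo.of_one_ne_zero_of_two_eq_zero one_ne_zero h2
    obtain ⟨n, -, hn⟩ := FiniteField.card F 2
    rw [hF] at hn
    rw [hn] at ho
    have h4 : (n : ℕ) ≠ 0 := n.ne_zero
    obtain ⟨m, hm⟩ := Nat.exists_eq_succ_of_ne_zero h4
    rw [hm, pow_succ, Nat.odd_iff] at ho
    omega
  have h3 : HasSL J := (hasSL_sl_two h2).map (f := e.symm.toMonoidHom) e.symm.injective
  exact h3.map (f := J.subtype) J.subtype_injective

end Cfsg.Agent.H466.RT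
end

-- part: H466/RT/QFi
section
/-!
# `SL(2, 3)` in `Fi22`, `B` and `²E₆(2)`
-/

set_option autoImplicit false

namespace Cfsg.Agent.H466.RT

open Subgroup Cfsg Cfsg.Spor

theorem hasSL_fi22 (hnc : ∃ a b : Fi22, a * b ≠ b * a) : HasSL Fi22 := by
  let t := gn Fi22.edges Fi22.extra
  have hn : ∀ x : Fi22.Gen, x ∈ coxNodes Fi22.edges := by
    intro x; cases x <;> decide
  have hsq : ∀ x, t x * t x = 1 := fun x => gn_sq (hn x)
  have hcm : ∀ x y, coxLabel Fi22.edges x y = 2 → t x * t y = t y * t x := fun x y h => gn_comm (hn x) (hn y) h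
  have hbr : ∀ x y, coxLabel Fi22.edges x y = 3 → t x * t y * t x = t y * t x * t y :=
    fun x y h => gn_braid (hn x) (hn y) h
  have hD : DFive (t .b) (t .c) (t .d) (t .e) (t .h) :=
    ⟨hsq _, hsq _, hsq _, hsq _, hsq _, hbr _ _ (by decide), hbr _ _ (by decide), hbr _ _ (by decide),
      hbr _ _ (by decide), hcm _ _ (by decide), hcm _ _ (by decide), hcm _ _ (by decide), hcm _ _ (by decide),
      hcm _ _ (by decide), hcm _ _ (by decide)⟩
  apply hD.hasSL
  intro he
  have step : ∀ p a b, coxLabel Fi22.edges p a = 3 → coxLabel Fi22.edges p b = 2 → t a = t .e → t b = t .e →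
      t p = t .e := by
    intro p a b h1 h2 ha hb
    rw [← ha]
    exact eq_of_step (hsq p) (hsq a) (ha.trans hb.symm) (hbr p a h1) (hcm p b h2)
  have hh : t .h = t .e := he.symm
  have hf : t .f = t .e := step .f .e .h (by decide) (by decide) rfl hh
  have hd : t .d = t .e := step .d .e .f (by decide) (by decide) rfl hf
  have hc : t .c = t .e := step .c .d .e (by decide) (by decide) hd rfl
  have hb : t .b = t .e := step .b .c .d (by decide) (by decide) hc hd
  have ha : t .a = t .e := step .a .b .c (by decide) (by decide) hb hc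
  have hg : t .g = t .e := step .g .f .e (by decide) (by decide) hf rfl
  have hi : t .i = t .e := step .i .h .e (by decide) (by decide) hh rfl
  obtain ⟨u, v, huv⟩ := hnc
  apply huv
  apply comm_of_const t (PresentedGroup.closure_range_of _) (t .e)
  intro x
  cases x <;> first | rfl | assumption

theorem hasSL_B (hnc : ∃ a b : BabyMonster, a * b ≠ b * a) : HasSL BabyMonster := by
  let t := gn BabyMonster.edges BabyMonster.extra
  have hn : ∀ x : BabyMonster.Gen, x ∈ coxNodes BabyMonster.edges := by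
    intro x; cases x <;> decide
  have hsq : ∀ x, t x * t x = 1 := fun x => gn_sq (hn x)
  have hcm : ∀ x y, coxLabel BabyMonster.edges x y = 2 → t x * t y = t y * t x :=
    fun x y h => gn_comm (hn x) (hn y) h
  have hbr : ∀ x y, coxLabel BabyMonster.edges x y = 3 → t x * t y * t x = t y * t x * t y :=
    fun x y h => gn_braid (hn x) (hn y) h
  have hD : DFive (t .t3) (t .t4) (t .t5) (t .t6) (t .t9) :=
    ⟨hsq _, hsq _, hsq _, hsq _, hsq _, hbr _ _ (by decide), hbr _ _ (by decide), hbr _ _ (by decide),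
      hbr _ _ (by decide), hcm _ _ (by decide), hcm _ _ (by decide), hcm _ _ (by decide), hcm _ _ (by decide),
      hcm _ _ (by decide), hcm _ _ (by decide)⟩
  apply hD.hasSL
  intro he
  have step : ∀ p a b, coxLabel BabyMonster.edges p a = 3 → coxLabel BabyMonster.edges p b = 2 → t a = t .t6 →
      t b = t .t6 → t p = t .t6 := by
    intro p a b h1 h2 ha hb
    rw [← ha]
    exact eq_of_step (hsq p) (hsq a) (ha.trans hb.symm) (hbr p a h1) (hcm p b h2)
  have h9 : t .t9 = t .t6 := he.symm
  have h7 : t .t7 = t .t6 := step .t7 .t6 .t9 (by decide) (by decide) rfl h9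
  have h8 : t .t8 = t .t6 := step .t8 .t7 .t6 (by decide) (by decide) h7 rfl
  have h5 : t .t5 = t .t6 := step .t5 .t6 .t7 (by decide) (by decide) rfl h7
  have h4 : t .t4 = t .t6 := step .t4 .t5 .t6 (by decide) (by decide) h5 rfl
  have h3 : t .t3 = t .t6 := step .t3 .t4 .t5 (by decide) (by decide) h4 h5
  have h2 : t .t2 = t .t6 := step .t2 .t3 .t4 (by decide) (by decide) h3 h4
  have h1 : t .t1 = t .t6 := step .t1 .t2 .t3 (by decide) (by decide) h2 h3
  have h10 : t .t10 = t .t6 := step .t10 .t9 .t6 (by decide) (by decide) h9 rfl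
  have h11 : t .t11 = t .t6 := step .t11 .t10 .t9 (by decide) (by decide) h10 h9
  obtain ⟨u, v, huv⟩ := hnc
  apply huv
  apply comm_of_const t (PresentedGroup.closure_range_of _) (t .t6)
  intro x
  cases x <;> first | rfl | assumption

open Cfsg.Agent.TwoESix.Main Cfsg.Agent.TwoESix.Rels in
/-- ten involutions satisfying the relations of `Y₃₃₃` -/
theorem hasSL_y333 {G : Type*} [Group G] {t : Fin 10 → G} (h : Y333 t) (hcl : _root_.Subgroup.closure (Set.range t) = ⊤)
    (hnc : ∃ a b : G, a * b ≠ b * a) : HasSL G := by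
  have hD : DFive (t 1) (t 2) (t 3) (t 4) (t 7) :=
    ⟨h.sq _, h.sq _, h.sq _, h.sq _, h.sq _, h.braid _ _ (by decide), h.braid _ _ (by decide),
      h.braid _ _ (by decide), h.braid _ _ (by decide), h.comm _ _ (by decide), h.comm _ _ (by decide),
      h.comm _ _ (by decide), h.comm _ _ (by decide), h.comm _ _ (by decide), h.comm _ _ (by decide)⟩
  apply hD.hasSL
  intro he
  have step : ∀ p a b, adj p a = true → adj p b = false → t a = t 4 → t b = t 4 → t p = t 4 := by
    intro p a b h1 h2 ha hb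
    rw [← ha]
    exact eq_of_step (h.sq p) (h.sq a) (ha.trans hb.symm) (h.braid p a h1) (h.comm p b h2)
  have h7 : t 7 = t 4 := he.symm
  have h5 : t 5 = t 4 := step 5 4 7 (by decide) (by decide) rfl h7
  have h3 : t 3 = t 4 := step 3 4 5 (by decide) (by decide) rfl h5
  have h2 : t 2 = t 4 := step 2 3 4 (by decide) (by decide) h3 rfl
  have h1 : t 1 = t 4 := step 1 2 3 (by decide) (by decide) h2 h3
  have h0 : t 0 = t 4 := step 0 1 2 (by decide) (by decide) h1 h2
  have h6 : t 6 = t 4 := step 6 5 4 (by decide) (by decide) h5 rfl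
  have h8 : t 8 = t 4 := step 8 7 4 (by decide) (by decide) h7 rfl
  have h9 : t 9 = t 4 := step 9 8 7 (by decide) (by decide) h8 h7
  obtain ⟨u, v, huv⟩ := hnc
  apply huv
  apply comm_of_const t hcl (t 4)
  intro x
  fin_cases x <;> first | rfl | assumption

theorem hasSL_twoE6 (F : Type) [Field F] [Fintype F] (hF : Fintype.card F = 4)
    (hnc : ∃ a b : Lie.twistedE6 F 2, a * b ≠ b * a) : HasSL (Lie.twistedE6 F 2) := by
  obtain ⟨t, r, f, hY, hcl, -⟩ := Cfsg.Agent.TwoESix.FiInst.exists_fiHom F hF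
  exact hasSL_y333 hY hcl hnc

end Cfsg.Agent.H466.RT
end

-- part: H466/RT/QMat
section
/-!
# Quaternion groups in `M₁₂`, `M₂₂`, `HS`
-/

set_option autoImplicit false

namespace Cfsg.Agent.H466.RT

open Subgroup Cfsg Cfsg.Spor
open Cfsg.Agent.SporadicA.GolayBase Cfsg.Agent.J4Type.CocodeMask
open Cfsg.Agent.SporadicA.GolayPerm hiding pcomp papp_pcomp
open Cfsg.Agent.GH.LowRankMathieu

theorem IsQ.of_coe {G : Type*} [Group G] {H : Subgroup G} {i j : H} (h : IsQ (i : G) (j : G)) : IsQ i j :=
  ⟨Subtype.ext h.1, Subtype.ext h.2.1, fun h1 => h.2.2 (congrArg Subtype.val h1)⟩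

theorem IsQ.coe {G : Type*} [Group G] {H : Subgroup G} {i j : H} (h : IsQ i j) : IsQ (i : G) (j : G) :=
  h.map (f := H.subtype) H.subtype_injective

theorem isQ_tab {g h : M24} {P Q : ℕ} (hg : IsTab g P) (hh : IsTab h Q) (h1 : pcomp P P = pcomp Q Q)
    (h2 : pcomp (pcomp P Q) (pcomp P Q) = pcomp P P) (h3 : papp (pcomp P P) 1 ≠ 1) : IsQ g h := by
  refine ⟨(hg.mul hg).eq (by rw [h1]; exact hh.mul hh), ?_, ?_⟩
  · exact ((hg.mul hh).mul (hg.mul hh)).eq (by rw [h2]; exact hg.mul hg)
  · intro h4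
    have h5 := (hg.mul hg) (some 1)
    rw [h4] at h5
    have e : idx (some 1 : GolayPt) = 1 := by decide +kernel
    rw [e] at h5
    apply h3
    rw [← h5]
    exact e

def iM22 : ℕ := 984040680315693133367458329498426016
def jM22 : ℕ := 976583094433555277859243436347536512
def iM12 : ℕ := 320281635101179434578238902529982657
def jM12 : ℕ := 860039373484331513549293115278772744

theorem isQ_M22 : IsQ (mk22 iM22 (by decide +kernel) (by decide +kernel) (by decide +kernel))
    (mk22 jM22 (by decide +kernel) (by decide +kernel) (by decide +kernel)) :=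
  IsQ.of_coe (isQ_tab (isTab_mk iM22 (by decide +kernel)) (isTab_mk jM22 (by decide +kernel)) (by decide +kernel)
    (by decide +kernel) (by decide +kernel)).coe

theorem hasQ_M22 : HasQ M22 := ⟨_, _, isQ_M22⟩

theorem mem_M12_of_tab {g : M24} {P : ℕ} (hg : IsTab g P)
    (h : ∀ p ∈ Cfsg.Agent.SporadicStructure.M11InvPerms.dd, ∀ q : GolayPt, idx q = papp P (idx p) →
      q ∈ Cfsg.Agent.SporadicStructure.M11InvPerms.dd) : (g : Equiv.Perm GolayPt) ∈ M12 :=
  Cfsg.Agent.MTwelveType.SylowModel.mem_M12 g.2 (fun p hp => h p hp _ (hg p))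

theorem hasQ_M12 : HasQ M12 := by
  have hi : IsTab (_root_.Cfsg.Agent.J4Type.CocodeMask.mk iM12 (by decide +kernel)) iM12 := isTab_mk iM12 _
  have hj : IsTab (_root_.Cfsg.Agent.J4Type.CocodeMask.mk jM12 (by decide +kernel)) jM12 := isTab_mk jM12 _
  have h1 := mem_M12_of_tab hi (by decide +kernel)
  have h2 := mem_M12_of_tab hj (by decide +kernel)
  exact ⟨⟨_, h1⟩, ⟨_, h2⟩, IsQ.of_coe (isQ_tab hi hj (by decide +kernel) (by decide +kernel) (by decide +kernel)).coe⟩

section HigmanSims

open Cfsg.Agent.SporadicA.Co0Mono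

theorem permCo0_inj : Function.Injective permCo0 := by
  intro s t hst
  have h1 : ∀ i j : GolayPt, (s : Equiv.Perm GolayPt).symm j = i → (t : Equiv.Perm GolayPt).symm j = i := by
    intro i j hij
    have h2 : ((permCo0 s • Cfsg.Agent.SporadicA.Co0Basic.e8 i : leechLattice) : GolayPt → ℤ) =
        ((permCo0 t • Cfsg.Agent.SporadicA.Co0Basic.e8 i : leechLattice) : GolayPt → ℤ) := by rw [hst]
    rw [permCo0_smul, permCo0_smul] at h2
    have h3 := congrFun h2 j
    rw [permMap_apply, permMap_apply, Cfsg.Agent.SporadicA.Co0Basic.e8_apply,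
      Cfsg.Agent.SporadicA.Co0Basic.e8_apply, if_pos hij] at h3
    by_contra hcon
    rw [if_neg hcon] at h3
    exact absurd h3 (by norm_num)
  apply Subtype.ext
  have h2 : (s : Equiv.Perm GolayPt).symm = (t : Equiv.Perm GolayPt).symm :=
    Equiv.ext fun j => (h1 _ j rfl).symm
  exact Equiv.symm_bijective.injective h2

theorem permCo0_mem_HS {s : M24} (h0 : (s : Equiv.Perm GolayPt) none = none)
    (h1 : (s : Equiv.Perm GolayPt) (some 0) = some 0) : ((permCo0 s : Co0) : Equiv.Perm leechLattice) ∈ HS := by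
  have h0' : (s : Equiv.Perm GolayPt).symm none = none := by rw [Equiv.symm_apply_eq, h0]
  have h1' : (s : Equiv.Perm GolayPt).symm (some 0) = some 0 := by rw [Equiv.symm_apply_eq, h1]
  have h2 : ∀ p, (s : Equiv.Perm GolayPt).symm p = none ↔ p = none := by
    intro p
    rw [Equiv.symm_apply_eq, h0]
  have h3 : ∀ p, (s : Equiv.Perm GolayPt).symm p = some 0 ↔ p = some 0 := by
    intro p
    rw [Equiv.symm_apply_eq, h1]
  refine ⟨⟨(permCo0 s).2, ?_⟩, ?_⟩
  · change _ ∈ MulAction.stabilizer _ _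
    rw [MulAction.mem_stabilizer_iff]
    apply Subtype.ext
    change ((permCo0 s • leechV : leechLattice) : GolayPt → ℤ) = vecV
    rw [permCo0_smul]
    funext p
    rw [permMap_apply]
    change vecV _ = vecV p
    simp only [vecV, h2]
  · change _ ∈ MulAction.stabilizer _ _
    rw [MulAction.mem_stabilizer_iff]
    apply Subtype.ext
    change ((permCo0 s • leechU' : leechLattice) : GolayPt → ℤ) = vecU'
    rw [permCo0_smul]
    funext p
    rw [permMap_apply]
    change vecU' _ = vecU' p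
    simp only [vecU', h2, h3]

theorem fix_of_mem_M22 (g : M22) : (g : Equiv.Perm GolayPt) none = none ∧
    (g : Equiv.Perm GolayPt) (some 0) = some 0 := ⟨g.2.1.2, g.2.2⟩

theorem hasQ_HS : HasQ HS := by
  obtain ⟨i, j, hq⟩ := hasQ_M22
  have hi := fix_of_mem_M22 i
  have hj := fix_of_mem_M22 j
  let i' : M24 := ⟨i, i.2.1.1⟩
  let j' : M24 := ⟨j, j.2.1.1⟩
  have h1 : IsQ i' j' := IsQ.of_coe hq.coe
  have h2 : IsQ (permCo0 i') (permCo0 j') := h1.map permCo0_inj
  exact ⟨⟨_, permCo0_mem_HS (s := i') hi.1 hi.2⟩, ⟨_, permCo0_mem_HS (s := j') hj.1 hj.2⟩, IsQ.of_coe h2.coe⟩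

end HigmanSims

end Cfsg.Agent.H466.RT
end

-- part: H466/RT/QSpor
section
/-!
# Quaternion groups in `J₂`, `Ru`, `Co₁`
-/

set_option autoImplicit false

namespace Cfsg.Agent.H466.RT

open Subgroup Cfsg Cfsg.Spor

theorem hasQ_J2 : HasQ J2 := by
  obtain ⟨f, hf⟩ := Cfsg.Agent.J2Sylow.SporSylow.exists_hom
  refine HasQ.map hf ⟨⟨.e, .e, .o, false⟩, ⟨.w, .u, .o, false⟩, ?_, ?_, ?_⟩ <;> decide

theorem hasSL_Co1 : HasSL Co1 := by
  obtain ⟨A, -, ⟨e⟩, -⟩ := Cfsg.Agent.LThreeCo1T8.Main.exists_alt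
  have h1 : HasSL A := (hasSL_alt (n := 9) (by norm_num)).map (f := e.symm.toMonoidHom) e.symm.injective
  exact h1.map (f := A.subtype) A.subtype_injective

section Ru

open Cfsg.Agent.RuD.Letters Cfsg.Agent.SporadicB Cfsg.Agent.SporRec.R3.Kernel Cfsg.Agent.KFacts.Ru

def wi : List ℕ := [3, 1, 5, 4, 7]
def wj : List ℕ := [1, 3, 1, 5, 7, 6]

theorem chk1 : chkEq (wi ++ wi) (wj ++ wj) = true := by decide +kernel
theorem chk2 : chkEq (wi ++ wj ++ (wi ++ wj)) (wi ++ wi) = true := by decide +kernel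
theorem chk3 : Nat.beq (evalK (wi ++ wi) 0) 0 = false := by decide +kernel

open Cfsg.Agent.SporRec.TCUpperCert in
theorem hasQ_ru : HasQ Ru := by
  have h1 : IsQ (wprod ml wi : RuOrder.H) (wprod ml wj) := by
    refine ⟨?_, ?_, ?_⟩
    · rw [← wprod_append, ← wprod_append]
      exact eq_of_chkEq chk1
    · rw [← wprod_append, ← wprod_append, ← wprod_append]
      exact eq_of_chkEq chk2
    · rw [← wprod_append]
      intro h
      have h1 := evalK_eq (wi ++ wi) RuOrder.b1
      rw [h] at h1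
      have h3 : evalK (wi ++ wi) 0 = 0 := h1.symm
      have h4 := chk3
      rw [h3] at h4
      exact absurd h4 (by decide)
  exact HasQ.map (f := Cfsg.Agent.RuLat.Main.equiv.symm.toMonoidHom) Cfsg.Agent.RuLat.Main.equiv.symm.injective
    ⟨_, _, h1⟩

end Ru

end Cfsg.Agent.H466.RT
end

-- part: H466/RT/QSuz
section
/-!
# A quaternion group in `Suz`
-/

set_option autoImplicit false

namespace Cfsg.Agent.H466.RT

open Subgroup Cfsg Cfsg.Spor

theorem hasQ_suz : HasQ Suz := by
  let t := gn Suz.edges Suz.extra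
  have hn : ∀ x : Suz.Gen, x ∈ coxNodes Suz.edges := by
    intro x; cases x <;> decide
  have hsq : ∀ x, t x * t x = 1 := fun x => gn_sq (hn x)
  have hcm : ∀ x y, coxLabel Suz.edges x y = 2 → t x * t y = t y * t x := fun x y h => gn_comm (hn x) (hn y) h
  have h1 : t .a * ((t .c * t .d) ^ 4)⁻¹ = 1 := by
    have h := gn_extra (edges := Suz.edges) (extra := Suz.extra) (r := Suz.a * ((Suz.c * Suz.d) ^ 4)⁻¹)
      (by simp only [Suz.extra, _root_.List.mem_cons, _root_.mul_right_inj, _root_.inv_inj, _root_.List.not_mem_nil, _root_.or_false, _root_.true_or])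
    rw [map_mul, map_inv, map_pow, map_mul] at h
    exact h
  have h2 : t .a * ((t .f * t .g) ^ 2)⁻¹ = 1 := by
    have h := gn_extra (edges := Suz.edges) (extra := Suz.extra) (r := Suz.a * ((Suz.f * Suz.g) ^ 2)⁻¹)
      (by simp only [Suz.extra, _root_.List.mem_cons, _root_.mul_right_inj, _root_.inv_inj, _root_.List.not_mem_nil, _root_.or_false, _root_.true_or, _root_.or_true])
    rw [map_mul, map_inv, map_pow, map_mul] at h
    exact h
  rw [mul_inv_eq_one] at h1 h2
  have hcf : t .c * t .f = t .f * t .c := hcm _ _ (by decide)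
  have hcg : t .c * t .g = t .g * t .c := hcm _ _ (by decide)
  have hdf : t .d * t .f = t .f * t .d := hcm _ _ (by decide)
  have hdg : t .d * t .g = t .g * t .d := hcm _ _ (by decide)
  have hf : Commute (t .c * t .d) (t .f) := Commute.mul_left hcf hdf
  have hg : Commute (t .c * t .d) (t .g) := Commute.mul_left hcg hdg
  refine ⟨t .f * t .g, t .f * (t .c * t .d) ^ 2, isQ_of (a := t .a) (hsq _) ?_ (hsq _) ?_ (hf.pow_left 2).eq
    (hg.pow_left 2).eq ?_⟩
  · rw [h2, pow_two]
  · rw [h1, ← pow_add]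
  · exact Cfsg.Agent.SporRec.SuzCl.a_ne

end Cfsg.Agent.H466.RT
end

-- part: H466/RT/NoPair
section
/-!
# There is no pair
-/

set_option autoImplicit false

namespace Cfsg.Agent.H466.RT

open Subgroup Cfsg Cfsg.Agent.OddHalf.Iface Cfsg.Agent.OddHalf.D9.Cut Cfsg.Agent.OddHalf.D4.Cut
  Cfsg.Agent.OddHalf.LieOddFam

universe u

theorem alt5_psl : ∃ (F : Type) (_ : Field F) (_ : Fintype F), Odd (Fintype.card F) ∧ 5 ≤ Fintype.card F ∧
    Nonempty (alternatingGroup (Fin 5) ≃* Matrix.ProjectiveSpecialLinearGroup (Fin 2) F) := by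
  have : Fact (Nat.Prime 5) := ⟨by norm_num⟩
  have hc : Fintype.card (ZMod 5) = 5 := ZMod.card 5
  obtain ⟨e⟩ := Cfsg.Agent.S0253.result (F := ZMod 5) hc
  exact ⟨ZMod 5, inferInstance, inferInstance, by rw [hc]; decide, by rw [hc], ⟨e.symm⟩⟩

theorem alt6_psl : ∃ (F : Type) (_ : Field F) (_ : Fintype F), Odd (Fintype.card F) ∧ 5 ≤ Fintype.card F ∧
    Nonempty (alternatingGroup (Fin 6) ≃* Matrix.ProjectiveSpecialLinearGroup (Fin 2) F) := by
  have : Fact (Nat.Prime 3) := ⟨Nat.prime_three⟩
  have hfin : Finite (GaloisField 3 2) := inferInstance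
  let _ : Fintype (GaloisField 3 2) := Fintype.ofFinite _
  have hc : Fintype.card (GaloisField 3 2) = 9 := by
    rw [← Nat.card_eq_fintype_card, GaloisField.card 3 2 (by norm_num)]
    norm_num
  obtain ⟨e⟩ := Cfsg.Agent.S0254.result (F := GaloisField 3 2) hc
  exact ⟨GaloisField 3 2, inferInstance, inferInstance, by rw [hc]; decide, by rw [hc]; norm_num, ⟨e.symm⟩⟩

theorem quot_noncomm {K : Type u} [Group K] (hq : IsQuasisimple K) : ∃ a b : K ⧸ center K, a * b ≠ b * a := by
  by_contra hcon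
  push Not at hcon
  have hn := hq.2
  have h1 : commutator K ≤ center K := by
    rw [commutator_def, commutator_le]
    intro x _ y _
    rw [← QuotientGroup.eq_one_iff, commutatorElement_def]
    have h2 := hcon (x : K ⧸ center K) y
    rw [QuotientGroup.mk_mul, QuotientGroup.mk_mul, QuotientGroup.mk_mul, QuotientGroup.mk_inv,
      QuotientGroup.mk_inv, h2]
    group
  rw [hq.1.commutator_eq_top] at h1
  obtain ⟨a, ha⟩ := exists_ne (1 : K ⧸ center K)
  obtain ⟨g, rfl⟩ := QuotientGroup.mk_surjective a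
  exact ha ((QuotientGroup.eq_one_iff g).2 (h1 (mem_top g)))

theorem noncomm_congr {X Y : Type*} [Group X] [Group Y] (e : X ≃* Y) (h : ∃ a b : X, a * b ≠ b * a) :
    ∃ a b : Y, a * b ≠ b * a := by
  obtain ⟨a, b, hab⟩ := h
  refine ⟨e a, e b, ?_⟩
  rw [← map_mul, ← map_mul]
  exact fun h => hab (e.injective h)

theorem HasSL.of_equiv {X Y : Type*} [Group X] [Group Y] (e : X ≃* Y) (h : HasSL Y) : HasSL X :=
  h.map (f := e.symm.toMonoidHom) e.symm.injective

theorem HasQ.of_equiv {X Y : Type*} [Group X] [Group Y] (e : X ≃* Y) (h : HasQ Y) : HasQ X :=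
  h.map (f := e.symm.toMonoidHom) e.symm.injective

theorem hasQ_exc2 {X : Type u} [Group X] (hnc : ∃ a b : X, a * b ≠ b * a) (h : Exc2 X) : HasQ X := by
  rcases h with h | h | h | h | h | h | h | h | h | h | h | h | h | h
  · obtain ⟨F, _, _, hF, ⟨e⟩⟩ := h
    exact ((hasSL_u62 hF).of_equiv e).hasQ
  · obtain ⟨F, _, _, hF, ⟨e⟩⟩ := h
    exact ((hasSL_sp62 hF).of_equiv e).hasQ
  · obtain ⟨F, _, _, hF, ⟨e⟩⟩ := h
    exact ((hasSL_o8 hF).of_equiv e).hasQ
  · obtain ⟨F, _, _, hF, ⟨e⟩⟩ := h
    exact (hasQ_G24 hF).of_equiv e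
  · obtain ⟨F, _, _, hF, ⟨e⟩⟩ := h
    exact (hasQ_F42 hF).of_equiv e
  · obtain ⟨F, _, _, hF, ⟨e⟩⟩ := h
    exact ((hasSL_twoE6 F hF (noncomm_congr e hnc)).of_equiv e).hasQ
  · obtain ⟨e⟩ := h
    exact hasQ_M12.of_equiv e
  · obtain ⟨e⟩ := h
    exact hasQ_J2.of_equiv e
  · obtain ⟨e⟩ := h
    exact hasQ_HS.of_equiv e
  · obtain ⟨e⟩ := h
    exact hasQ_suz.of_equiv e
  · obtain ⟨e⟩ := h
    exact hasQ_ru.of_equiv e
  · obtain ⟨e⟩ := h
    exact ((hasSL_fi22 (noncomm_congr e hnc)).of_equiv e).hasQ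
  · obtain ⟨e⟩ := h
    exact (hasSL_Co1.of_equiv e).hasQ
  · obtain ⟨e⟩ := h
    exact ((hasSL_B (noncomm_congr e hnc)).of_equiv e).hasQ

section

variable {M : Type u} [Group M] [Finite M] {K : Subgroup M} {c : ℕ}

theorem Pair.not_hasSL (h : Pair M K c) (hs : HasSL (K ⧸ center K)) : False := h.not_bad hs.bad

theorem Pair.not_hasQ (h : Pair M K c) (hc : IsCyclic (center K)) (hs : HasQ (K ⧸ center K)) : False :=
  h.not_bad (hs.bad hc)

theorem Pair.not_l34 (h : Pair M K c) (hX : XL34 (K ⧸ center K)) (hz : Nat.card (center K) ≤ 16) : False := by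
  obtain ⟨F, _, _, hF, ⟨e⟩⟩ := hX
  apply h.not_easy ((easy_psl34 hF).of_equiv e.symm)
  rw [Nat.card_congr e.toEquiv, nu_psl34 hF]
  omega

theorem Pair.not_sz (h : Pair M K c) (hX : Lie.IsoSuzuki (K ⧸ center K)) (hz : Nat.card (center K) ≤ 16) : False := by
  apply h.not_easy (easy_sz hX)
  have h1 := nu_sz hX
  have h2 : 2 ^ 6 ≤ 2 ^ nu (Nat.card (K ⧸ center K)) := Nat.pow_le_pow_right (by norm_num) h1
  omega

theorem isoSuzuki_of_sz8 {X : Type u} [Group X] (h : XSz8 X) : Lie.IsoSuzuki X := by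
  obtain ⟨F, i1, i2, hF, e⟩ := h
  exact ⟨F, i1, i2, 1, le_rfl, by rw [hF]; norm_num, e⟩

/-- **There is no pair.** -/
theorem Pair.false_of_mult (h : Pair M K c) (hM : Mult.{u}) (hM4 : MultD4.{u})
    (hK : IsKnownSimple' (K ⧸ center K)) : False := by
  have hs : IsSimpleGroup (K ⧸ center K) := h.qs.2
  have hnc := quot_noncomm h.qs
  have hna : ¬ IsMulCommutative (K ⧸ center K) := by
    intro h1
    obtain ⟨a, b, hab⟩ := hnc
    exact hab (h1.is_comm.comm a b)
  have halt : ¬ IsAlternating (K ⧸ center K) := by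
    rintro ⟨n, hn, ⟨e⟩⟩
    by_cases h8 : 8 ≤ n
    · exact h.not_hasSL ((hasSL_alt h8).of_equiv e)
    · obtain rfl | rfl | rfl : n = 5 ∨ n = 6 ∨ n = 7 := by omega
      · obtain ⟨F, _, _, h1, h2, ⟨f⟩⟩ := alt5_psl
        exact h.not_psl h1 h2 (e.trans f)
      · obtain ⟨F, _, _, h1, h2, ⟨f⟩⟩ := alt6_psl
        exact h.not_psl h1 h2 (e.trans f)
      · exact h.not_a7 e
  have hodd : ¬ LieOdd (K ⧸ center K) := by
    intro hl
    rcases Cfsg.Agent.OddHalf.LieOddFam.lieOdd_cases hl halt with h1 | h1 | h1 | ⟨q, hq, h1⟩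
    · obtain ⟨F, _, _, hF, ⟨e⟩⟩ := h1
      exact h.not_psl (by rw [hF]; decide) (by rw [hF]; norm_num) e
    · obtain ⟨F, _, _, ho, hF, ⟨e⟩⟩ := h1
      exact h.not_psl ho (by omega) e
    · exact h.zne (Cfsg.Agent.OddHalf.U2.MulL2.center_ree h.qs.1.commutator_eq_top hs h.z2 h1)
    · exact h.not_hasSL (hasSL_rk hq h1)
  have hfin : Finite K := inferInstance
  rcases Cfsg.Agent.OddHalf.Known.classify hna hK with h1 | h1 | h1 | h1
  · exact halt h1
  · exact hodd h1
  · have hl : LieTwo (K ⧸ center K) := ⟨h1, halt, hodd⟩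
    by_cases hc : IsCyclic (center K)
    · have hQ : QsCyc K := ⟨hfin, h.qs, h.z2, hc⟩
      by_cases e2 : Exc2 (K ⧸ center K)
      · exact h.not_hasQ hc (hasQ_exc2 hnc e2)
      · by_cases e4 : Exc4 (K ⧸ center K)
        · rcases e4 with e4' | e4'
          · exact h.not_l34 e4' ((Nat.le_of_dvd (by norm_num) (hM.four _ hQ (Or.inl e4'))).trans (by norm_num))
          · obtain ⟨e⟩ := e4'
            exact h.not_hasQ hc (hasQ_M22.of_equiv e)
        · by_cases es : XSz (K ⧸ center K)
          · exact h.not_sz es (by rw [(hM4.sz _ hQ es h.zne).2]; norm_num)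
          · exact h.zne (hM.lie _ hQ hl e2 e4 es)
    · have hQ : QsNon K := ⟨hfin, h.qs, h.z2, hc⟩
      rcases hM4.lie _ hQ hl with hv | h34
      · have hk := hM4.four _ hQ hv
        have h4 : Nat.card (center K) = 4 := hk.card_four
        rcases hv with hv | hv | hv | hv
        · obtain ⟨F, _, _, hF, ⟨e⟩⟩ := hv
          exact h.not_hasSL ((hasSL_u62 hF).of_equiv e)
        · obtain ⟨F, _, _, hF, ⟨e⟩⟩ := hv
          exact h.not_hasSL ((hasSL_o8 hF).of_equiv e)
        · obtain ⟨F, _, _, hF, ⟨e⟩⟩ := hv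
          exact h.not_hasSL ((hasSL_twoE6 F hF (noncomm_congr e hnc)).of_equiv e)
        · exact h.not_sz (isoSuzuki_of_sz8 hv) (by rw [h4]; norm_num)
      · exact h.not_l34 h34 (by
          rcases (hM4.l34 _ hQ h34).1 with h5 | h5 | h5 <;> rw [h5] <;> norm_num)
  · by_cases hc : IsCyclic (center K)
    · have hQ : QsCyc K := ⟨hfin, h.qs, h.z2, hc⟩
      by_cases e2 : Exc2 (K ⧸ center K)
      · exact h.not_hasQ hc (hasQ_exc2 hnc e2)
      · by_cases e4 : Exc4 (K ⧸ center K)
        · rcases e4 with e4' | e4'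
          · exact h.not_l34 e4' ((Nat.le_of_dvd (by norm_num) (hM.four _ hQ (Or.inl e4'))).trans (by norm_num))
          · obtain ⟨e⟩ := e4'
            exact h.not_hasQ hc (hasQ_M22.of_equiv e)
        · exact h.zne (hM.spor _ hQ h1 e2 e4)
    · exact hM4.spor _ ⟨hfin, h.qs, h.z2, hc⟩ h1

end

end Cfsg.Agent.H466.RT
end

private theorem dce_cd21a61bc969 : _root_.True := by
  try have : _root_.True := by simp only [_root_.Cfsg.Spor.vecU'.eq_1]
  try have : _root_.True := by simp only [_root_.Cfsg.Spor.vecV.eq_1]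
  exact _root_.True.intro
end
end
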