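import Mathlib
import Cfsg.Agent.StdEven.Red_m3
import Cfsg.Agent.EvenType.KSection
import Cfsg.Agent.SignalizersComponents.PConstrained
import Cfsg.Agent.SignalizersComponents.LayerCenter
import Cfsg.Agent.SignalizersComponents.LayerBasic
import Cfsg.Agent.StdL3.OneNoTwo
import Cfsg.Agent.H466.RealLift
import Cfsg.Agent.S0200
import Cfsg.Agent.S0759
import Cfsg.Agent.R01.PSUSix
import Cfsg.Agent.S1629
import Cfsg.Agent.ClassicalGeometry.IsoTransfer
import Cfsg.Agent.LieClassical.SympTransvection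
import Cfsg.Agent.ChevalleyStructure.G2N
import Cfsg.Agent.ChevalleyStructure.ReeVec
import Cfsg.Agent.FourTwo.BN
import Cfsg.Agent.ChevStructure.FieldMap
import Cfsg.Prelude.Def_SporCoxeter
import Cfsg.Agent.GH.L2AutSyl_m3
import Cfsg.Agent.OddHalf.Small.Sp_m3
import Cfsg.Agent.Ree.Reduce
import Cfsg.Agent.S1152
import Cfsg.Agent.S1157
import Cfsg.Agent.FastGrp
import Cfsg.Agent.Prune
set_option linter.all false

section
prune_inst 0x7ffcbcf98fb83ddedfff7e7ffeffdffd99b87fffefdff9cbffe8ebff2f9f6b0ecfe5abaf9fe812fe0ef6621e90f87b13fdffde7fee6bdc7ffffd5ff45ffbff9fade7bd0871969c340fbc0fff63f07f8e7f3fffffffffffffffffffffffffffbeffbdffffffff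

-- part: H466/RT/Kill
section
prune_inst 0x4202204080012000000001000002664480001000023000151000d0600071300050006004c801c00180a02000004000000000010001000000000000000000120802850061200a104060009803007180c00000000000000000000000000041004000000000
set_option linter.all false
open scoped Cfsg.Agent.FastGrp

-- part: H466/RT/Basic
section
/-!
# Real elements and extended centralizers

`cst x` is the subgroup of the elements that map `x` to `x` or `x⁻¹`. For a real element `x` with
`x * x ≠ 1` the centralizer has index 2 in `cst x`.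
-/

set_option autoImplicit false

namespace Cfsg.Agent.H466.RT

open Subgroup

variable {G : Type*} [Group G]

/-- The exponent of 2 in `n`. -/
def nu (n : ℕ) : ℕ := n.factorization 2

/-- The elements that map `x` to `x` or `x⁻¹`. -/
def cst (x : G) : Subgroup G where
  carrier := {g | g * x * g⁻¹ = x ∨ g * x * g⁻¹ = x⁻¹}
  one_mem' := by left; simp
  mul_mem' := by
    rintro a b (ha | ha) (hb | hb)
    · left
      have : a * b * x * (a * b)⁻¹ = a * (b * x * b⁻¹) * a⁻¹ := by group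
      rw [this, hb, ha]
    · right
      have : a * b * x * (a * b)⁻¹ = (a * (b * x * b⁻¹)⁻¹ * a⁻¹)⁻¹ := by group
      rw [this, hb, inv_inv, ha]
    · right
      have : a * b * x * (a * b)⁻¹ = a * (b * x * b⁻¹) * a⁻¹ := by group
      rw [this, hb, ha]
    · left
      have : a * b * x * (a * b)⁻¹ = (a * (b * x * b⁻¹)⁻¹ * a⁻¹)⁻¹ := by group
      rw [this, hb, inv_inv, ha, inv_inv]
  inv_mem' := by
    rintro a (ha | ha)
    · left
      rw [inv_inv]
      calc a⁻¹ * x * a = a⁻¹ * (a * x * a⁻¹) * a := by rw [ha]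
        _ = x := by group
    · right
      rw [inv_inv]
      calc a⁻¹ * x * a = (a⁻¹ * x⁻¹ * a)⁻¹ := by group
        _ = (a⁻¹ * (a * x * a⁻¹) * a)⁻¹ := by rw [ha]
        _ = x⁻¹ := by group

theorem mem_cent {x g : G} : g ∈ centralizer ({x} : Set G) ↔ g * x * g⁻¹ = x := by
  rw [mem_centralizer_singleton_iff, mul_inv_eq_iff_eq_mul]

theorem cent_le_cst (x : G) : centralizer ({x} : Set G) ≤ cst x := fun _ hg => Or.inl (mem_cent.1 hg)

theorem nu_mul {a b : ℕ} (ha : a ≠ 0) (hb : b ≠ 0) : nu (a * b) = nu a + nu b := by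
  unfold nu
  rw [Nat.factorization_mul ha hb]
  rfl

theorem nu_le {a b : ℕ} (hb : b ≠ 0) (h : a ∣ b) : nu a ≤ nu b := by
  obtain ⟨c, rfl⟩ := h
  have ha : a ≠ 0 := fun h => hb (by rw [h, zero_mul])
  have hc : c ≠ 0 := fun h => hb (by rw [h, mul_zero])
  rw [nu_mul ha hc]
  omega

theorem nu_two_pow (n : ℕ) : nu (2 ^ n) = n := by
  unfold nu
  rw [Nat.Prime.factorization_pow Nat.prime_two]
  simp

theorem nu_two : nu 2 = 1 := by
  have := nu_two_pow 1
  rwa [pow_one] at this

theorem nu_odd {n : ℕ} (h : Odd n) : nu n = 0 :=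
  Nat.factorization_eq_zero_of_not_dvd (by
    intro h2
    rw [Nat.odd_iff] at h
    omega)

theorem dvd_of_le_nu {n k : ℕ} (hn : n ≠ 0) (h : k ≤ nu n) : 2 ^ k ∣ n :=
  (Nat.Prime.pow_dvd_iff_le_factorization Nat.prime_two hn).2 h

section Fin

variable [Finite G]

theorem card_ne (H : Subgroup G) : Nat.card H ≠ 0 := Nat.card_pos.ne'

theorem nu_card_le {H K : Subgroup G} (h : H ≤ K) : nu (Nat.card H) ≤ nu (Nat.card K) :=
  nu_le (card_ne K) (card_dvd_of_le h)

/-- A 2-subgroup of `K` has order at most `2 ^ nu |K|`. -/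
theorem exists_pow_of_two {P K : Subgroup G} (hP : IsPGroup 2 P) (h : P ≤ K) :
    ∃ n, Nat.card P = 2 ^ n ∧ n ≤ nu (Nat.card K) := by
  obtain ⟨n, hn⟩ := IsPGroup.iff_card.1 hP
  refine ⟨n, hn, ?_⟩
  have := nu_card_le h
  rwa [hn, nu_two_pow] at this

/-- `K` has a Sylow 2-subgroup. -/
theorem exists_sylow (K : Subgroup G) {A : Subgroup G} (hA : IsPGroup 2 A) (hAK : A ≤ K) :
    ∃ P : Subgroup G, P ≤ K ∧ A ≤ P ∧ IsPGroup 2 P ∧ Nat.card P = 2 ^ nu (Nat.card K) := by
  have : Fact (Nat.Prime 2) := ⟨Nat.prime_two⟩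
  obtain ⟨S, hS⟩ := (hA.comap_subtype (K := K)).exists_le_sylow
  refine ⟨(S : Subgroup K).map K.subtype, map_subtype_le _, ?_, S.isPGroup'.map _, ?_⟩
  · intro a ha
    exact ⟨⟨a, hAK ha⟩, hS ha, rfl⟩
  · rw [card_map_of_injective K.subtype_injective]
    exact Sylow.card_eq_multiplicity S

theorem relIndex_cent_cst {x : G} (hr : ∃ g : G, g * x * g⁻¹ = x⁻¹) (h2 : x * x ≠ 1) :
    (centralizer ({x} : Set G)).relIndex (cst x) = 2 := by
  obtain ⟨t, ht⟩ := hr
  rw [relIndex, index_eq_two_iff]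
  refine ⟨⟨t, Or.inr ht⟩, ?_⟩
  rintro ⟨b, hb⟩
  have hxx : x⁻¹ ≠ x := fun h => h2 (by
    calc x * x = x * x⁻¹ := by rw [h]
      _ = 1 := mul_inv_cancel x)
  have h1 : b * t * x * (b * t)⁻¹ = (b * x * b⁻¹)⁻¹ := by
    calc b * t * x * (b * t)⁻¹ = b * (t * x * t⁻¹) * b⁻¹ := by group
      _ = b * x⁻¹ * b⁻¹ := by rw [ht]
      _ = (b * x * b⁻¹)⁻¹ := by group
  simp only [mem_subgroupOf, mem_cent]
  change Xor' (b * t * x * (b * t)⁻¹ = x) (b * x * b⁻¹ = x)
  rw [h1]
  rcases hb with hb | hb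
  · right
    exact ⟨hb, by rw [hb]; exact hxx⟩
  · left
    exact ⟨by rw [hb, inv_inv], by rw [hb]; exact hxx⟩

/-- K1: for a real element which is not an involution the order of `cst x` is twice that of the
centralizer. -/
theorem card_cst {x : G} (hr : ∃ g : G, g * x * g⁻¹ = x⁻¹) (h2 : x * x ≠ 1) :
    Nat.card (cst x) = 2 * Nat.card (centralizer ({x} : Set G)) := by
  have h := card_mul_index ((centralizer ({x} : Set G)).subgroupOf (cst x))
  have h3 : ((centralizer ({x} : Set G)).subgroupOf (cst x)).index = 2 := relIndex_cent_cst hr h2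
  rw [h3, Nat.card_congr (subgroupOfEquivOfLe (cent_le_cst x)).toEquiv] at h
  omega

theorem nu_cst {x : G} (hr : ∃ g : G, g * x * g⁻¹ = x⁻¹) (h2 : x * x ≠ 1) :
    nu (Nat.card (cst x)) = nu (Nat.card (centralizer ({x} : Set G))) + 1 := by
  rw [card_cst hr h2, nu_mul (by norm_num) (card_ne _), nu_two]
  omega

end Fin

/-- `x` is real. -/
def Real' (x : G) : Prop := ∃ g : G, g * x * g⁻¹ = x⁻¹

theorem real_iff {x : G} : Real' x ↔ IsConj x x⁻¹ := by
  rw [isConj_iff]
  rfl

theorem Real'.of_sq {x : G} (h : x * x = 1) : Real' x :=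
  ⟨1, by rw [one_mul, inv_one, mul_one]; exact eq_inv_of_mul_eq_one_left h⟩

/-- All noncentral real elements have centralizers with the same 2-part `2 ^ c`. -/
def REq (G : Type*) [Group G] (c : ℕ) : Prop :=
  ∀ x : G, Real' x → x ∉ center G → nu (Nat.card (centralizer ({x} : Set G))) = c

theorem cst_le_of_mem_zpowers {u d : G} (hd : d ∈ zpowers u) (hd2 : d * d = 1) :
    cst u ≤ centralizer ({d} : Set G) := by
  obtain ⟨k, rfl⟩ := hd
  intro g hg
  rw [mem_cent]
  change g * u ^ k * g⁻¹ = u ^ k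
  rw [← conj_zpow]
  rcases hg with hg | hg
  · rw [hg]
  · rw [hg, inv_zpow]
    exact inv_eq_of_mul_eq_one_left hd2

/-- (C): when some real element is not an involution, the involutions of the centre of a Sylow
2-subgroup are central. -/
theorem REq.central [Finite G] {c : ℕ} (h : REq G c) {x : G} (hx : Real' x) (hx2 : x * x ≠ 1)
    {P : Subgroup G} (hP : nu (Nat.card P) = nu (Nat.card G)) {z : G} (hz : z * z = 1)
    (hzP : ∀ p ∈ P, p * z * p⁻¹ = z) : z ∈ center G := by
  by_contra hzc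
  have h1 := h z (Real'.of_sq hz) hzc
  have hxc : x ∉ center G := by
    intro hxc
    obtain ⟨g, hg⟩ := hx
    apply hx2
    have h3 : g * x = x * g := mem_center_iff.1 hxc g
    rw [h3, mul_inv_cancel_right] at hg
    calc x * x = x * x⁻¹ := by rw [← hg]
      _ = 1 := mul_inv_cancel x
  have h2 := h x hx hxc
  have h3 := nu_cst hx hx2
  have h4 : nu (Nat.card (cst x)) ≤ nu (Nat.card G) := nu_le Nat.card_pos.ne' (card_subgroup_dvd_card _)
  have h5 := nu_card_le (H := P) (K := centralizer ({z} : Set G)) (fun p hp => mem_cent.2 (hzP p hp))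
  omega

end Cfsg.Agent.H466.RT
end

-- part: H466/RT/OTwo
section
/-!
# Real elements of odd order centralize the normal 2-subgroups

when all noncentral real elements have centralizers with the same 2-part.
-/

set_option autoImplicit false

namespace Cfsg.Agent.H466.RT

open Subgroup

variable {G : Type*} [Group G]

/-- A nontrivial normal 2-subgroup `B` has a proper subgroup `F`, normal in `G`, with `B / F` elementary
abelian. -/
theorem exists_sq_sub [Finite G] (B : Subgroup G) [hBn : B.Normal] (hB : IsPGroup 2 B) (hne : B ≠ ⊥) :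
    ∃ F : Subgroup G, F.Normal ∧ F < B ∧ ∀ b ∈ B, b * b ∈ F := by
  have : Fact (Nat.Prime 2) := ⟨Nat.prime_two⟩
  let F : Subgroup G := closure {y | ∃ b ∈ B, b * b = y}
  have hFB : F ≤ B := by
    rw [closure_le]
    rintro _ ⟨b, hb, rfl⟩
    exact B.mul_mem hb hb
  have hFn : F.Normal := by
    constructor
    intro n hn g
    have h1 : ∀ y ∈ F, g * y * g⁻¹ ∈ F := by
      intro y hy
      induction hy using closure_induction with
      | mem y hy =>
        obtain ⟨b, hb, rfl⟩ := hy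
        apply Subgroup.subset_closure
        exact ⟨g * b * g⁻¹, hBn.conj_mem b hb g, by group⟩
      | one => simp
      | mul a b _ _ ha hb =>
        have : g * (a * b) * g⁻¹ = (g * a * g⁻¹) * (g * b * g⁻¹) := by group
        rw [this]
        exact F.mul_mem ha hb
      | inv a _ ha =>
        have : g * a⁻¹ * g⁻¹ = (g * a * g⁻¹)⁻¹ := by group
        rw [this]
        exact F.inv_mem ha
    exact h1 n hn
  refine ⟨F, hFn, lt_of_le_of_ne hFB ?_, fun b hb => Subgroup.subset_closure ⟨b, hb, rfl⟩⟩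
  intro hEq
  obtain ⟨n, hn⟩ := IsPGroup.iff_card.1 hB
  have hn0 : n ≠ 0 := by
    rintro rfl
    apply hne
    rw [pow_zero] at hn
    exact card_eq_one.1 hn
  obtain ⟨m, rfl⟩ := Nat.exists_eq_succ_of_ne_zero hn0
  obtain ⟨H, hH⟩ := Sylow.exists_subgroup_card_pow_prime (G := B) 2 (n := m) (by
    rw [hn]
    exact pow_dvd_pow 2 (Nat.le_succ m))
  have hi : H.index = 2 := by
    have h1 := card_mul_index H
    rw [hH, hn, pow_succ] at h1
    exact Nat.eq_of_mul_eq_mul_left (by positivity) h1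
  have hFH : F ≤ H.map B.subtype := by
    rw [closure_le]
    rintro _ ⟨b, hb, rfl⟩
    exact ⟨⟨b, hb⟩ * ⟨b, hb⟩, mul_self_mem_of_index_two hi _, rfl⟩
  have h2 : H = ⊤ := by
    rw [eq_top_iff]
    intro b _
    have h3 : (b : G) ∈ F := by rw [hEq]; exact b.2
    obtain ⟨b', hb', he⟩ := hFH h3
    have : b' = b := Subtype.ext he
    rwa [← this]
  rw [h2, index_top] at hi
  omega

theorem isPGroup_of_le_odd_eq_one {x : G} [Finite G] {B : Subgroup G} (hB : IsPGroup 2 B) (hx : x ∈ B)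
    (ho : Odd (orderOf x)) : x = 1 := by
  have : Fact (Nat.Prime 2) := ⟨Nat.prime_two⟩
  obtain ⟨k, hk⟩ := (IsPGroup.iff_orderOf.1 hB) ⟨x, hx⟩
  rw [orderOf_mk] at hk
  rw [← orderOf_eq_one_iff, hk]
  rcases Nat.eq_zero_or_pos k with h0 | h0
  · rw [h0, pow_zero]
  · exfalso
    rw [hk, Nat.odd_iff] at ho
    obtain ⟨m, rfl⟩ := Nat.exists_eq_succ_of_ne_zero h0.ne'
    rw [pow_succ] at ho
    omega

/-- coprime action on a coset -/
theorem comm_of_mod [Finite G] {x : G} (ho : Odd (orderOf x)) {F : Subgroup G} (hF : IsPGroup 2 F)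
    (hxF : ∀ f ∈ F, x * f * x⁻¹ = f) {b : G} (hb : b⁻¹ * (x * b * x⁻¹) ∈ F) : x * b * x⁻¹ = b := by
  set f := b⁻¹ * (x * b * x⁻¹) with hf
  have hxb : x * b * x⁻¹ = b * f := by rw [hf]; group
  have h1 : ∀ n : ℕ, x ^ n * b * (x ^ n)⁻¹ = b * f ^ n := by
    intro n
    induction n with
    | zero => simp
    | succ n ih =>
      have h2 : x * f ^ n * x⁻¹ = f ^ n := hxF _ (F.pow_mem hb n)
      calc x ^ (n + 1) * b * (x ^ (n + 1))⁻¹ = x * (x ^ n * b * (x ^ n)⁻¹) * x⁻¹ := by
            rw [pow_succ' x n]; group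
        _ = (x * b * x⁻¹) * (x * f ^ n * x⁻¹) := by rw [ih]; group
        _ = b * f * f ^ n := by rw [hxb, h2]
        _ = b * f ^ (n + 1) := by rw [pow_succ' f n]; group
  have h3 := h1 (orderOf x)
  rw [pow_orderOf_eq_one, one_mul, inv_one, mul_one] at h3
  have h4 : f ^ orderOf x = 1 := (mul_eq_left.1 h3.symm)
  have h5 : f = 1 := by
    apply isPGroup_of_le_odd_eq_one hF hb
    exact Odd.of_dvd_nat ho (orderOf_dvd_of_pow_eq_one h4)
  rw [hxb, h5, mul_one]

/-- if `x ^ 2` centralizes `v` then `x` does (odd order) -/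
theorem comm_of_sq [Finite G] {x v : G} (ho : Odd (orderOf x)) (h : x * (x * v * x⁻¹) * x⁻¹ = v) :
    x * v * x⁻¹ = v := by
  obtain ⟨k, hk⟩ := ho
  have h1 : ∀ n : ℕ, (x ^ 2) ^ n * v * ((x ^ 2) ^ n)⁻¹ = v := by
    intro n
    induction n with
    | zero => simp
    | succ n ih =>
      calc (x ^ 2) ^ (n + 1) * v * ((x ^ 2) ^ (n + 1))⁻¹
          = (x ^ 2) ^ n * (x * (x * v * x⁻¹) * x⁻¹) * ((x ^ 2) ^ n)⁻¹ := by
            rw [pow_succ (x ^ 2) n, pow_two]; group
        _ = v := by rw [h, ih]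
  have h2 := h1 (k + 1)
  have h3 : (x ^ 2) ^ (k + 1) = x := by
    rw [← pow_mul]
    have : 2 * (k + 1) = orderOf x + 1 := by omega
    rw [this, pow_succ, pow_orderOf_eq_one, one_mul]
  rwa [h3] at h2

/-- the core computation -/
theorem REq.core [Finite G] {c : ℕ} (h : REq G c) {x : G} (hx : Real' x) (ho : Odd (orderOf x))
    {B F : Subgroup G} [hBn : B.Normal] [hFn : F.Normal] (hB : IsPGroup 2 B) (hFB : F ≤ B)
    (hsq : ∀ b ∈ B, b * b ∈ F) (hxF : ∀ f ∈ F, x * f * x⁻¹ = f) : ∀ b ∈ B, x * b * x⁻¹ = b := by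
  have : Fact (Nat.Prime 2) := ⟨Nat.prime_two⟩
  by_contra hcon
  push Not at hcon
  obtain ⟨b₀, hb₀, hb₀x⟩ := hcon
  have hF : IsPGroup 2 F := hB.to_le hFB
  have hx1 : x ≠ 1 := by
    rintro rfl
    apply hb₀x
    simp
  have hxx : x * x ≠ 1 := by
    intro h2
    apply hx1
    rw [← orderOf_eq_one_iff]
    have h3 : orderOf x ∣ 2 := orderOf_dvd_of_pow_eq_one (by rw [pow_two]; exact h2)
    rcases (Nat.dvd_prime Nat.prime_two).1 h3 with h4 | h4
    · exact h4
    · rw [h4] at ho
      exact absurd ho (by decide)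
  -- the quotient
  let π : G →* G ⧸ F := QuotientGroup.mk' F
  have hker : ∀ g : G, π g = 1 ↔ g ∈ F := fun g => QuotientGroup.eq_one_iff g
  let V : Subgroup (G ⧸ F) := B.map π
  have hVsq : ∀ v ∈ V, v * v = 1 := by
    rintro _ ⟨b, hb, rfl⟩
    rw [← map_mul, hker]
    exact hsq b hb
  have hVinv : ∀ v ∈ V, v⁻¹ = v := fun v hv => inv_eq_of_mul_eq_one_right (hVsq v hv)
  have hVc : ∀ v ∈ V, ∀ w ∈ V, v * w = w * v := by
    intro v hv w hw
    have h1 := hVinv _ (V.mul_mem hv hw)
    rw [mul_inv_rev, hVinv v hv, hVinv w hw] at h1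
    exact h1.symm
  have hVconj : ∀ (g : G ⧸ F), ∀ v ∈ V, g * v * g⁻¹ ∈ V := by
    intro g v hv
    obtain ⟨g, rfl⟩ := QuotientGroup.mk'_surjective F g
    obtain ⟨b, hb, rfl⟩ := hv
    exact ⟨g * b * g⁻¹, hBn.conj_mem b hb g, by rw [map_mul, map_mul, map_inv]⟩
  let X := π x
  have hXo : Odd (orderOf X) := Odd.of_dvd_nat ho (orderOf_map_dvd π x)
  -- the subgroup `[V, X]`
  let W : Subgroup (G ⧸ F) :=
    { carrier := {w | ∃ v ∈ V, v * (X * v * X⁻¹) = w}
      one_mem' := ⟨1, V.one_mem, by simp⟩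
      mul_mem' := by
        rintro _ _ ⟨v, hv, rfl⟩ ⟨w, hw, rfl⟩
        refine ⟨v * w, V.mul_mem hv hw, ?_⟩
        have h1 := hVc w hw (X * v * X⁻¹) (hVconj X v hv)
        calc v * w * (X * (v * w) * X⁻¹) = v * (w * (X * v * X⁻¹)) * (X * w * X⁻¹) := by group
          _ = v * ((X * v * X⁻¹) * w) * (X * w * X⁻¹) := by rw [h1]
          _ = v * (X * v * X⁻¹) * (w * (X * w * X⁻¹)) := by group
      inv_mem' := by
        rintro _ ⟨v, hv, rfl⟩
        refine ⟨v, hv, ?_⟩
        have h1 : v * (X * v * X⁻¹) ∈ V := V.mul_mem hv (hVconj X v hv)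
        rw [hVinv _ h1] }
  have hWV : W ≤ V := by
    rintro _ ⟨v, hv, rfl⟩
    exact V.mul_mem hv (hVconj X v hv)
  have hWne : W ≠ ⊥ := by
    intro hW
    have h1 : π b₀ * (X * π b₀ * X⁻¹) ∈ W := ⟨π b₀, ⟨b₀, hb₀, rfl⟩, rfl⟩
    rw [hW, mem_bot] at h1
    have h2 : X * π b₀ * X⁻¹ = π b₀ := by
      have h3 := eq_inv_of_mul_eq_one_right h1
      rw [h3, hVinv _ ⟨b₀, hb₀, rfl⟩]
    apply hb₀x
    apply comm_of_mod ho hF hxF
    rw [← hker, map_mul, map_inv, map_mul, map_mul, map_inv]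
    change (π b₀)⁻¹ * (X * π b₀ * X⁻¹) = 1
    rw [h2, inv_mul_cancel]
  -- a Sylow 2-subgroup of `cst x`
  obtain ⟨S, hSle, -, hS2, hSc⟩ := exists_sylow (cst x) (A := ⊥) IsPGroup.of_bot bot_le
  have hSconj : ∀ s ∈ S.map π, ∀ w ∈ W, s * w * s⁻¹ ∈ W := by
    rintro _ ⟨s, hs, rfl⟩ _ ⟨v, hv, rfl⟩
    rcases hSle hs with h1 | h1
    · refine ⟨π s * v * (π s)⁻¹, hVconj _ v hv, ?_⟩
      have h2 : π s * X * (π s)⁻¹ = X := by
        change π s * π x * (π s)⁻¹ = π x
        rw [← map_mul, ← map_inv, ← map_mul, h1]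
      calc π s * v * (π s)⁻¹ * (X * (π s * v * (π s)⁻¹) * X⁻¹)
          = π s * v * (π s)⁻¹ * ((π s * X * (π s)⁻¹) * (π s * v * (π s)⁻¹) * (π s * X * (π s)⁻¹)⁻¹) := by
            rw [h2]
        _ = π s * (v * (X * v * X⁻¹)) * (π s)⁻¹ := by group
    · have h2 : π s * X * (π s)⁻¹ = X⁻¹ := by
        change π s * π x * (π s)⁻¹ = (π x)⁻¹
        rw [← map_mul, ← map_inv, ← map_mul, h1, map_inv]
      let v' := X⁻¹ * (π s * v * (π s)⁻¹) * X
      have hv' : v' ∈ V := by
        have := hVconj X⁻¹ _ (hVconj (π s) v hv)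
        rwa [inv_inv] at this
      refine ⟨v', hv', ?_⟩
      have h3 : X * v' * X⁻¹ = π s * v * (π s)⁻¹ := by
        change X * (X⁻¹ * (π s * v * (π s)⁻¹) * X) * X⁻¹ = _
        group
      rw [h3, hVc v' hv' _ (hVconj (π s) v hv)]
      have h4 : v' = (π s * X * (π s)⁻¹) * (π s * v * (π s)⁻¹) * (π s * X * (π s)⁻¹)⁻¹ := by
        rw [h2, inv_inv]
      rw [h4]
      group
  obtain ⟨w, hwW, hw1, hwS⟩ := Cfsg.Agent.HexOut.exists_central (hS2.map π) ((hB.map π).to_le hWV) hSconj hWne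
  obtain ⟨u, hu, huw⟩ := hWV hwW
  -- `X` does not commute with `w`
  have hXw : X * w * X⁻¹ ≠ w := by
    intro h1
    obtain ⟨v, hv, hvw⟩ := hwW
    apply hw1
    have h2 : X * (X * v * X⁻¹) * X⁻¹ = v := by
      have h3 : X * w * X⁻¹ = (X * v * X⁻¹) * (X * (X * v * X⁻¹) * X⁻¹) := by
        rw [← hvw]; group
      rw [h1, ← hvw, hVc v hv _ (hVconj X v hv)] at h3
      exact (mul_left_cancel h3).symm
    have h4 := comm_of_sq hXo h2
    rw [h4] at hvw
    rw [← hvw]
    exact hVsq v hv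
  -- the real element
  set u' := x * u * x⁻¹ with hu'
  have huu : u' * u' = u * u := by
    have h1 := hxF (u * u) (hsq u hu)
    calc u' * u' = x * (u * u) * x⁻¹ := by rw [hu']; group
      _ = u * u := h1
  set r := u * u'⁻¹ with hr
  have hru : u⁻¹ * r * u = r⁻¹ := by
    calc u⁻¹ * r * u = u'⁻¹ * u := by rw [hr]; group
      _ = u'⁻¹ * (u * u) * u⁻¹ := by group
      _ = u'⁻¹ * (u' * u') * u⁻¹ := by rw [huu]
      _ = r⁻¹ := by rw [hr]; group
  have hrr : Real' r := ⟨u⁻¹, by rw [inv_inv]; exact hru⟩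
  have hrc : r ∉ center G := by
    intro hrc
    apply hXw
    have h1 : π r = w * (X * w * X⁻¹) := by
      rw [hr, hu']
      change π (u * (x * u * x⁻¹)⁻¹) = w * (π x * w * (π x)⁻¹)
      rw [← huw, map_mul, map_inv, map_mul, map_mul, map_inv]
      congr 1
      exact hVinv _ (hVconj X _ ⟨u, hu, rfl⟩)
    have h2 : X * π r * X⁻¹ = π r := by
      change π x * π r * (π x)⁻¹ = π r
      rw [← map_mul, ← map_inv, ← map_mul, mem_center_iff.1 hrc x, mul_inv_cancel_right]
    rw [h1] at h2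
    have hwV : w ∈ V := hWV hwW
    have h3 : (X * w * X⁻¹) * (X * (X * w * X⁻¹) * X⁻¹) = (X * w * X⁻¹) * w := by
      calc (X * w * X⁻¹) * (X * (X * w * X⁻¹) * X⁻¹) = X * (w * (X * w * X⁻¹)) * X⁻¹ := by group
        _ = w * (X * w * X⁻¹) := h2
        _ = (X * w * X⁻¹) * w := hVc w hwV _ (hVconj X w hwV)
    exact comm_of_sq hXo (mul_left_cancel h3)
  have hxc : x ∉ center G := by
    intro hxc
    apply hb₀x
    rw [← mem_center_iff.1 hxc b₀, mul_inv_cancel_right]
  have hcx := h x hx hxc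
  have hcr := h r hrr hrc
  have hcst := nu_cst hx hxx
  -- for `s ∈ S` we have `s u s⁻¹ = u f`
  have hsu : ∀ s ∈ S, ∃ f ∈ F, s * u * s⁻¹ = u * f := by
    intro s hs
    refine ⟨u⁻¹ * (s * u * s⁻¹), ?_, by group⟩
    rw [← hker, map_mul, map_inv, map_mul, map_mul, map_inv, huw, hwS (π s) ⟨s, hs, rfl⟩]
    group
  -- `S₀`
  let S₀ : Subgroup G := S ⊓ centralizer ({x} : Set G)
  have hS₀r : S₀ ≤ centralizer ({r} : Set G) := by
    intro s hs'
    have hs : s ∈ S := (mem_inf.1 hs').1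
    have hsx := mem_cent.1 (mem_inf.1 hs').2
    rw [mem_cent]
    obtain ⟨f, hf, hsf⟩ := hsu s hs
    have h1 : s * u' * s⁻¹ = u' * f := by
      calc s * u' * s⁻¹ = (s * x * s⁻¹) * (s * u * s⁻¹) * (s * x * s⁻¹)⁻¹ := by rw [hu']; group
        _ = x * (u * f) * x⁻¹ := by rw [hsx, hsf]
        _ = u' * (x * f * x⁻¹) := by rw [hu']; group
        _ = u' * f := by rw [hxF f hf]
    calc s * r * s⁻¹ = (s * u * s⁻¹) * (s * u' * s⁻¹)⁻¹ := by rw [hr]; group
      _ = r := by rw [hsf, h1, hr]; group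
  -- an element of `S` inverting `x`
  have hSc' : nu (Nat.card S) = c + 1 := by rw [hSc, nu_two_pow]; omega
  have hex : ∃ t ∈ S, t * x * t⁻¹ ≠ x := by
    by_contra hcon
    push Not at hcon
    have h1 : S ≤ centralizer ({x} : Set G) := fun s hs => mem_cent.2 (hcon s hs)
    have h2 := nu_card_le h1
    omega
  obtain ⟨t, htS, htx⟩ := hex
  have htx' : t * x * t⁻¹ = x⁻¹ := (hSle htS).resolve_left htx
  -- `|S₀| = 2 ^ c`
  have hS₀c : c ≤ nu (Nat.card S₀) := by
    have h2 : Nat.card S = 2 * Nat.card S₀ := by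
      have h3 : (S₀.subgroupOf S).index = 2 := by
        rw [index_eq_two_iff]
        refine ⟨⟨t, htS⟩, ?_⟩
        rintro ⟨b, hb⟩
        have hmem : ∀ (g : G) (hg : g ∈ S), (⟨g, hg⟩ : S) ∈ S₀.subgroupOf S ↔ g * x * g⁻¹ = x := by
          intro g hg
          rw [mem_subgroupOf]
          change g ∈ S ⊓ centralizer ({x} : Set G) ↔ _
          rw [mem_inf, mem_cent]
          exact ⟨fun h => h.2, fun h => ⟨hg, h⟩⟩
        change Xor' ((⟨b * t, S.mul_mem hb htS⟩ : S) ∈ S₀.subgroupOf S) ((⟨b, hb⟩ : S) ∈ S₀.subgroupOf S)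
        rw [hmem, hmem]
        have h4 : b * t * x * (b * t)⁻¹ = (b * x * b⁻¹)⁻¹ := by
          calc b * t * x * (b * t)⁻¹ = b * (t * x * t⁻¹) * b⁻¹ := by group
            _ = (b * x * b⁻¹)⁻¹ := by rw [htx']; group
        rw [h4]
        have hxi : x⁻¹ ≠ x := by rw [← htx']; exact htx
        rcases hSle hb with h5 | h5
        · right
          exact ⟨h5, by rw [h5]; exact hxi⟩
        · left
          exact ⟨by rw [h5, inv_inv], by rw [h5]; exact hxi⟩
      have h5 := card_mul_index (S₀.subgroupOf S)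
      have h6 : Nat.card (S₀.subgroupOf S) = Nat.card S₀ :=
        Nat.card_congr (subgroupOfEquivOfLe (inf_le_left : S₀ ≤ S)).toEquiv
      rw [h3, h6] at h5
      omega
    have h6 : nu (Nat.card S) = 1 + nu (Nat.card S₀) := by
      rw [h2, nu_mul (by norm_num) (card_ne _), nu_two]
    omega
  -- `y` with `y * y = x`
  obtain ⟨k, hk⟩ := ho
  let y := x ^ (k + 1)
  have hyy : y * y = x := by
    change x ^ (k + 1) * x ^ (k + 1) = x
    rw [← pow_add]
    have : k + 1 + (k + 1) = orderOf x + 1 := by omega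
    rw [this, pow_succ, pow_orderOf_eq_one, one_mul]
  have hyt : y * t * y⁻¹ = x * t := by
    have h1 : t * y⁻¹ * t⁻¹ = y := by
      change t * (x ^ (k + 1))⁻¹ * t⁻¹ = x ^ (k + 1)
      rw [← conj_inv, ← conj_pow, htx', inv_pow, inv_inv]
    calc y * t * y⁻¹ = y * (t * y⁻¹ * t⁻¹) * t := by group
      _ = x * t := by rw [h1, hyy]
  let P₂ : Subgroup G := S.map (MulAut.conj y).toMonoidHom
  have hP₂ : IsPGroup 2 P₂ := hS2.map _
  have hxtP : x * t ∈ P₂ := ⟨t, htS, by
    rw [← hyt]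
    rfl⟩
  have hS₀P : S₀ ≤ P₂ := by
    intro s hs'
    have hs : s ∈ S := (mem_inf.1 hs').1
    have hsx := mem_cent.1 (mem_inf.1 hs').2
    refine ⟨s, hs, ?_⟩
    change y * s * y⁻¹ = s
    have h1 : s * y * s⁻¹ = y := by
      change s * x ^ (k + 1) * s⁻¹ = x ^ (k + 1)
      rw [← conj_pow, hsx]
    calc y * s * y⁻¹ = (s * y * s⁻¹) * s * y⁻¹ := by rw [h1]
      _ = s := by group
  have hE : IsPGroup 2 (B ⊔ P₂ : Subgroup G) := hB.to_sup_of_normal_left hP₂
  -- `g = u⁻¹ x t` centralizes `r`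
  have hgr : u⁻¹ * (x * t) ∈ centralizer ({r} : Set G) := by
    rw [mem_cent]
    obtain ⟨f, hf, htf⟩ := hsu t htS
    have hxf : x⁻¹ * f * x = f := by
      calc x⁻¹ * f * x = x⁻¹ * (x * f * x⁻¹) * x := by rw [hxF f hf]
        _ = f := by group
    have h1 : t * u' * t⁻¹ = (x⁻¹ * u * x) * f := by
      calc t * u' * t⁻¹ = (t * x * t⁻¹) * (t * u * t⁻¹) * (t * x * t⁻¹)⁻¹ := by rw [hu']; group
        _ = (x⁻¹ * u * x) * (x⁻¹ * f * x) := by rw [htx', htf]; group
        _ = (x⁻¹ * u * x) * f := by rw [hxf]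
    have h2 : t * r * t⁻¹ = u * (x⁻¹ * u * x)⁻¹ := by
      calc t * r * t⁻¹ = (t * u * t⁻¹) * (t * u' * t⁻¹)⁻¹ := by rw [hr]; group
        _ = u * (x⁻¹ * u * x)⁻¹ := by rw [htf, h1]; group
    have h3 : (x * t) * r * (x * t)⁻¹ = r⁻¹ := by
      calc (x * t) * r * (x * t)⁻¹ = x * (t * r * t⁻¹) * x⁻¹ := by group
        _ = r⁻¹ := by rw [h2, hr, hu']; group
    calc u⁻¹ * (x * t) * r * (u⁻¹ * (x * t))⁻¹ = u⁻¹ * ((x * t) * r * (x * t)⁻¹) * u := by group
      _ = (u⁻¹ * r * u)⁻¹ := by rw [h3]; group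
      _ = r := by rw [hru, inv_inv]
  let L : Subgroup G := (B ⊔ P₂) ⊓ centralizer ({r} : Set G)
  have hL : IsPGroup 2 L := hE.to_inf_left
  have hS₀L : S₀ ≤ L := le_inf (hS₀P.trans le_sup_right) hS₀r
  have hLS : L = S₀ := by
    obtain ⟨n, hn, hn'⟩ := exists_pow_of_two hL (inf_le_right : L ≤ centralizer ({r} : Set G))
    symm
    apply eq_of_le_of_card_ge hS₀L
    rw [hcr] at hn'
    have h1 : 2 ^ c ∣ Nat.card S₀ := dvd_of_le_nu (card_ne _) hS₀c
    have h2 := Nat.le_of_dvd Nat.card_pos h1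
    rw [hn]
    exact (Nat.pow_le_pow_right (by norm_num) hn').trans h2
  have hgL : u⁻¹ * (x * t) ∈ L := by
    refine mem_inf.2 ⟨?_, hgr⟩
    exact (B ⊔ P₂).mul_mem (mem_sup_left (B.inv_mem hu)) (mem_sup_right hxtP)
  rw [hLS] at hgL
  have hgx := mem_cent.1 (mem_inf.1 hgL).2
  have h7 : u⁻¹ * x⁻¹ * u = x := by
    calc u⁻¹ * x⁻¹ * u = u⁻¹ * (x * (t * x * t⁻¹) * x⁻¹) * u := by rw [htx']; group
      _ = u⁻¹ * (x * t) * x * (u⁻¹ * (x * t))⁻¹ := by group
      _ = x := hgx
  have h8 : x * x ∈ B := by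
    have h9 : x * x = u⁻¹ * (x⁻¹ * u * x) := by
      calc x * x = (u⁻¹ * x⁻¹ * u) * x := by rw [h7]
        _ = u⁻¹ * (x⁻¹ * u * x) := by group
    rw [h9]
    have h10 := hBn.conj_mem u hu x⁻¹
    rw [inv_inv] at h10
    exact B.mul_mem (B.inv_mem hu) h10
  apply hxx
  apply isPGroup_of_le_odd_eq_one hB h8
  have h9 : orderOf (x * x) ∣ orderOf x := by
    rw [← pow_two]
    exact orderOf_pow_dvd 2
  exact Odd.of_dvd_nat ⟨k, hk⟩ h9

/-- (O): real elements of odd order centralize the normal 2-subgroups. -/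
theorem REq.comm_of_normal [Finite G] {c : ℕ} (h : REq G c) {x : G} (hx : Real' x) (ho : Odd (orderOf x))
    (B : Subgroup G) [hBn : B.Normal] (hB : IsPGroup 2 B) : ∀ b ∈ B, x * b * x⁻¹ = b := by
  induction hn : Nat.card B using Nat.strong_induction_on generalizing B with
  | _ n ih =>
    by_cases hne : B = ⊥
    · intro b hb
      rw [hne, mem_bot] at hb
      rw [hb]
      simp
    obtain ⟨F, hFn, hFB, hsq⟩ := exists_sq_sub B hB hne
    have hF := ih (Nat.card F) (by
      rw [← hn]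
      have : (F : Set G) ⊂ (B : Set G) := hFB
      exact Set.ncard_lt_ncard this (Set.toFinite _)) F (hB.to_le hFB.le) rfl
    exact h.core hx ho hB hFB.le hsq hF

end Cfsg.Agent.H466.RT
end

-- part: H466/RT/Comp
section
/-!
# A component with even centre

If all noncentral real elements of `G` have centralizers with the same 2-part, `O(G) = 1` and some real
element `x ≠ 1` has odd order, then `G` has a component `K` whose centre is a nontrivial 2-group, and
the real elements of `K` outside `Z(K)` have centralizers in `N(K)` with the same 2-part (`Pair`).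
-/

set_option autoImplicit false

namespace Cfsg.Agent.H466.RT

open Subgroup Cfsg

variable {G : Type*} [Group G]

/-- `K` is a normal quasisimple subgroup of `M` with centre a nontrivial 2-group, and the real elements of
`M` in `K` outside `Z(K)` have centralizers with the same 2-part. -/
structure Pair (M : Type*) [Group M] (K : Subgroup M) (c : ℕ) : Prop where
  nrm : K.Normal
  qs : IsQuasisimple K
  z2 : IsPGroup 2 (center K)
  zne : center K ≠ ⊥
  req : ∀ x ∈ K, Real' x → (∃ k ∈ K, k * x ≠ x * k) → nu (Nat.card (centralizer ({x} : Set M))) = c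

theorem exists_component [Finite G] {c : ℕ} (h : REq G c) (hO : pPrimeCore 2 G = ⊥) {x : G} (hx : Real' x)
    (ho : Odd (orderOf x)) (hx1 : x ≠ 1) :
    ∃ K : Subgroup G, IsComponent K ∧ IsPGroup 2 (center K) ∧ center K ≠ ⊥ := by
  have : Fact (Nat.Prime 2) := ⟨Nat.prime_two⟩
  have hxx : x * x ≠ 1 := by
    intro h2
    apply hx1
    rw [← orderOf_eq_one_iff]
    have h3 : orderOf x ∣ 2 := orderOf_dvd_of_pow_eq_one (by rw [pow_two]; exact h2)
    rcases (Nat.dvd_prime Nat.prime_two).1 h3 with h4 | h4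
    · exact h4
    · rw [h4] at ho
      exact absurd ho (by decide)
  have hE : layer G ≠ ⊥ := by
    intro hE
    have h1 := (SignalizersComponents.PConstrained.centralizer_pCore_le_iff_layer_eq_bot 2 hO).2 hE
    have hn : (pCore 2 G).Normal := Lib.Cores.pCore_normal 2
    have hp : IsPGroup 2 (pCore 2 G) := Lib.Cores.pCore_isPGroup 2
    have h2 := h.comm_of_normal hx ho (pCore 2 G) hp
    have h3 : x ∈ centralizer (pCore 2 G : Set G) := by
      rw [mem_centralizer_iff]
      intro b hb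
      have h4 := h2 b hb
      rw [mul_inv_eq_iff_eq_mul] at h4
      exact h4.symm
    exact hx1 (isPGroup_of_le_odd_eq_one hp (h1 h3) ho)
  have hEn : (layer G).Normal := SignalizersComponents.LayerBasic.layer_normal G
  have hE2 : 2 ∣ Nat.card (layer G) := by
    by_contra hcon
    apply hE
    rw [eq_bot_iff, ← hO]
    apply le_sSup
    refine ⟨hEn, ?_⟩
    exact ((Nat.Prime.coprime_iff_not_dvd Nat.prime_two).2 hcon).symm
  obtain ⟨P, -, -, hP2, hPc⟩ := exists_sylow (⊤ : Subgroup G) (A := ⊥) IsPGroup.of_bot bot_le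
  obtain ⟨z, hzE, hz1, hzz, hzP⟩ := StdLThreeFour.Syl.exists_invol_commute hP2
    (fun q _ y hy => hEn.conj_mem y hy q) hE2
  have hzc : z ∈ center G := by
    apply h.central hx hxx (P := P) (by rw [hPc, nu_two_pow, card_top]) hzz
    intro p hp
    have h1 : p * z = z * p := hzP p hp
    rw [h1, mul_inv_cancel_right]
  have hz : z ∈ (center (layer G)).map (layer G).subtype := by
    refine ⟨⟨z, hzE⟩, ?_, rfl⟩
    rw [SetLike.mem_coe, mem_center_iff]
    intro g
    apply Subtype.ext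
    exact mem_center_iff.1 hzc g
  rw [SignalizersComponents.LayerCenter.map_center_layer] at hz
  have hex : ∃ L : {K : Subgroup G // IsComponent K}, center (L : Subgroup G) ≠ ⊥ := by
    by_contra hcon
    push Not at hcon
    have h1 : (⨆ L : {K : Subgroup G // IsComponent K}, (center ↥(L : Subgroup G)).map (L : Subgroup G).subtype) = ⊥ := by
      rw [iSup_eq_bot]
      intro L
      rw [hcon L, Subgroup.map_bot]
    rw [h1, mem_bot] at hz
    exact hz1 hz
  obtain ⟨⟨K, hK⟩, hKc⟩ := hex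
  exact ⟨K, hK, EvenType.KSection.isPGroup_center_of_subnormal Nat.prime_two hO hK.1, hKc⟩

/-- centralizers of noncentral elements of a component normalize the component -/
theorem cst_le_normalizer {K : Subgroup G} (hK : IsComponent K) {x : G} (hxK : x ∈ K)
    (hne : ∃ k ∈ K, k * x ≠ x * k) : centralizer ({x} : Set G) ≤ normalizer (K : Set G) := by
  intro g hg
  rw [mem_cent] at hg
  by_contra hcon
  have h1 : IsComponent (K.map (MulAut.conj g).toMonoidHom) :=
    SignalizersComponents.Components.isComponent_conj g hK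
  have h2 : K ≠ K.map (MulAut.conj g).toMonoidHom := by
    intro h2
    apply hcon
    rw [mem_normalizer_iff]
    intro y
    constructor
    · intro hy
      rw [h2]
      exact ⟨y, hy, rfl⟩
    · intro hy
      rw [h2] at hy
      obtain ⟨y', hy', he⟩ := hy
      have h3 : y = y' := by
        have h4 : g * y' * g⁻¹ = g * y * g⁻¹ := he
        exact (mul_left_cancel (mul_right_cancel h4)).symm
      rw [h3]
      exact hy'
  have h3 := SignalizersComponents.Components.component_le_centralizer_of_ne hK h1 h2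
  obtain ⟨k, hk, hkx⟩ := hne
  apply hkx
  have h4 := mem_centralizer_iff.1 (h3 hk) x ⟨x, hxK, hg⟩
  exact h4.symm

theorem pair_of_component [Finite G] {c : ℕ} (h : REq G c) {K : Subgroup G} (hK : IsComponent K)
    (hz : IsPGroup 2 (center K)) (hne : center K ≠ ⊥) :
    Pair (normalizer (K : Set G)) (K.subgroupOf (normalizer (K : Set G))) c := by
  have e : K.subgroupOf (normalizer (K : Set G)) ≃* K := subgroupOfEquivOfLe le_normalizer
  have hc : (center (K.subgroupOf (normalizer (K : Set G)))).map e.toMonoidHom = center K :=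
    SignalizersComponents.LayerBasic.map_center_equiv e
  have ez : center (K.subgroupOf (normalizer (K : Set G))) ≃* center K :=
    (equivMapOfInjective _ _ e.injective).trans (MulEquiv.subgroupCongr hc)
  refine ⟨inferInstance, SignalizersComponents.Components.isQuasisimple_of_mulEquiv e.symm hK.2,
    hz.of_equiv ez.symm, ?_, ?_⟩
  · intro h1
    apply hne
    rw [← hc, h1, Subgroup.map_bot]
  · rintro x hx ⟨g, hg⟩ ⟨k, hk, hkx⟩
    rw [mem_subgroupOf] at hx hk
    have h1 : ∃ k ∈ K, k * (x : G) ≠ x * k := ⟨k, hk, fun h => hkx (Subtype.ext h)⟩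
    have h2 : Real' (x : G) := ⟨g, congrArg Subtype.val hg⟩
    have h3 : (x : G) ∉ center G := fun h3 => by
      obtain ⟨k, hk, hkx⟩ := h1
      exact hkx (mem_center_iff.1 h3 k)
    rw [← h x h2 h3]
    have h4 := cst_le_normalizer hK hx h1
    have h5 : (centralizer ({(x : G)} : Set G)).subgroupOf (normalizer (K : Set G)) =
        centralizer ({x} : Set (normalizer (K : Set G))) := by
      ext y
      rw [mem_subgroupOf, mem_cent, mem_cent]
      exact ⟨fun h => Subtype.ext h, fun h => congrArg Subtype.val h⟩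
    rw [← h5, Nat.card_congr (subgroupOfEquivOfLe h4).toEquiv]

end Cfsg.Agent.H466.RT
end

-- part: H466/RT/Quat
section
/-!
# Quaternion subgroups of `K / Z(K)`

`Bad L`: the group `L` has a real element of order 4 whose square is not central. If `L / Z(L)` contains a
quaternion group of order 8 and `Z(L)` is cyclic, or if the three subgroups of order 4 of the quaternion
group are permuted by an element, then `L` is bad. No pair `M`, `K` with `K` bad.
-/

set_option autoImplicit false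

namespace Cfsg.Agent.H466.RT

open Subgroup Cfsg

/-- `L` has a real element of order 4 whose square is not central. -/
def Bad (L : Type*) [Group L] : Prop :=
  ∃ u : L, Real' u ∧ u * u ≠ 1 ∧ u * u * (u * u) = 1 ∧ u * u ∉ center L

theorem Bad.of_equiv {L L' : Type*} [Group L] [Group L'] (e : L ≃* L') (h : Bad L) : Bad L' := by
  obtain ⟨u, ⟨g, hg⟩, h1, h2, h3⟩ := h
  refine ⟨e u, ⟨e g, by rw [← map_mul, ← map_inv, ← map_mul, hg, map_inv]⟩, ?_, ?_, ?_⟩
  · rw [← map_mul]
    exact fun h => h1 ((map_eq_one_iff e e.injective).1 h)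
  · rw [← map_mul, ← map_mul, h2, map_one]
  · intro h
    apply h3
    rw [mem_center_iff] at h ⊢
    intro k
    apply e.injective
    have := h (e k)
    rwa [← map_mul, ← map_mul, ← map_mul] at this

theorem Pair.not_bad {M : Type*} [Group M] [Finite M] {K : Subgroup M} {c : ℕ} (h : Pair M K c) : ¬ Bad K := by
  rintro ⟨u, ⟨g, hg⟩, h1, h2, h3⟩
  have hd : ∃ k ∈ K, k * ((u * u : K) : M) ≠ ((u * u : K) : M) * k := by
    by_contra hcon
    push Not at hcon
    apply h3
    rw [mem_center_iff]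
    intro k
    exact Subtype.ext (hcon k k.2)
  have hu : ∃ k ∈ K, k * (u : M) ≠ (u : M) * k := by
    obtain ⟨k, hk, hne⟩ := hd
    refine ⟨k, hk, fun h4 => hne ?_⟩
    rw [coe_mul, ← mul_assoc, h4, mul_assoc, h4, mul_assoc]
  have hur : Real' (u : M) := ⟨g, congrArg Subtype.val hg⟩
  have h5 := h.req u u.2 hur hu
  have hdd : ((u * u : K) : M) * ((u * u : K) : M) = 1 := congrArg Subtype.val h2
  have h6 := h.req ((u * u : K) : M) (u * u).2 (Real'.of_sq hdd) hd
  have h7 := nu_cst hur (by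
    intro h8
    exact h1 (Subtype.ext h8))
  have h8 := nu_card_le (cst_le_of_mem_zpowers (u := (u : M)) (d := ((u * u : K) : M))
    ⟨2, by rw [coe_mul]; exact zpow_two _⟩ hdd)
  omega

section Core

variable {L : Type*} [Group L]

/-- lifts of quaternion generators -/
theorem core {a b c : L} (hc : a⁻¹ * b⁻¹ * a * b = c) (ha : a * a * c⁻¹ ∈ center L)
    (hb : b * b * c⁻¹ ∈ center L) : c * a = a * c ∧ c * b = b * c ∧ c * c = 1 := by
  have h1 : c * a = a * c := by
    have h2 := mem_center_iff.1 ha a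
    have h3 : a * c⁻¹ = c⁻¹ * a := by
      have h4 : a * (a * a * c⁻¹) = a * a * (c⁻¹ * a) := by rw [h2]; group
      have h5 : a * a * (a * c⁻¹) = a * a * (c⁻¹ * a) := by rw [← h4]; group
      exact mul_left_cancel h5
    calc c * a = c * (a * c⁻¹) * c := by group
      _ = a * c := by rw [h3]; group
  have h2 : c * b = b * c := by
    have h2 := mem_center_iff.1 hb b
    have h3 : b * c⁻¹ = c⁻¹ * b := by
      have h4 : b * (b * b * c⁻¹) = b * b * (c⁻¹ * b) := by rw [h2]; group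
      have h5 : b * b * (b * c⁻¹) = b * b * (c⁻¹ * b) := by rw [← h4]; group
      exact mul_left_cancel h5
    calc c * b = c * (b * c⁻¹) * c := by group
      _ = b * c := by rw [h3]; group
  refine ⟨h1, h2, ?_⟩
  have h3 : b⁻¹ * a * b = a * c := by rw [← hc]; group
  have h4 : b⁻¹ * (a * a) * b = a * a := by
    have h5 : a * a = (a * a * c⁻¹) * c := by group
    calc b⁻¹ * (a * a) * b = b⁻¹ * ((a * a * c⁻¹) * c) * b := by rw [← h5]
      _ = (b⁻¹ * (a * a * c⁻¹)) * (c * b) := by group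
      _ = ((a * a * c⁻¹) * b⁻¹) * (b * c) := by rw [mem_center_iff.1 ha b⁻¹, h2]
      _ = a * a := by group
  have h5 : b⁻¹ * (a * a) * b = a * a * (c * c) := by
    calc b⁻¹ * (a * a) * b = (b⁻¹ * a * b) * (b⁻¹ * a * b) := by group
      _ = a * (c * a) * c := by rw [h3]; group
      _ = a * a * (c * c) := by rw [h1]; group
  rw [h4] at h5
  exact (mul_eq_left.1 h5.symm)

/-- If the central part of `a²` is a square in the centre then `L` is bad. -/
theorem bad_of_square {a b c w : L} (hc : a⁻¹ * b⁻¹ * a * b = c) (hb : b * b * c⁻¹ ∈ center L)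
    (hw : w ∈ center L) (ha : a * a * c⁻¹ = w * w) (hcc : c ∉ center L) : Bad L := by
  obtain ⟨h1, -, h3⟩ := core hc (by rw [ha]; exact (center L).mul_mem hw hw) hb
  have hwi : ∀ g, g * w⁻¹ = w⁻¹ * g := fun g => mem_center_iff.1 ((center L).inv_mem hw) g
  have hci : c⁻¹ = c := inv_eq_of_mul_eq_one_left h3
  have huu : a * w⁻¹ * (a * w⁻¹) = c := by
    have h4 : a * w⁻¹ * (a * w⁻¹) = a * a * (w * w)⁻¹ := by
      rw [mul_assoc, ← mul_assoc w⁻¹ a, ← hwi a]; group
    have h5 : a * a = w * w * c := by rw [← ha]; group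
    have h6 := mem_center_iff.1 ((center L).mul_mem hw hw) c
    rw [h4, h5, ← h6]
    group
  refine ⟨a * w⁻¹, ⟨b⁻¹, ?_⟩, ?_, ?_, ?_⟩
  · have h5 : b⁻¹ * (a * w⁻¹) * b⁻¹⁻¹ = a * c * w⁻¹ := by
      calc b⁻¹ * (a * w⁻¹) * b⁻¹⁻¹ = b⁻¹ * a * (w⁻¹ * b) := by group
        _ = b⁻¹ * a * (b * w⁻¹) := by rw [hwi]
        _ = a * (a⁻¹ * b⁻¹ * a * b) * w⁻¹ := by group
        _ = a * c * w⁻¹ := by rw [hc]
    rw [h5]
    apply eq_inv_of_mul_eq_one_left
    calc a * c * w⁻¹ * (a * w⁻¹) = (c * a) * w⁻¹ * (a * w⁻¹) := by rw [h1]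
      _ = c * (a * w⁻¹ * (a * w⁻¹)) := by group
      _ = 1 := by rw [huu, h3]
  · rw [huu]
    rintro rfl
    exact hcc (center L).one_mem
  · rw [huu, h3]
  · rw [huu]
    exact hcc

/-- relations for the pair `(b, a)` -/
theorem swap_rel {a b c : L} (hc : a⁻¹ * b⁻¹ * a * b = c) (ha : a * a * c⁻¹ ∈ center L)
    (hb : b * b * c⁻¹ ∈ center L) : b⁻¹ * a⁻¹ * b * a = c := by
  obtain ⟨-, -, h3⟩ := core hc ha hb
  have h4 : b⁻¹ * a⁻¹ * b * a = c⁻¹ := by rw [← hc]; group
  rw [h4]
  exact inv_eq_of_mul_eq_one_left h3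

/-- relations for the pair `(ab, b)` -/
theorem prod_rel {a b c : L} (hc : a⁻¹ * b⁻¹ * a * b = c) (ha : a * a * c⁻¹ ∈ center L)
    (hb : b * b * c⁻¹ ∈ center L) : (a * b)⁻¹ * b⁻¹ * (a * b) * b = c ∧
      a * b * (a * b) * c⁻¹ = (a * a * c⁻¹) * (b * b * c⁻¹) := by
  obtain ⟨h1, h2, h3⟩ := core hc ha hb
  have hci : c⁻¹ = c := inv_eq_of_mul_eq_one_left h3
  constructor
  · calc (a * b)⁻¹ * b⁻¹ * (a * b) * b = b⁻¹ * (a⁻¹ * b⁻¹ * a * b) * b := by group
      _ = b⁻¹ * (c * b) := by rw [hc]; group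
      _ = c := by rw [h2]; group
  · have h4 : b * a = a * b * c := by
      have h5 := swap_rel hc ha hb
      calc b * a = a * b * (b⁻¹ * a⁻¹ * b * a) := by group
        _ = a * b * c := by rw [h5]
    have h6 : c⁻¹ * (b * b * c⁻¹) = (b * b * c⁻¹) * c⁻¹ := mem_center_iff.1 hb c⁻¹
    have h7 : (a * a * c⁻¹) * (b * b * c⁻¹) = a * a * (b * b) := by
      calc (a * a * c⁻¹) * (b * b * c⁻¹) = a * a * (c⁻¹ * (b * b * c⁻¹)) := by group
        _ = a * a * (b * b) * (c⁻¹ * c⁻¹) := by rw [h6]; group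
        _ = a * a * (b * b) := by rw [hci, h3, mul_one]
    calc a * b * (a * b) * c⁻¹ = a * (b * a) * b * c⁻¹ := by group
      _ = a * a * b * (c * b) * c⁻¹ := by rw [h4]; group
      _ = a * a * (b * b) := by rw [h2]; group
      _ = (a * a * c⁻¹) * (b * b * c⁻¹) := h7.symm

end Core

section Quot

variable {L S : Type*} [Group L] [Group S] (π : L →* S)

/-- quaternion generators of `S` -/
def IsQ (i j : S) : Prop := i * i = j * j ∧ i * j * (i * j) = i * i ∧ i * i ≠ 1

theorem IsQ.comm {i j : S} (h : IsQ i j) : i⁻¹ * j⁻¹ * i * j = i * i := by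
  obtain ⟨h1, h2, -⟩ := h
  have h3 : j * i * j = i := by
    have : i * (j * i * j) = i * i := by rw [← h2]; group
    exact mul_left_cancel this
  have h4 : j⁻¹ * i = i * j := by
    calc j⁻¹ * i = j⁻¹ * (j * i * j) := by rw [h3]
      _ = i * j := by group
  calc i⁻¹ * j⁻¹ * i * j = i⁻¹ * (j⁻¹ * i) * j := by group
    _ = j * j := by rw [h4]; group
    _ = i * i := h1.symm

theorem IsQ.map {S' : Type*} [Group S'] {f : S →* S'} (hf : Function.Injective f) {i j : S} (h : IsQ i j) :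
    IsQ (f i) (f j) := by
  obtain ⟨h1, h2, h3⟩ := h
  refine ⟨by rw [← map_mul, h1, map_mul], by rw [← map_mul, ← map_mul, h2, map_mul], ?_⟩
  rw [← map_mul]
  exact fun h => h3 ((map_eq_one_iff f hf).1 h)

variable {π}

theorem lift_rel (hker : ∀ g, π g = 1 ↔ g ∈ center L) {a b : L} (h : IsQ (π a) (π b)) :
    a * a * (a⁻¹ * b⁻¹ * a * b)⁻¹ ∈ center L ∧ b * b * (a⁻¹ * b⁻¹ * a * b)⁻¹ ∈ center L ∧
      a⁻¹ * b⁻¹ * a * b ∉ center L := by
  have h1 : π (a⁻¹ * b⁻¹ * a * b) = π a * π a := by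
    rw [map_mul, map_mul, map_mul, map_inv, map_inv]
    exact h.comm
  refine ⟨?_, ?_, ?_⟩
  · rw [← hker, map_mul, map_inv, h1, map_mul, mul_inv_cancel]
  · rw [← hker, map_mul, map_inv, h1, map_mul, h.1, mul_inv_cancel]
  · rw [← hker, h1]
    exact h.2.2

/-- **Q8-lemma**: the centre is cyclic. -/
theorem bad_of_quat (hπ : Function.Surjective π) (hker : ∀ g, π g = 1 ↔ g ∈ center L)
    (hcyc : IsCyclic (center L)) {i j : S} (h : IsQ i j) : Bad L := by
  obtain ⟨a, rfl⟩ := hπ i
  obtain ⟨b, rfl⟩ := hπ j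
  obtain ⟨ha, hb, hcc⟩ := lift_rel hker h
  set c := a⁻¹ * b⁻¹ * a * b with hc
  obtain ⟨g, hg⟩ := hcyc.exists_generator
  obtain ⟨m, hm⟩ := mem_zpowers_iff.1 (hg ⟨_, ha⟩)
  obtain ⟨n, hn⟩ := mem_zpowers_iff.1 (hg ⟨_, hb⟩)
  have hm' : (g : L) ^ m = a * a * c⁻¹ := congrArg Subtype.val hm
  have hn' : (g : L) ^ n = b * b * c⁻¹ := congrArg Subtype.val hn
  have hsq : ∀ k : ℤ, (g : L) ^ k ∈ center L := fun k => (center L).zpow_mem g.2 k
  rcases Int.even_or_odd m with ⟨k, hk⟩ | ⟨k, hk⟩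
  · refine bad_of_square hc.symm hb (hsq k) ?_ hcc
    rw [← hm', hk, zpow_add]
  · rcases Int.even_or_odd n with ⟨l, hl⟩ | ⟨l, hl⟩
    · refine bad_of_square (swap_rel hc.symm ha hb) ha (hsq l) ?_ hcc
      rw [← hn', hl, zpow_add]
    · obtain ⟨h1, h2⟩ := prod_rel hc.symm ha hb
      refine bad_of_square h1 hb (hsq (k + l + 1)) ?_ hcc
      rw [h2, ← hm', ← hn', hk, hl, ← zpow_add, ← zpow_add]
      congr 1
      ring

/-- **SL₂(3)-lemma**: an element permutes the three subgroups of order 4. -/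
theorem bad_of_sl (hπ : Function.Surjective π) (hker : ∀ g, π g = 1 ↔ g ∈ center L)
    {i j h : S} (hQ : IsQ i j) (hi : h * i * h⁻¹ = j) (hj : h * j * h⁻¹ = i * j) : Bad L := by
  obtain ⟨a, rfl⟩ := hπ i
  obtain ⟨b, rfl⟩ := hπ j
  obtain ⟨g, rfl⟩ := hπ h
  obtain ⟨ha, hb, hcc⟩ := lift_rel hker hQ
  set c := a⁻¹ * b⁻¹ * a * b with hc
  obtain ⟨h1, h2, h3⟩ := core hc.symm ha hb
  obtain ⟨h4, h5⟩ := prod_rel hc.symm ha hb
  -- `g a g⁻¹ = b v`, `g b g⁻¹ = a b v'`
  obtain ⟨v, hv, hav⟩ : ∃ v ∈ center L, g * a * g⁻¹ = b * v := by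
    refine ⟨b⁻¹ * (g * a * g⁻¹), ?_, by group⟩
    rw [← hker, map_mul, map_mul, map_mul, map_inv, map_inv, hi, inv_mul_cancel]
  obtain ⟨v', hv', hbv⟩ : ∃ v ∈ center L, g * b * g⁻¹ = a * b * v := by
    refine ⟨(a * b)⁻¹ * (g * b * g⁻¹), ?_, by group⟩
    rw [← hker, map_mul, map_mul, map_mul, map_inv, map_inv, hj, map_mul, inv_mul_cancel]
  have hvc : ∀ x, x * v = v * x := fun x => mem_center_iff.1 hv x
  have hvc' : ∀ x, x * v' = v' * x := fun x => mem_center_iff.1 hv' x
  have hgc : g * c * g⁻¹ = c := by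
    have h6 : g * c * g⁻¹ = (g * a * g⁻¹)⁻¹ * (g * b * g⁻¹)⁻¹ * (g * a * g⁻¹) * (g * b * g⁻¹) := by
      rw [hc]; group
    rw [h6, hav, hbv]
    have hvi : ∀ x, x * v⁻¹ = v⁻¹ * x := fun x => mem_center_iff.1 ((center L).inv_mem hv) x
    have hvi' : ∀ x, x * v'⁻¹ = v'⁻¹ * x := fun x => mem_center_iff.1 ((center L).inv_mem hv') x
    have h7 : (b * v)⁻¹ * (a * b * v')⁻¹ * (b * v) * (a * b * v') = b⁻¹ * (a * b)⁻¹ * b * (a * b) := by
      calc (b * v)⁻¹ * (a * b * v')⁻¹ * (b * v) * (a * b * v')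
          = v⁻¹ * (b⁻¹ * v'⁻¹) * (a * b)⁻¹ * b * (v * (a * b * v')) := by group
        _ = v⁻¹ * (v'⁻¹ * b⁻¹) * (a * b)⁻¹ * b * (a * b * v' * v) := by rw [hvi' b⁻¹, ← hvc (a * b * v')]
        _ = v⁻¹ * v'⁻¹ * (b⁻¹ * (a * b)⁻¹ * b * (a * b)) * v' * v := by group
        _ = v⁻¹ * v'⁻¹ * ((b⁻¹ * (a * b)⁻¹ * b * (a * b)) * v') * v := by group
        _ = v⁻¹ * v'⁻¹ * (v' * (b⁻¹ * (a * b)⁻¹ * b * (a * b))) * v := by rw [hvc']
        _ = v⁻¹ * ((b⁻¹ * (a * b)⁻¹ * b * (a * b)) * v) := by group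
        _ = v⁻¹ * (v * (b⁻¹ * (a * b)⁻¹ * b * (a * b))) := by rw [hvc]
        _ = b⁻¹ * (a * b)⁻¹ * b * (a * b) := by group
    rw [h7]
    have h8 := swap_rel h4 (by rw [h5]; exact (center L).mul_mem ha hb) hb
    exact h8
  -- the central part of `a²` is a square
  have h9 : b * b * c⁻¹ = (a * a * c⁻¹) * (b * b * c⁻¹) * (v' * v') := by
    have h10 : g * (b * b * c⁻¹) * g⁻¹ = b * b * c⁻¹ := by
      rw [mem_center_iff.1 hb g, mul_inv_cancel_right]
    calc b * b * c⁻¹ = g * (b * b * c⁻¹) * g⁻¹ := h10.symm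
      _ = (g * b * g⁻¹) * (g * b * g⁻¹) * (g * c * g⁻¹)⁻¹ := by group
      _ = (a * b * v') * (a * b * v') * c⁻¹ := by rw [hbv, hgc]
      _ = (a * b) * (v' * (a * b)) * (v' * c⁻¹) := by group
      _ = (a * b) * ((a * b) * v') * (c⁻¹ * v') := by rw [← hvc' (a * b), ← hvc' c⁻¹]
      _ = (a * b) * (a * b) * (v' * c⁻¹) * v' := by group
      _ = (a * b) * (a * b) * c⁻¹ * (v' * v') := by rw [← hvc' c⁻¹]; group
      _ = _ := by rw [h5]
  have h11 : a * a * c⁻¹ = v'⁻¹ * v'⁻¹ := by
    have h12 : (a * a * c⁻¹) * (v' * v') = 1 := by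
      have h13 : (b * b * c⁻¹) * ((a * a * c⁻¹) * (v' * v')) = b * b * c⁻¹ := by
        rw [← mul_assoc, mem_center_iff.1 ha (b * b * c⁻¹)]
        exact h9.symm
      exact mul_eq_left.1 h13
    rw [eq_inv_of_mul_eq_one_left h12, mul_inv_rev]
  exact bad_of_square hc.symm hb ((center L).inv_mem hv') h11 hcc

end Quot

end Cfsg.Agent.H466.RT
end

-- part: H466/RT/Red
section
/-!
# Real elements modulo a normal subgroup of odd order

`REq.quotient`: if all noncentral real elements of `G` have centralizers with the same 2-part, then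
the same holds in `G ⧸ N` for a normal subgroup `N` of odd order.
-/

set_option autoImplicit false

namespace Cfsg.Agent.H466.RT

open Subgroup

variable {G : Type*} [Group G] (N : Subgroup G) [N.Normal]

open Classical in
/-- The twisted conjugation. -/
noncomputable def tw (q : G ⧸ N) (s g : G) : G :=
  if (s : G ⧸ N) * q * (s : G ⧸ N)⁻¹ = q then s * g * s⁻¹ else s * g⁻¹ * s⁻¹

variable {N}

theorem tw_mk {q : G ⧸ N} {s g : G} (hs : (s : G ⧸ N) ∈ cst q) (hg : (g : G ⧸ N) = q) :
    ((tw N q s g : G) : G ⧸ N) = q := by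
  unfold tw
  split_ifs with h
  · rw [QuotientGroup.mk_mul, QuotientGroup.mk_mul, QuotientGroup.mk_inv, hg, h]
  · rcases hs with hs | hs
    · exact absurd hs h
    · rw [QuotientGroup.mk_mul, QuotientGroup.mk_mul, QuotientGroup.mk_inv, QuotientGroup.mk_inv, hg,
        ← conj_inv, hs, inv_inv]

theorem tw_one {q : G ⧸ N} (g : G) : tw N q 1 g = g := by
  unfold tw
  rw [if_pos (by simp)]
  simp

theorem tw_mul {q : G ⧸ N} {s t : G} (hs : (s : G ⧸ N) ∈ cst q) (ht : (t : G ⧸ N) ∈ cst q) (g : G) :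
    tw N q (s * t) g = tw N q s (tw N q t g) := by
  unfold tw
  by_cases h1 : (s : G ⧸ N) * q * (s : G ⧸ N)⁻¹ = q <;> by_cases h2 : (t : G ⧸ N) * q * (t : G ⧸ N)⁻¹ = q
  · have h3 : ((s * t : G) : G ⧸ N) * q * ((s * t : G) : G ⧸ N)⁻¹ = q := by
      calc ((s * t : G) : G ⧸ N) * q * ((s * t : G) : G ⧸ N)⁻¹
          = (s : G ⧸ N) * ((t : G ⧸ N) * q * (t : G ⧸ N)⁻¹) * (s : G ⧸ N)⁻¹ := by
            rw [QuotientGroup.mk_mul]; group
        _ = q := by rw [h2, h1]
    rw [if_pos h1, if_pos h2, if_pos h3]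
    group
  · have h2' := ht.resolve_left h2
    have h3 : ((s * t : G) : G ⧸ N) * q * ((s * t : G) : G ⧸ N)⁻¹ = q⁻¹ := by
      calc ((s * t : G) : G ⧸ N) * q * ((s * t : G) : G ⧸ N)⁻¹
          = (s : G ⧸ N) * ((t : G ⧸ N) * q * (t : G ⧸ N)⁻¹) * (s : G ⧸ N)⁻¹ := by
            rw [QuotientGroup.mk_mul]; group
        _ = ((s : G ⧸ N) * q * (s : G ⧸ N)⁻¹)⁻¹ := by rw [h2']; group
        _ = q⁻¹ := by rw [h1]
    have h4 : ((s * t : G) : G ⧸ N) * q * ((s * t : G) : G ⧸ N)⁻¹ ≠ q := by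
      rw [h3]
      intro h
      exact h2 (by rw [h2', h])
    rw [if_pos h1, if_neg h2, if_neg h4]
    group
  · have h1' := hs.resolve_left h1
    have h3 : ((s * t : G) : G ⧸ N) * q * ((s * t : G) : G ⧸ N)⁻¹ = q⁻¹ := by
      calc ((s * t : G) : G ⧸ N) * q * ((s * t : G) : G ⧸ N)⁻¹
          = (s : G ⧸ N) * ((t : G ⧸ N) * q * (t : G ⧸ N)⁻¹) * (s : G ⧸ N)⁻¹ := by
            rw [QuotientGroup.mk_mul]; group
        _ = q⁻¹ := by rw [h2, h1']
    have h4 : ((s * t : G) : G ⧸ N) * q * ((s * t : G) : G ⧸ N)⁻¹ ≠ q := by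
      rw [h3]
      intro h
      exact h1 (by rw [h1', h])
    rw [if_neg h1, if_pos h2, if_neg h4]
    group
  · have h1' := hs.resolve_left h1
    have h2' := ht.resolve_left h2
    have h3 : ((s * t : G) : G ⧸ N) * q * ((s * t : G) : G ⧸ N)⁻¹ = q := by
      calc ((s * t : G) : G ⧸ N) * q * ((s * t : G) : G ⧸ N)⁻¹
          = (s : G ⧸ N) * ((t : G ⧸ N) * q * (t : G ⧸ N)⁻¹) * (s : G ⧸ N)⁻¹ := by
            rw [QuotientGroup.mk_mul]; group
        _ = ((s : G ⧸ N) * q * (s : G ⧸ N)⁻¹)⁻¹ := by rw [h2']; group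
        _ = q := by rw [h1', inv_inv]
    rw [if_neg h1, if_neg h2, if_pos h3]
    group

/-- The fibre of `G → G ⧸ N` above `q`. -/
def Fib (N : Subgroup G) (q : G ⧸ N) : Type _ := {g : G // (g : G ⧸ N) = q}

theorem card_fib (q : G ⧸ N) : Nat.card (Fib N q) = Nat.card N := by
  obtain ⟨x, rfl⟩ := QuotientGroup.mk_surjective q
  apply Nat.card_congr
  refine ⟨fun g => ⟨x⁻¹ * g.1, QuotientGroup.eq.1 g.2.symm⟩, fun n => ⟨x * n.1, ?_⟩, ?_, ?_⟩
  · rw [QuotientGroup.eq]
    have : (x * n.1)⁻¹ * x = (n.1)⁻¹ := by group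
    rw [this]
    exact N.inv_mem n.2
  · intro g
    apply Subtype.ext
    simp
  · intro n
    apply Subtype.ext
    simp

/-- The twisted action of a subgroup of the preimage of `cst q` on the fibre above `q`. -/
noncomputable def twAction {q : G ⧸ N} (P : Subgroup G) (hP : ∀ s ∈ P, (s : G ⧸ N) ∈ cst q) :
    MulAction P (Fib N q) where
  smul s g := ⟨tw N q s.1 g.1, tw_mk (hP s.1 s.2) g.2⟩
  one_smul g := Subtype.ext (tw_one g.1)
  mul_smul s t g := Subtype.ext (tw_mul (hP s.1 s.2) (hP t.1 t.2) g.1)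

/-- A 2-subgroup of the preimage of `cst q` has a fixed point in the fibre. -/
theorem exists_fix [Finite G] (hN : Odd (Nat.card N)) {q : G ⧸ N} {P : Subgroup G} (hP2 : IsPGroup 2 P)
    (hP : ∀ s ∈ P, (s : G ⧸ N) ∈ cst q) :
    ∃ x : G, (x : G ⧸ N) = q ∧ ∀ s ∈ P, ((s : G ⧸ N) * q * (s : G ⧸ N)⁻¹ = q → s * x * s⁻¹ = x) ∧
      ((s : G ⧸ N) * q * (s : G ⧸ N)⁻¹ ≠ q → s * x * s⁻¹ = x⁻¹) := by
  have : Fact (Nat.Prime 2) := ⟨Nat.prime_two⟩
  letI : MulAction P (Fib N q) := twAction P hP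
  have hfin : Finite (Fib N q) := Nat.finite_of_card_ne_zero (by
    rw [card_fib]
    exact Nat.card_pos.ne')
  obtain ⟨x, hx⟩ := hP2.nonempty_fixed_point_of_prime_not_dvd_card (Fib N q) (by
    rw [card_fib]
    intro h
    rw [Nat.odd_iff] at hN
    omega)
  refine ⟨x.1, x.2, ?_⟩
  intro s hs
  have h1 : tw N q s x.1 = x.1 := congrArg Subtype.val (hx ⟨s, hs⟩)
  unfold tw at h1
  constructor
  · intro h
    rwa [if_pos h] at h1
  · intro h
    rw [if_neg h] at h1
    have h2 : s * x.1 * s⁻¹ = (s * (x.1)⁻¹ * s⁻¹)⁻¹ := by group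
    rw [h2, h1]

theorem nu_comap [Finite G] (hN : Odd (Nat.card N)) (H : Subgroup (G ⧸ N)) :
    nu (Nat.card (H.comap (QuotientGroup.mk' N))) = nu (Nat.card H) := by
  have h1 : Nat.card (H.comap (QuotientGroup.mk' N)) = Nat.card H * Nat.card N := by
    have h2 := card_mul_index (H.comap (QuotientGroup.mk' N))
    have h3 := card_mul_index H
    have h4 := card_mul_index N
    have h5 : (H.comap (QuotientGroup.mk' N)).index = H.index :=
      index_comap_of_surjective H (QuotientGroup.mk'_surjective N)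
    have h6 : N.index = Nat.card (G ⧸ N) := rfl
    rw [h5] at h2
    have hi : 0 < H.index := Nat.pos_of_ne_zero index_ne_zero_of_finite
    apply Nat.eq_of_mul_eq_mul_right hi
    rw [h2, ← h4, h6, ← h3]
    ring
  rw [h1, nu_mul (card_ne H) (card_ne N), nu_odd hN, add_zero]

theorem cent_le_comap (x : G) : centralizer ({x} : Set G) ≤
    (centralizer ({(x : G ⧸ N)} : Set (G ⧸ N))).comap (QuotientGroup.mk' N) := by
  intro g hg
  rw [mem_cent] at hg
  rw [mem_comap, mem_cent]
  change (g : G ⧸ N) * (x : G ⧸ N) * (g : G ⧸ N)⁻¹ = (x : G ⧸ N)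
  rw [← QuotientGroup.mk_inv, ← QuotientGroup.mk_mul, ← QuotientGroup.mk_mul, hg]

/-- Real elements of `G ⧸ N` lift to real elements whose centralizers have the same 2-part. -/
theorem exists_real_lift [Finite G] (hN : Odd (Nat.card N)) {q : G ⧸ N} (hq : Real' q) :
    ∃ x : G, (x : G ⧸ N) = q ∧ Real' x ∧
      nu (Nat.card (centralizer ({x} : Set G))) = nu (Nat.card (centralizer ({q} : Set (G ⧸ N)))) := by
  have : Fact (Nat.Prime 2) := ⟨Nat.prime_two⟩
  by_cases hqq : q * q = 1
  · -- involutions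
    obtain ⟨P, hPle, -, hP2, hPc⟩ := exists_sylow ((centralizer ({q} : Set (G ⧸ N))).comap (QuotientGroup.mk' N))
      (A := ⊥) IsPGroup.of_bot bot_le
    rw [nu_comap hN] at hPc
    have hfix : ∀ s ∈ P, (s : G ⧸ N) * q * (s : G ⧸ N)⁻¹ = q := fun s hs => mem_cent.1 (hPle hs)
    obtain ⟨x, hx, hxs⟩ := exists_fix hN hP2 (q := q) (fun s hs => Or.inl (hfix s hs))
    have hx2 : x * x ∈ N := by
      rw [← QuotientGroup.eq_one_iff, QuotientGroup.mk_mul, hx, hqq]
    have ho : Odd (orderOf (x * x)) := by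
      have h1 : orderOf (x * x) ∣ Nat.card N := by
        have := orderOf_dvd_natCard (⟨x * x, hx2⟩ : N)
        rwa [orderOf_mk] at this
      exact Odd.of_dvd_nat hN h1
    obtain ⟨k, hk⟩ := ho
    have hy2 : x ^ (2 * k + 1) * x ^ (2 * k + 1) = 1 := by
      rw [← (Commute.refl x).mul_pow, ← hk, pow_orderOf_eq_one]
    have hyq : ((x ^ (2 * k + 1) : G) : G ⧸ N) = q := by
      rw [QuotientGroup.mk_pow, hx, pow_succ, pow_mul, pow_two, hqq, one_pow, one_mul]
    refine ⟨x ^ (2 * k + 1), hyq, Real'.of_sq hy2, ?_⟩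
    apply le_antisymm
    · have h1 := nu_card_le (cent_le_comap (N := N) (x ^ (2 * k + 1)))
      rwa [nu_comap hN, hyq] at h1
    · have h1 : P ≤ centralizer ({x ^ (2 * k + 1)} : Set G) := by
        intro s hs
        rw [mem_cent, ← conj_pow, (hxs s hs).1 (hfix s hs)]
      have h2 := nu_card_le h1
      rwa [hPc, nu_two_pow] at h2
  · obtain ⟨P, hPle, -, hP2, hPc⟩ := exists_sylow ((cst q).comap (QuotientGroup.mk' N)) (A := ⊥)
      IsPGroup.of_bot bot_le
    rw [nu_comap hN] at hPc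
    obtain ⟨x, hx, hxs⟩ := exists_fix hN hP2 (q := q) (fun s hs => hPle hs)
    have hcq := nu_cst hq hqq
    -- some element of `P` inverts `x`
    have hex : ∃ s ∈ P, (s : G ⧸ N) * q * (s : G ⧸ N)⁻¹ ≠ q := by
      by_contra hcon
      push Not at hcon
      have h1 : P ≤ (centralizer ({q} : Set (G ⧸ N))).comap (QuotientGroup.mk' N) := by
        intro s hs
        rw [mem_comap, mem_cent]
        exact hcon s hs
      have h2 := nu_card_le h1
      rw [nu_comap hN, hPc, nu_two_pow] at h2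
      omega
    obtain ⟨s, hs, hsq⟩ := hex
    have hxr : Real' x := ⟨s, (hxs s hs).2 hsq⟩
    have hxx : x * x ≠ 1 := by
      intro h
      apply hqq
      rw [← hx, ← QuotientGroup.mk_mul, h, QuotientGroup.mk_one]
    have hPx : P ≤ cst x := by
      intro s hs
      by_cases h : (s : G ⧸ N) * q * (s : G ⧸ N)⁻¹ = q
      · exact Or.inl ((hxs s hs).1 h)
      · exact Or.inr ((hxs s hs).2 h)
    refine ⟨x, hx, hxr, ?_⟩
    have h1 := nu_card_le hPx
    rw [hPc, nu_two_pow] at h1
    have h2 := nu_cst hxr hxx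
    have h3 := nu_card_le (cent_le_comap (N := N) x)
    rw [nu_comap hN, hx] at h3
    omega

/-- The condition passes to the quotient by a normal subgroup of odd order. -/
theorem REq.quotient [Finite G] {c : ℕ} (h : REq G c) (hN : Odd (Nat.card N)) : REq (G ⧸ N) c := by
  intro q hq hqc
  obtain ⟨x, hx, hxr, hc⟩ := exists_real_lift hN hq
  rw [← hc]
  apply h x hxr
  intro hxc
  apply hqc
  rw [mem_center_iff]
  intro g
  obtain ⟨g, rfl⟩ := QuotientGroup.mk_surjective g
  rw [← hx, ← QuotientGroup.mk_mul, ← QuotientGroup.mk_mul, mem_center_iff.1 hxc g]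

end Cfsg.Agent.H466.RT
end

-- part: H466/RT/Kill
section
/-!
# Pairs: class sizes

* `Pair.false_of_rankOne`: no pair `M`, `K` with `|Z(K)| = 2` such that all involutions of `K` are central;
* `Pair.false_of_oneClass`: no pair `M`, `K` such that `K / Z(K)` has one class of involutions, 2-rank at
  least 3, involution centralizers 2-groups, and `|Z(K)| < |K / Z(K)|_2`.
-/

set_option autoImplicit false

namespace Cfsg.Agent.H466.RT

open Subgroup Cfsg

section Tools

variable {M : Type*} [Group M] [Finite M]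

/-- T1 -/
theorem nu_normal {K : Subgroup M} [K.Normal] (H : Subgroup M) :
    nu (Nat.card K) + nu (Nat.card H) ≤ nu (Nat.card M) + nu (Nat.card (H ⊓ K : Subgroup M)) := by
  have h1 : Nat.card (H ⊔ K : Subgroup M) * Nat.card (H ⊓ K : Subgroup M) = Nat.card H * Nat.card K := by
    have h2 := card_mul_index (K.subgroupOf (H ⊔ K))
    have h3 := card_mul_index (K.subgroupOf H)
    have h4 : Nat.card (K.subgroupOf (H ⊔ K)) = Nat.card K :=
      Nat.card_congr (subgroupOfEquivOfLe le_sup_right).toEquiv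
    have h5 : Nat.card (K.subgroupOf H) = Nat.card (H ⊓ K : Subgroup M) := by
      have h6 : K.subgroupOf H = (H ⊓ K).subgroupOf H := by
        rw [inf_comm, inf_subgroupOf_right]
      rw [h6]
      exact Nat.card_congr (subgroupOfEquivOfLe inf_le_left).toEquiv
    have h6 : (K.subgroupOf (H ⊔ K)).index = (K.subgroupOf H).index := relIndex_sup_right H K
    rw [h4, h6] at h2
    rw [h5] at h3
    rw [← h2, ← h3]
    ring
  have h2 : nu (Nat.card (H ⊔ K : Subgroup M)) ≤ nu (Nat.card M) :=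
    nu_le Nat.card_pos.ne' (card_subgroup_dvd_card _)
  have h3 := congrArg nu h1
  rw [nu_mul (card_ne _) (card_ne _), nu_mul (card_ne _) (card_ne _)] at h3
  omega

theorem nu_normal_cent {K : Subgroup M} [K.Normal] (x : K) :
    nu (Nat.card K) + nu (Nat.card (centralizer ({(x : M)} : Set M))) ≤
      nu (Nat.card M) + nu (Nat.card (centralizer ({x} : Set K))) := by
  have h1 := nu_normal (K := K) (centralizer ({(x : M)} : Set M))
  have h2 : Nat.card (centralizer ({(x : M)} : Set M) ⊓ K : Subgroup M) =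
      Nat.card (centralizer ({x} : Set K)) := by
    have h3 : (centralizer ({x} : Set K)).map K.subtype = centralizer ({(x : M)} : Set M) ⊓ K := by
      ext y
      rw [mem_map, mem_inf, mem_cent]
      constructor
      · rintro ⟨y, hy, rfl⟩
        exact ⟨congrArg Subtype.val (mem_cent.1 hy), y.2⟩
      · rintro ⟨h1, h2⟩
        exact ⟨⟨y, h2⟩, mem_cent.2 (Subtype.ext h1), rfl⟩
    rw [← h3, card_map_of_injective K.subtype_injective]
  rwa [h2] at h1

end Tools

section Lift

variable {L : Type*} [Group L] [Finite L]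

theorem nu_card_quot (N : Subgroup L) [N.Normal] :
    nu (Nat.card L) = nu (Nat.card (L ⧸ N)) + nu (Nat.card N) := by
  have h1 := card_mul_index N
  have h2 : N.index = Nat.card (L ⧸ N) := rfl
  rw [← h1, h2, nu_mul (card_ne _) Nat.card_pos.ne']
  omega

/-- Real elements of odd order of `L / Z(L)` lift to real elements of odd order. -/
theorem exists_real_odd (hz : IsPGroup 2 (center L)) {q : L ⧸ center L} (hq : Real' q)
    (ho : Odd (orderOf q)) (hq1 : q ≠ 1) : ∃ x : L, Real' x ∧ Odd (orderOf x) ∧ x ≠ 1 ∧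
      nu (Nat.card (centralizer ({x} : Set L))) ≤
        nu (Nat.card (centralizer ({q} : Set (L ⧸ center L)))) + nu (Nat.card (center L)) := by
  obtain ⟨x, hx, hxo⟩ := Cfsg.Agent.H466.RealLift.exists_odd_lift (center L) q ho
  obtain ⟨g, hg⟩ := hq
  obtain ⟨t, rfl⟩ := QuotientGroup.mk_surjective g
  have hw : x * (t * x * t⁻¹) ∈ center L := by
    rw [← QuotientGroup.eq_one_iff]
    rw [QuotientGroup.mk_mul, QuotientGroup.mk_mul, QuotientGroup.mk_mul, QuotientGroup.mk_inv, hx, hg,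
      mul_inv_cancel]
  have hxr : t * x * t⁻¹ = x⁻¹ := by
    set w := x * (t * x * t⁻¹) with hwd
    have h1 : t * x * t⁻¹ = x⁻¹ * w := by rw [hwd]; group
    have h2 : (x⁻¹ * w) ^ orderOf x = w ^ orderOf x := by
      have hc : Commute x⁻¹ w := mem_center_iff.1 hw x⁻¹
      rw [hc.mul_pow, inv_pow, pow_orderOf_eq_one, inv_one, one_mul]
    have h3 : w ^ orderOf x = 1 := by
      rw [← h2, ← h1, conj_pow, pow_orderOf_eq_one]
      group
    have h4 : w = 1 := isPGroup_of_le_odd_eq_one hz hw (Odd.of_dvd_nat hxo (orderOf_dvd_of_pow_eq_one h3))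
    rw [h1, h4, mul_one]
  refine ⟨x, ⟨t, hxr⟩, hxo, ?_, ?_⟩
  · rintro rfl
    exact hq1 hx.symm
  · have h1 := nu_card_le (cent_le_comap (N := center L) x)
    rw [hx] at h1
    have h2 : Nat.card ((centralizer ({q} : Set (L ⧸ center L))).comap (QuotientGroup.mk' (center L))) =
        Nat.card (centralizer ({q} : Set (L ⧸ center L))) * Nat.card (center L) := by
      have h2 := card_mul_index ((centralizer ({q} : Set (L ⧸ center L))).comap (QuotientGroup.mk' (center L)))
      have h3 := card_mul_index (centralizer ({q} : Set (L ⧸ center L)))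
      have h4 := card_mul_index (center L)
      have h5 := index_comap_of_surjective (centralizer ({q} : Set (L ⧸ center L)))
        (QuotientGroup.mk'_surjective (center L))
      have h6 : (center L).index = Nat.card (L ⧸ center L) := rfl
      rw [h5] at h2
      have hi : 0 < (centralizer ({q} : Set (L ⧸ center L))).index := Nat.pos_of_ne_zero index_ne_zero_of_finite
      apply Nat.eq_of_mul_eq_mul_right hi
      rw [h2, ← h4, h6, ← h3]
      ring
    rw [h2, nu_mul (card_ne _) (card_ne _)] at h1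
    exact h1

end Lift

namespace Pair

variable {M : Type*} [Group M] [Finite M] {K : Subgroup M} {c : ℕ}

/-- a real element of odd order of `K` is not central in `K` -/
theorem noncentral_of_real {x : K} (hx : Real' x) (ho : Odd (orderOf x)) (hx1 : x ≠ 1) :
    ∃ k ∈ K, k * (x : M) ≠ (x : M) * k := by
  by_contra hcon
  push Not at hcon
  obtain ⟨g, hg⟩ := hx
  have h1 : g * x = x * g := Subtype.ext (hcon g g.2)
  rw [h1, mul_inv_cancel_right] at hg
  have h2 : x ^ 2 = 1 := by
    rw [pow_two]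
    calc x * x = x * x⁻¹ := by rw [← hg]
      _ = 1 := mul_inv_cancel x
  apply hx1
  rw [← orderOf_eq_one_iff]
  rcases (Nat.dvd_prime Nat.prime_two).1 (orderOf_dvd_of_pow_eq_one h2) with h4 | h4
  · exact h4
  · rw [h4] at ho
    exact absurd ho (by decide)

theorem req_real (h : Pair M K c) {x : K} (hx : Real' x) (ho : Odd (orderOf x)) (hx1 : x ≠ 1) :
    nu (Nat.card (centralizer ({(x : M)} : Set M))) = c := by
  obtain ⟨g, hg⟩ := hx
  exact h.req x x.2 ⟨g, congrArg Subtype.val hg⟩ (noncentral_of_real ⟨g, hg⟩ ho hx1)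

variable (K) in
/-- the centre of `K` as a subgroup of `M` -/
def Zm : Subgroup M := (center K).map K.subtype

theorem mem_Zm {x : M} : x ∈ Zm K ↔ ∃ hx : x ∈ K, (⟨x, hx⟩ : K) ∈ center K := by
  constructor
  · rintro ⟨y, hy, rfl⟩
    exact ⟨y.2, hy⟩
  · rintro ⟨hx, h⟩
    exact ⟨⟨x, hx⟩, h, rfl⟩

theorem Zm_normal (hK : K.Normal) : (Zm K).Normal := by
  constructor
  intro x hx g
  obtain ⟨hxK, hxc⟩ := mem_Zm.1 hx
  refine mem_Zm.2 ⟨hK.conj_mem x hxK g, ?_⟩
  rw [mem_center_iff]
  intro k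
  apply Subtype.ext
  change (k : M) * (g * x * g⁻¹) = g * x * g⁻¹ * k
  have h1 : g⁻¹ * (k : M) * g ∈ K := by
    have := hK.conj_mem k k.2 g⁻¹
    rwa [inv_inv] at this
  have h2 : g⁻¹ * (k : M) * g * x = x * (g⁻¹ * (k : M) * g) :=
    congrArg Subtype.val (mem_center_iff.1 hxc ⟨_, h1⟩)
  calc (k : M) * (g * x * g⁻¹) = g * (g⁻¹ * (k : M) * g * x) * g⁻¹ := by group
    _ = g * x * g⁻¹ * k := by rw [h2]; group

theorem Zm_le : Zm K ≤ K := map_subtype_le _

theorem card_Zm : Nat.card (Zm K) = Nat.card (center K) := card_map_of_injective K.subtype_injective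

/-- A Sylow 2-subgroup `P` of `M` and an element `y` of `K` outside the centre whose image modulo the centre
is an involution commuting with the image of `P`. -/
theorem exists_y (h : Pair M K c) (h2 : 2 ∣ Nat.card (K ⧸ center K)) :
    ∃ P : Subgroup M, IsPGroup 2 P ∧ nu (Nat.card P) = nu (Nat.card M) ∧ ∃ y ∈ K, y ∉ Zm K ∧ y * y ∈ Zm K ∧
      ∀ p ∈ P, ∃ w ∈ Zm K, p * y * p⁻¹ = y * w := by
  have := Zm_normal h.nrm
  have := h.nrm
  obtain ⟨P, -, -, hP2, hPc⟩ := exists_sylow (⊤ : Subgroup M) (A := ⊥) IsPGroup.of_bot bot_le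
  refine ⟨P, hP2, by rw [hPc, nu_two_pow, card_top], ?_⟩
  let π := QuotientGroup.mk' (Zm K)
  have hker : ∀ g : M, π g = 1 ↔ g ∈ Zm K := fun g => QuotientGroup.eq_one_iff g
  have hc : Nat.card (K.map π) = Nat.card (K ⧸ center K) := by
    have h3 : Nat.card (K.map π) * Nat.card (Zm K) = Nat.card K := by
      have h4 := card_mul_index (π.subgroupMap K).ker
      have h5 : (π.subgroupMap K).ker.index = Nat.card (K.map π) := by
        rw [index_ker]
        rw [MonoidHom.range_eq_top.2 (π.subgroupMap_surjective K), card_top]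
      have h6 : Nat.card (π.subgroupMap K).ker = Nat.card (Zm K) := by
        have h7 : (π.subgroupMap K).ker = (Zm K).subgroupOf K := by
          ext k
          rw [MonoidHom.mem_ker, mem_subgroupOf, ← hker]
          exact ⟨fun h => congrArg Subtype.val h, fun h => Subtype.ext h⟩
        rw [h7]
        exact Nat.card_congr (subgroupOfEquivOfLe Zm_le).toEquiv
      rw [h5, h6] at h4
      rw [mul_comm]
      exact h4
    have h4 := card_mul_index (center K)
    have h5 : (center K).index = Nat.card (K ⧸ center K) := rfl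
    rw [h5, mul_comm] at h4
    rw [card_Zm] at h3
    exact Nat.eq_of_mul_eq_mul_right Nat.card_pos (h3.trans h4.symm)
  obtain ⟨v, hvK, hv1, hvv, hvP⟩ := StdLThreeFour.Syl.exists_invol_commute (hP2.map π)
    (H := K.map π) (by
      rintro _ ⟨p, -, rfl⟩ _ ⟨k, hk, rfl⟩
      exact ⟨p * k * p⁻¹, h.nrm.conj_mem k hk p, by rw [map_mul, map_mul, map_inv]⟩) (by rw [hc]; exact h2)
  obtain ⟨y, hy, rfl⟩ := hvK
  refine ⟨y, hy, ?_, ?_, ?_⟩
  · rw [← hker]
    exact hv1
  · rw [← hker, map_mul]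
    exact hvv
  · intro p hp
    refine ⟨y⁻¹ * (p * y * p⁻¹), ?_, by group⟩
    rw [← hker]
    have h3 : π p * π y = π y * π p := hvP (π p) ⟨p, hp, rfl⟩
    rw [map_mul, map_mul, map_mul, map_inv, map_inv, h3, mul_inv_cancel_right, inv_mul_cancel]

/-- **rank one** -/
theorem false_of_rankOne (h : Pair M K c) (hz : Nat.card (center K) = 2)
    (huniq : ∀ x : K, x * x = 1 → x ∈ center K)
    (hfour : ∃ s t : K ⧸ center K, s * s = 1 ∧ t * t = 1 ∧ s ≠ 1 ∧ t ≠ 1 ∧ s ≠ t ∧ s * t = t * s)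
    (hreal : ∃ x : K, Real' x ∧ Odd (orderOf x) ∧ x ≠ 1 ∧
      nu (Nat.card (centralizer ({x} : Set K))) + 2 ≤ nu (Nat.card K)) : False := by
  have : Fact (Nat.Prime 2) := ⟨Nat.prime_two⟩
  have := Zm_normal h.nrm
  have hn := h.nrm
  obtain ⟨s, t, hs, ht, hs1, ht1, hst, hcomm⟩ := hfour
  have h2 : 2 ∣ Nat.card (K ⧸ center K) := by
    have h3 : orderOf s = 2 := orderOf_eq_prime (by rw [pow_two, hs]) hs1
    rw [← h3]
    exact orderOf_dvd_natCard s
  obtain ⟨P, hP2, hPc, y, hyK, hyZ, hyy, hyP⟩ := h.exists_y h2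
  -- the central involution
  have hZ : Nat.card (Zm K) = 2 := by rw [card_Zm, hz]
  obtain ⟨z, hz1, hzall⟩ : ∃ z : M, z ≠ 1 ∧ ∀ w ∈ Zm K, w = 1 ∨ w = z := by
    obtain ⟨a, b, hab, hall⟩ := Nat.card_eq_two_iff.1 hZ
    have hall' : ∀ w : Zm K, w = a ∨ w = b := fun w => by
      have : w ∈ ({a, b} : Set (Zm K)) := by rw [hall]; trivial
      simpa using this
    rcases hall' 1 with h1 | h1
    · refine ⟨b, ?_, ?_⟩
      · intro hb
        apply hab
        rw [← h1]
        exact Subtype.ext hb.symm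
      · intro w hw
        rcases hall' ⟨w, hw⟩ with h3 | h3
        · left
          rw [← h1] at h3
          exact congrArg Subtype.val h3
        · right
          exact congrArg Subtype.val h3
    · refine ⟨a, ?_, ?_⟩
      · intro ha
        apply hab
        rw [← h1]
        exact Subtype.ext ha
      · intro w hw
        rcases hall' ⟨w, hw⟩ with h3 | h3
        · right
          exact congrArg Subtype.val h3
        · left
          rw [← h1] at h3
          exact congrArg Subtype.val h3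
  have hsq : ∀ x ∈ K, x ∉ Zm K → x * x ∈ Zm K → x * x = z := by
    intro x hxK hxZ hxx
    rcases hzall _ hxx with h1 | h1
    · exfalso
      apply hxZ
      exact mem_Zm.2 ⟨hxK, huniq ⟨x, hxK⟩ (Subtype.ext h1)⟩
    · exact h1
  have hyz := hsq y hyK hyZ hyy
  have hzz : z * z = 1 := by
    have h1 : z * z ∈ Zm K := by
      rw [← hyz]
      exact (Zm K).mul_mem hyy hyy
    rcases hzall _ h1 with h3 | h3
    · exact h3
    · exact absurd (mul_eq_left.1 h3) hz1
  have hyi : y⁻¹ = y * z := by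
    apply inv_eq_of_mul_eq_one_right
    rw [← mul_assoc, hyz, hzz]
  have hPy : P ≤ cst y := by
    intro p hp
    obtain ⟨w, hw, hpw⟩ := hyP p hp
    rcases hzall w hw with rfl | rfl
    · left
      rw [hpw, mul_one]
    · right
      rw [hpw, hyi]
  have hyy1 : y * y ≠ 1 := by rw [hyz]; exact hz1
  -- `y` is real
  have hyr : Real' y := by
    by_contra hcon
    have hyc : ∀ p ∈ P, p * y * p⁻¹ = y := by
      intro p hp
      rcases hPy hp with h1 | h1
      · exact h1
      · exact absurd ⟨p, h1⟩ hcon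
    -- lifts of `s`, `t`
    obtain ⟨s, rfl⟩ := QuotientGroup.mk_surjective s
    obtain ⟨t, rfl⟩ := QuotientGroup.mk_surjective t
    have hsZ : (s : M) * s ∈ Zm K := ⟨s * s, by
      rw [SetLike.mem_coe, ← QuotientGroup.eq_one_iff, QuotientGroup.mk_mul, hs], rfl⟩
    have htZ : (t : M) * t ∈ Zm K := ⟨t * t, by
      rw [SetLike.mem_coe, ← QuotientGroup.eq_one_iff, QuotientGroup.mk_mul, ht], rfl⟩
    have hsn : (s : M) ∉ Zm K := by
      intro h1
      obtain ⟨_, h3⟩ := mem_Zm.1 h1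
      exact hs1 ((QuotientGroup.eq_one_iff s).2 h3)
    have htn : (t : M) ∉ Zm K := by
      intro h1
      obtain ⟨_, h3⟩ := mem_Zm.1 h1
      exact ht1 ((QuotientGroup.eq_one_iff t).2 h3)
    have hstn : (s : M)⁻¹ * t ∉ Zm K := by
      intro h1
      obtain ⟨_, h3⟩ := mem_Zm.1 h1
      exact hst (QuotientGroup.eq.2 h3)
    have hstc : ((t : M) * s)⁻¹ * (s * t) ∈ Zm K := ⟨(t * s)⁻¹ * (s * t), by
      rw [SetLike.mem_coe, ← QuotientGroup.eq, QuotientGroup.mk_mul, QuotientGroup.mk_mul, hcomm], rfl⟩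
    -- the subgroup `⟨s, t⟩ Z` is a 2-group
    let π := QuotientGroup.mk' (Zm K)
    have hker : ∀ g : M, π g = 1 ↔ g ∈ Zm K := fun g => QuotientGroup.eq_one_iff g
    have hZ2 : IsPGroup 2 (Zm K) := h.z2.map _
    have hss : π s * π s = 1 := by rw [← map_mul, hker]; exact hsZ
    have htt : π t * π t = 1 := by rw [← map_mul, hker]; exact htZ
    have hts : π s * π t = π t * π s := by
      have h3 := (hker _).2 hstc
      rw [map_mul, map_inv, map_mul, map_mul, inv_mul_eq_one] at h3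
      exact h3.symm
    have hE2 : IsPGroup 2 (zpowers (π s) ⊔ zpowers (π t) : Subgroup (M ⧸ Zm K)) := by
      have h3 : IsPGroup 2 (zpowers (π s)) := Cfsg.Agent.HexOut.isPGroup_zpowers_of_sq hss
      have h4 : IsPGroup 2 (zpowers (π t)) := Cfsg.Agent.HexOut.isPGroup_zpowers_of_sq htt
      apply IsPGroup.to_sup_of_normal_left' h3 h4
      rw [zpowers_le, mem_normalizer_iff]
      intro x
      have h5 : ∀ x ∈ zpowers (π s), π t * x = x * π t := by
        intro x hx
        obtain ⟨k, rfl⟩ := mem_zpowers_iff.1 hx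
        exact ((show Commute (π t) (π s) from hts.symm).zpow_right k)
      constructor
      · intro hx
        rw [h5 x hx, mul_inv_cancel_right]
        exact hx
      · intro hx
        have h6 := h5 _ hx
        have h7 : π t * (π t * x * (π t)⁻¹) * (π t)⁻¹ = π t * x * (π t)⁻¹ := by
          rw [h6]; group
        have h8 : π t * x * (π t)⁻¹ = x := by
          have h9 : π t * (π t * x * (π t)⁻¹) * (π t)⁻¹ = (π t * π t) * x * (π t * π t)⁻¹ := by group
          rw [h9, htt] at h7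
          rw [← h7]; group
        rw [h8] at hx
        exact hx
    -- a Sylow 2-subgroup `P` and its image
    have hPs : ∃ Q : Sylow 2 M, (Q : Subgroup M) = P := by
      obtain ⟨Q, hQ⟩ := hP2.exists_le_sylow
      refine ⟨Q, ?_⟩
      symm
      apply eq_of_le_of_card_ge hQ
      rw [Sylow.card_eq_multiplicity]
      obtain ⟨n, hn⟩ := IsPGroup.iff_card.1 hP2
      have h3 : n = (Nat.card M).factorization 2 := by
        have := hPc
        rw [hn, nu_two_pow] at this
        exact this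
      rw [hn, h3]
    obtain ⟨Q, rfl⟩ := hPs
    obtain ⟨R, hR⟩ := hE2.exists_le_sylow
    let Qb : Sylow 2 (M ⧸ Zm K) := Q.mapSurjective (QuotientGroup.mk'_surjective (Zm K))
    obtain ⟨g, hg⟩ := MulAction.exists_smul_eq (M ⧸ Zm K) R Qb
    obtain ⟨g, rfl⟩ := QuotientGroup.mk'_surjective (Zm K) g
    have hmem : ∀ x : M, π x ∈ zpowers (π s) ⊔ zpowers (π t) → ∃ q ∈ (Q : Subgroup M), π q = π (g * x * g⁻¹) := by
      intro x hx
      have h3 : π g * π x * (π g)⁻¹ ∈ (Qb : Subgroup (M ⧸ Zm K)) := by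
        rw [← hg]
        rw [Sylow.coe_subgroup_smul, Subgroup.mem_pointwise_smul_iff_inv_smul_mem]
        have h4 : (MulAut.conj (π g))⁻¹ • (π g * π x * (π g)⁻¹) = π x := by
          rw [← map_inv, MulAut.smul_def, MulAut.conj_apply]
          group
        have h5 : (MulAut.conj (π g))⁻¹ • (π g * π x * (π g)⁻¹) ∈ (R : Subgroup (M ⧸ Zm K)) := by
          rw [h4]
          exact hR hx
        exact h5
      have h4 : (Qb : Subgroup (M ⧸ Zm K)) = (Q : Subgroup M).map π := rfl
      rw [h4] at h3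
      obtain ⟨q, hq, he⟩ := h3
      exact ⟨q, hq, by rw [he, map_mul, map_mul, map_inv]⟩
    -- every element of `K` with square in `Z`, conjugated into `P`, is congruent to `y`
    have hkey : ∀ x ∈ K, x ∉ Zm K → x * x ∈ Zm K → π x ∈ zpowers (π s) ⊔ zpowers (π t) →
        π (g * x * g⁻¹) = π y := by
      intro x hxK hxZ hxx hxE
      obtain ⟨q, hq, he⟩ := hmem x hxE
      have hgK : g * x * g⁻¹ ∈ K := h.nrm.conj_mem x hxK g
      have hqd : q⁻¹ * (g * x * g⁻¹) ∈ Zm K := by
        rw [← hker, map_mul, map_inv, he, inv_mul_cancel]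
      have hqK : q ∈ K := by
        have h3 : q = g * x * g⁻¹ * (q⁻¹ * (g * x * g⁻¹))⁻¹ := by group
        rw [h3]
        exact K.mul_mem hgK (K.inv_mem (Zm_le hqd))
      have hqZ : q ∉ Zm K := by
        intro h3
        apply hxZ
        rw [← hker] at h3 ⊢
        rw [h3, map_mul, map_mul, map_inv] at he
        have h4 : π x = (π g)⁻¹ * (π g * π x * (π g)⁻¹) * π g := by group
        rw [h4, ← he]
        group
      have hqq : q * q ∈ Zm K := by
        rw [← hker, map_mul, he, ← map_mul]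
        have h3 : g * x * g⁻¹ * (g * x * g⁻¹) = g * (x * x) * g⁻¹ := by group
        rw [h3, hker]
        exact (Zm_normal h.nrm).conj_mem _ hxx g
      have hqz := hsq q hqK hqZ hqq
      have hqy : q * y = y * q := by
        have h3 := hyc q hq
        rw [mul_inv_eq_iff_eq_mul] at h3
        exact h3
      have h3 : (q * y) * (q * y) = 1 := by
        calc (q * y) * (q * y) = q * (y * q) * y := by group
          _ = (q * q) * (y * y) := by rw [← hqy]; group
          _ = 1 := by rw [hqz, hyz, hzz]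
      have h4 : q * y ∈ Zm K :=
        mem_Zm.2 ⟨K.mul_mem hqK hyK, huniq ⟨q * y, K.mul_mem hqK hyK⟩ (Subtype.ext h3)⟩
      rw [← he]
      rw [← hker, map_mul] at h4
      have h5 : π y * π y = 1 := by rw [← map_mul, hker]; exact hyy
      calc π q = (π y)⁻¹ := eq_inv_of_mul_eq_one_left h4
        _ = π y := inv_eq_of_mul_eq_one_left h5
    have h3 := hkey s s.2 hsn hsZ (mem_sup_left (mem_zpowers _))
    have h4 := hkey t t.2 htn htZ (mem_sup_right (mem_zpowers _))
    apply hstn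
    rw [← hker]
    have h5 : π ((s : M)⁻¹ * t) = (π g)⁻¹ * ((π (g * s * g⁻¹))⁻¹ * π (g * t * g⁻¹)) * π g := by
      rw [← map_inv, ← map_inv, ← map_mul, ← map_mul, ← map_mul]
      congr 1
      group
    rw [h5, h3, h4]
    group
  have h3 := h.req y hyK hyr (by
    by_contra hcon
    push Not at hcon
    apply hyZ
    refine mem_Zm.2 ⟨hyK, ?_⟩
    rw [mem_center_iff]
    intro k
    exact Subtype.ext (hcon k k.2))
  have h4 := nu_cst hyr hyy1
  have h5 := nu_card_le hPy
  obtain ⟨x, hxr, hxo, hx1, hxc⟩ := hreal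
  have h6 := h.req_real hxr hxo hx1
  have h7 := nu_normal_cent (K := K) x
  omega

end Pair

end Cfsg.Agent.H466.RT
end
end

-- part: H466/RT/SLThree
section
set_option linter.all false
open scoped Cfsg.Agent.FastGrp

/-!
# Quaternion groups with an automorphism of order 3

`HasSL X`: `X` contains quaternion generators `i`, `j` and an element mapping `i` to `j` and `j` to `i j`.
Examples: `SL(2, q)` for odd `q`; the alternating groups of degree at least 8.
-/

set_option autoImplicit false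

namespace Cfsg.Agent.H466.RT

open Subgroup Cfsg

/-- a subgroup `SL(2, 3)` -/
def HasSL (X : Type*) [Group X] : Prop :=
  ∃ i j h : X, IsQ i j ∧ h * i * h⁻¹ = j ∧ h * j * h⁻¹ = i * j

/-- a quaternion subgroup -/
def HasQ (X : Type*) [Group X] : Prop := ∃ i j : X, IsQ i j

theorem HasSL.hasQ {X : Type*} [Group X] (h : HasSL X) : HasQ X := by
  obtain ⟨i, j, _, h, -⟩ := h
  exact ⟨i, j, h⟩

theorem HasQ.map {X Y : Type*} [Group X] [Group Y] {f : X →* Y} (hf : Function.Injective f) (h : HasQ X) :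
    HasQ Y := by
  obtain ⟨i, j, hq⟩ := h
  exact ⟨f i, f j, hq.map hf⟩

theorem HasSL.map {X Y : Type*} [Group X] [Group Y] {f : X →* Y} (hf : Function.Injective f) (h : HasSL X) :
    HasSL Y := by
  obtain ⟨i, j, h, hq, h1, h2⟩ := h
  exact ⟨f i, f j, f h, hq.map hf, by rw [← h1]; simp, by rw [← map_mul f i j, ← h2]; simp⟩

theorem HasSL.bad {K : Type*} [Group K] (h : HasSL (K ⧸ center K)) : Bad K := by
  obtain ⟨i, j, h, hq, h1, h2⟩ := h
  exact bad_of_sl (QuotientGroup.mk'_surjective (center K)) (fun g => QuotientGroup.eq_one_iff g) hq h1 h2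

theorem HasQ.bad {K : Type*} [Group K] (h : HasQ (K ⧸ center K)) (hc : IsCyclic (center K)) : Bad K := by
  obtain ⟨i, j, hq⟩ := h
  exact bad_of_quat (QuotientGroup.mk'_surjective (center K)) (fun g => QuotientGroup.eq_one_iff g) hc hq

section SLTwo

open Matrix

variable {F : Type*} [Field F]

theorem hasSL_sl_two [Fintype F] (h2 : (2 : F) ≠ 0) : HasSL (SpecialLinearGroup (Fin 2) F) := by
  obtain ⟨a, b, hab⟩ := Cfsg.Agent.S0759.exists_sq_add_sq (F := F)
  let I : SpecialLinearGroup (Fin 2) F := ⟨!![0, -1; 1, 0], by simp [det_fin_two]⟩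
  let J : SpecialLinearGroup (Fin 2) F := ⟨!![a, b; b, -a], by
    rw [det_fin_two_of]
    linear_combination -hab⟩
  let H : SpecialLinearGroup (Fin 2) F := ⟨!![(1 + a - b) / 2, (-1 + b + a) / 2; (1 + b + a) / 2, (1 - a + b) / 2], by
    rw [det_fin_two_of]
    field_simp
    linear_combination -2 * hab⟩
  have hII : I * I = -1 := by
    have h : !![(0 : F), -1; 1, 0] * !![0, -1; 1, 0] = -(1 : Matrix (Fin 2) (Fin 2) F) := by
      rw [mul_fin_two, one_fin_two]
      ext r s
      fin_cases r <;> fin_cases s <;> simp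
    exact Subtype.ext h
  have hJJ : J * J = -1 := by
    have h : !![a, b; b, -a] * !![a, b; b, -a] = -(1 : Matrix (Fin 2) (Fin 2) F) := by
      rw [mul_fin_two, one_fin_two]
      ext r s
      fin_cases r <;> fin_cases s <;> simp
      · linear_combination hab
      · ring
      · ring
      · linear_combination hab
    exact Subtype.ext h
  have hIJ : I * J * (I * J) = -1 := by
    have h : !![(0 : F), -1; 1, 0] * !![a, b; b, -a] * (!![(0 : F), -1; 1, 0] * !![a, b; b, -a]) =
        -(1 : Matrix (Fin 2) (Fin 2) F) := by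
      rw [mul_fin_two, mul_fin_two, one_fin_two]
      ext r s
      fin_cases r <;> fin_cases s <;> simp
      · linear_combination hab
      · ring
      · ring
      · linear_combination hab
    exact Subtype.ext h
  have hne : (-1 : SpecialLinearGroup (Fin 2) F) ≠ 1 := by
    intro h
    have h1 := congrArg (fun g : SpecialLinearGroup (Fin 2) F => (g : Matrix (Fin 2) (Fin 2) F) 0 0) h
    simp at h1
    apply h2
    linear_combination -h1
  refine ⟨I, J, H, ⟨by rw [hII, hJJ], by rw [hIJ, hII], by rw [hII]; exact hne⟩, ?_, ?_⟩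
  · rw [mul_inv_eq_iff_eq_mul]
    have h : !![(1 + a - b) / 2, (-1 + b + a) / 2; (1 + b + a) / 2, (1 - a + b) / 2] * !![(0 : F), -1; 1, 0] =
        !![a, b; b, -a] * !![(1 + a - b) / 2, (-1 + b + a) / 2; (1 + b + a) / 2, (1 - a + b) / 2] := by
      rw [mul_fin_two, mul_fin_two]
      ext r s
      fin_cases r <;> fin_cases s <;> simp <;> field_simp
      · linear_combination -hab
      · linear_combination -hab
      · linear_combination hab
      · linear_combination -hab
    exact Subtype.ext h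
  · rw [mul_inv_eq_iff_eq_mul]
    have h : !![(1 + a - b) / 2, (-1 + b + a) / 2; (1 + b + a) / 2, (1 - a + b) / 2] * !![a, b; b, -a] =
        !![(0 : F), -1; 1, 0] * !![a, b; b, -a] *
          !![(1 + a - b) / 2, (-1 + b + a) / 2; (1 + b + a) / 2, (1 - a + b) / 2] := by
      rw [mul_fin_two, mul_fin_two, mul_fin_two]
      ext r s
      fin_cases r <;> fin_cases s <;> simp <;> field_simp
      · ring
      · ring
      · ring
      · ring
    exact Subtype.ext h

end SLTwo

end Cfsg.Agent.H466.RT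
end

-- part: H466/RT/DFive
section
prune_inst 0x24302604482212000018001002002664580001020063000151400d06094e1300250506014cc01f10981a06d06004002002080110423800002a00080040040521802b5026923cad0437000980b007180c00000000000000000000000000041004200000000
set_option linter.all false
open scoped Cfsg.Agent.FastGrp

/-!
# `SL(2, 3)` from involutions satisfying the Coxeter relations of type `D₅`
-/

set_option autoImplicit false

namespace Cfsg.Agent.H466.RT

open Subgroup
open scoped commutatorElement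

/-- Coxeter relations of type `D₅`: the path `w - x - c` and the two leaves `y`, `z` at `c` -/
structure DFive {O : Type*} [Group O] (w x c y z : O) : Prop where
  ww : w * w = 1
  xx : x * x = 1
  cc : c * c = 1
  yy : y * y = 1
  zz : z * z = 1
  wx : w * x * w = x * w * x
  xc : x * c * x = c * x * c
  yc : y * c * y = c * y * c
  zc : z * c * z = c * z * c
  wc : w * c = c * w
  wy : w * y = y * w
  wz : w * z = z * w
  xy : x * y = y * x
  xz : x * z = z * x
  yz : y * z = z * y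

namespace DFive

variable {O : Type*} [Group O] {w x c y z : O}

theorem map {Y : Type*} [Group Y] (f : O →* Y) (h : DFive w x c y z) :
    DFive (f w) (f x) (f c) (f y) (f z) := by
  constructor <;> simp only [← map_mul, h.ww, h.xx, h.cc, h.yy, h.zz, h.wx, h.xc, h.yc, h.zc, h.wc, h.wy, h.wz,
    h.xy, h.xz, h.yz, map_one]

/-- the element of order 4 -/
def qi (x c y z : O) : O := x * c * y * c * z * c

theorem relB (h : DFive w x c y z) :
    y * c * qi x c y z * (y * c) = qi x c y z * (c * y) * qi x c y z := by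
  have e1 : y * z * y = z := by rw [h.yz, mul_assoc, h.yy, mul_one]
  have e2 : z * y * z = y := by rw [← h.yz, mul_assoc, h.zz, mul_one]
  calc y * c * qi x c y z * (y * c) = y * (c * x * c) * y * (c * z * c) * y * c := by
        simp only [qi, mul_assoc]
    _ = (y * x) * c * x * y * z * c * (z * y) * c := by
        rw [← h.xc, ← h.zc]; simp only [mul_assoc]
    _ = x * y * c * (x * y * z) * c * (y * z) * c := by
        rw [← h.xy, ← h.yz]; simp only [mul_assoc]
    _ = x * y * c * z * x * (y * c * y) * z * c := by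
        have : x * y * z = z * x * y := by rw [mul_assoc, h.yz, ← mul_assoc, h.xz]
        rw [this]; simp only [mul_assoc]
    _ = x * (y * c * (y * z * y)) * x * (c * y * c) * z * c := by
        rw [h.yc, e1]; simp only [mul_assoc]
    _ = x * (y * c * y) * z * y * x * (c * y * c) * z * c := by simp only [mul_assoc]
    _ = x * (c * y * c) * z * (c * c) * y * x * (c * y * c) * z * c := by
        rw [h.yc, h.cc]; simp only [mul_assoc, mul_one, one_mul]
    _ = qi x c y z * (c * y) * qi x c y z := by simp only [qi, mul_assoc]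

/-- the sign change -/
def sg (c y z : O) : O := c * (y * z) * c

theorem sg_sq (h : DFive w x c y z) : sg c y z * sg c y z = 1 := by
  calc sg c y z * sg c y z = c * (y * z) * (c * c) * (y * z) * c := by simp only [sg, mul_assoc]
    _ = c * (y * z * y * z) * c := by rw [h.cc]; simp only [mul_assoc, one_mul]
    _ = c * ((z * y) * y * z) * c := by rw [h.yz]
    _ = c * (z * (y * y) * z) * c := by simp only [mul_assoc]
    _ = 1 := by rw [h.yy, mul_one, h.zz, mul_one, h.cc]

theorem sg_y (h : DFive w x c y z) : sg c y z * y * sg c y z = z := by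
  have e1 : y * z * y = z := by rw [h.yz, mul_assoc, h.yy, mul_one]
  calc sg c y z * y * sg c y z = c * (y * z) * (c * y * c) * (y * z) * c := by simp only [sg, mul_assoc]
    _ = c * (y * z * y) * c * (y * y) * z * c := by rw [← h.yc]; simp only [mul_assoc]
    _ = (c * z * c) * z * c := by rw [h.yy, e1]; simp only [mul_assoc, mul_one, one_mul]
    _ = z * c * (z * z) * c := by rw [← h.zc]; simp only [mul_assoc]
    _ = z := by rw [h.zz, mul_one, mul_assoc, h.cc, mul_one]

theorem qi_eq (h : DFive w x c y z) : qi x c y z = x * y * sg c y z := by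
  calc qi x c y z = x * (c * y * c) * z * c := by simp only [qi, mul_assoc]
    _ = x * y * sg c y z := by rw [← h.yc]; simp only [sg, mul_assoc]

/-- the reflection in the highest root -/
def tt (x c y z : O) : O := sg c y z * x * sg c y z

theorem y_sg (h : DFive w x c y z) : y * sg c y z = sg c y z * z := by
  have h1 := h.sg_y
  have h2 := h.sg_sq
  set s := sg c y z
  calc y * s = (s * s) * y * s := by rw [h2, one_mul]
    _ = s * (s * y * s) := by simp only [mul_assoc]
    _ = s * z := by rw [h1]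

theorem z_sg (h : DFive w x c y z) : z * sg c y z = sg c y z * y := by
  have h1 := h.sg_y
  have h2 := h.sg_sq
  set s := sg c y z
  calc z * s = s * y * (s * s) := by rw [← h1]; simp only [mul_assoc]
    _ = s * y := by rw [h2, mul_one]

theorem y_tt (h : DFive w x c y z) : y * tt x c y z = tt x c y z * y := by
  calc y * tt x c y z = (y * sg c y z) * x * sg c y z := by simp only [tt, mul_assoc]
    _ = sg c y z * (z * x) * sg c y z := by rw [h.y_sg]; simp only [mul_assoc]
    _ = sg c y z * x * (z * sg c y z) := by rw [← h.xz]; simp only [mul_assoc]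
    _ = tt x c y z * y := by rw [h.z_sg]; simp only [tt, mul_assoc]

theorem z_tt (h : DFive w x c y z) : z * tt x c y z = tt x c y z * z := by
  calc z * tt x c y z = (z * sg c y z) * x * sg c y z := by simp only [tt, mul_assoc]
    _ = sg c y z * (y * x) * sg c y z := by rw [h.z_sg]; simp only [mul_assoc]
    _ = sg c y z * x * (y * sg c y z) := by rw [← h.xy]; simp only [mul_assoc]
    _ = tt x c y z * z := by rw [h.y_sg]; simp only [tt, mul_assoc]

theorem qi_sq (h : DFive w x c y z) : qi x c y z * qi x c y z = x * tt x c y z * (y * z) := by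
  calc qi x c y z * qi x c y z = x * y * (sg c y z * x * (y * sg c y z)) := by
        rw [h.qi_eq]; simp only [mul_assoc]
    _ = x * (y * tt x c y z) * z := by rw [h.y_sg]; simp only [tt, mul_assoc]
    _ = x * tt x c y z * (y * z) := by rw [h.y_tt]; simp only [mul_assoc]

theorem w_sg (h : DFive w x c y z) : w * sg c y z = sg c y z * w := by
  calc w * sg c y z = (w * c) * (y * z) * c := by simp only [sg, mul_assoc]
    _ = c * (w * y) * z * c := by rw [h.wc]; simp only [mul_assoc]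
    _ = c * y * (w * z) * c := by rw [h.wy]; simp only [mul_assoc]
    _ = c * y * z * (w * c) := by rw [h.wz]; simp only [mul_assoc]
    _ = sg c y z * w := by rw [h.wc]; simp only [sg, mul_assoc]

theorem w_tt (h : DFive w x c y z) : w * tt x c y z * w = tt x c y z * w * tt x c y z := by
  calc w * tt x c y z * w = (w * sg c y z) * x * (sg c y z * w) := by simp only [tt, mul_assoc]
    _ = sg c y z * (w * x * w) * sg c y z := by rw [← h.w_sg]; nth_rw 1 [h.w_sg]; simp only [mul_assoc]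
    _ = sg c y z * x * (w * 1) * x * sg c y z := by rw [h.wx, mul_one]; simp only [mul_assoc]
    _ = sg c y z * x * ((w * sg c y z) * sg c y z) * x * sg c y z := by
        rw [← h.sg_sq]; simp only [mul_assoc]
    _ = tt x c y z * w * tt x c y z := by rw [h.w_sg]; simp only [tt, mul_assoc]

theorem tt_sq (h : DFive w x c y z) : tt x c y z * tt x c y z = 1 := by
  calc tt x c y z * tt x c y z = sg c y z * x * (sg c y z * sg c y z) * x * sg c y z := by
        simp only [tt, mul_assoc]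
    _ = sg c y z * (x * x) * sg c y z := by rw [h.sg_sq]; simp only [mul_assoc, one_mul]
    _ = 1 := by rw [h.xx, mul_one, h.sg_sq]

/-- the square commutes with `c y` -/
theorem qi_sq_h (h : DFive w x c y z) :
    c * y * (qi x c y z * qi x c y z) = qi x c y z * qi x c y z * (c * y) := by
  set i := qi x c y z with hi
  set g := c * y with hg
  have hgi : g⁻¹ = y * c := by
    apply inv_eq_of_mul_eq_one_right
    rw [hg]
    calc c * y * (y * c) = c * (y * y) * c := by simp only [mul_assoc]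
      _ = 1 := by rw [h.yy, mul_one, h.cc]
  have hB : g⁻¹ * i * g⁻¹ = i * g * i := by rw [hgi]; exact h.relB
  have h3 : g * g * g = 1 := by
    calc g * g * g = (c * y * c) * y * c * y := by rw [hg]; simp only [mul_assoc]
      _ = (y * c) * (y * y) * c * y := by rw [← h.yc]; simp only [mul_assoc]
      _ = 1 := by rw [h.yy, mul_one, mul_assoc y, h.cc, mul_one, h.yy]
  have h4 : i * i = g⁻¹ * (i * i) * g := by
    calc i * i = i * g * (g⁻¹ * i * g⁻¹) * g := by group
      _ = i * g * (i * g * i) * g := by rw [hB]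
      _ = (i * g * i) * g * (i * g) := by group
      _ = g⁻¹ * i * g⁻¹ * g * (i * g) := by rw [hB]
      _ = g⁻¹ * (i * i) * g := by group
  calc g * (i * i) = g * (g⁻¹ * (i * i) * g) := by rw [← h4]
    _ = i * i * g := by group

theorem y_sq (h : DFive w x c y z) : y * (qi x c y z * qi x c y z) = qi x c y z * qi x c y z * y := by
  rw [h.qi_sq]
  calc y * (x * tt x c y z * (y * z)) = (y * x) * tt x c y z * (y * z) := by simp only [mul_assoc]
    _ = x * (y * tt x c y z) * (y * z) := by rw [← h.xy]; simp only [mul_assoc]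
    _ = x * tt x c y z * y * (y * z) := by rw [h.y_tt]; simp only [mul_assoc]
    _ = x * tt x c y z * y * (z * y) := by rw [h.yz]
    _ = x * tt x c y z * (y * z) * y := by simp only [mul_assoc]

theorem z_sq (h : DFive w x c y z) : z * (qi x c y z * qi x c y z) = qi x c y z * qi x c y z * z := by
  rw [h.qi_sq]
  calc z * (x * tt x c y z * (y * z)) = (z * x) * tt x c y z * (y * z) := by simp only [mul_assoc]
    _ = x * (z * tt x c y z) * (y * z) := by rw [← h.xz]; simp only [mul_assoc]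
    _ = x * tt x c y z * (z * y) * z := by rw [h.z_tt]; simp only [mul_assoc]
    _ = x * tt x c y z * (y * z) * z := by rw [h.yz]

theorem c_sq (h : DFive w x c y z) : c * (qi x c y z * qi x c y z) = qi x c y z * qi x c y z * c := by
  have h1 := h.qi_sq_h
  have h2 := h.y_sq
  set m := qi x c y z * qi x c y z
  have h3 : c * m * y = m * c * y := by
    rw [mul_assoc, ← h2, ← mul_assoc, h1, ← mul_assoc]
  exact mul_right_cancel h3

theorem x_sq (h : DFive w x c y z) : x * (qi x c y z * qi x c y z) = qi x c y z * qi x c y z * x := by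
  have h1 : Commute (qi x c y z) (qi x c y z * qi x c y z) := (Commute.refl _).mul_right (Commute.refl _)
  have hc : Commute c (qi x c y z * qi x c y z) := h.c_sq
  have hy : Commute y (qi x c y z * qi x c y z) := h.y_sq
  have hz : Commute z (qi x c y z * qi x c y z) := h.z_sq
  have h2 : Commute (x * (c * y * c * z * c)) (qi x c y z * qi x c y z) := by
    have : x * (c * y * c * z * c) = qi x c y z := by simp only [qi, mul_assoc]
    rw [this]
    exact h1
  have h3 : Commute (c * y * c * z * c) (qi x c y z * qi x c y z) :=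
    (((hc.mul_left hy).mul_left hc).mul_left hz).mul_left hc
  have h4 := h2.mul_left h3.inv_left
  rwa [mul_inv_cancel_right] at h4

/-- if the square commutes with `w` then `y = z`. -/
theorem eq_of_comm (h : DFive w x c y z)
    (hw : w * (qi x c y z * qi x c y z) = qi x c y z * qi x c y z * w) : y = z := by
  have hwxt : w * (x * tt x c y z) = x * tt x c y z * w := by
    have h1 : w * (x * tt x c y z) * (y * z) = x * tt x c y z * w * (y * z) := by
      calc w * (x * tt x c y z) * (y * z) = w * (x * tt x c y z * (y * z)) := by simp only [mul_assoc]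
        _ = x * tt x c y z * (y * (z * w)) := by rw [← h.qi_sq, hw, h.qi_sq]; simp only [mul_assoc]
        _ = x * tt x c y z * ((y * w) * z) := by rw [← h.wz]; simp only [mul_assoc]
        _ = x * tt x c y z * w * (y * z) := by rw [← h.wy]; simp only [mul_assoc]
    exact mul_right_cancel h1
  have hxt : x = tt x c y z := by
    have hwt := h.w_tt
    have htt := h.tt_sq
    set t := tt x c y z
    have h1 : w * x * t * w = x * t := by
      calc w * x * t * w = (w * (x * t)) * w := by simp only [mul_assoc]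
        _ = x * t := by rw [hwxt, mul_assoc, h.ww, mul_one]
    have h2 : w * x * t * w = x * (w * x * t * w) * t := by
      calc w * x * t * w = (w * x * w) * (w * t * w) := by
            calc w * x * t * w = w * x * (w * w) * t * w := by rw [h.ww, mul_one]
              _ = (w * x * w) * (w * t * w) := by simp only [mul_assoc]
        _ = x * (w * x * t * w) * t := by rw [h.wx, hwt]; simp only [mul_assoc]
    rw [h1] at h2
    have h3 : x * t = 1 := by
      calc x * t = x * (x * t) * t := h2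
        _ = (x * x) * (t * t) := by simp only [mul_assoc]
        _ = 1 := by rw [h.xx, htt, mul_one]
    calc x = x * (t * t) := by rw [htt, mul_one]
      _ = t := by rw [← mul_assoc, h3, one_mul]
  have hsx : Commute (sg c y z) x := by
    have h1 := hxt
    rw [tt] at h1
    have h2 := h.sg_sq
    set s := sg c y z
    calc s * x = s * (s * x * s) := by rw [← h1]
      _ = (s * s) * x * s := by simp only [mul_assoc]
      _ = x * s := by rw [h2, one_mul]
  -- `m = y z` commutes with `c`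
  have hm : qi x c y z * qi x c y z = y * z := by
    rw [h.qi_sq, ← hxt, h.xx, one_mul]
  have hcyz := h.c_sq
  rw [hm] at hcyz
  have h1 : (y * c * y) * (z * c * z) = y * z := by
    calc (y * c * y) * (z * c * z) = c * y * (c * c) * z * c := by rw [h.yc, h.zc]; simp only [mul_assoc]
      _ = c * (y * z) * c := by rw [h.cc, mul_one, mul_assoc c]
      _ = y * z * (c * c) := by rw [hcyz, mul_assoc]
      _ = y * z := by rw [h.cc, mul_one]
  have h2 : c * (y * z) * c = 1 := by
    have h3 : y * (c * (y * z) * c) * z = y * z := by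
      calc y * (c * (y * z) * c) * z = y * c * y * (z * c * z) := by simp only [mul_assoc]
        _ = y * z := h1
    have h4 : y * (c * (y * z) * c) = y := mul_right_cancel h3
    exact mul_eq_left.1 h4
  have h3 : y * z = 1 := by
    rw [hcyz, mul_assoc, h.cc, mul_one] at h2
    exact h2
  calc y = y * (z * z) := by rw [h.zz, mul_one]
    _ = z := by rw [← mul_assoc, h3, one_mul]

/-- The lemma: `i`, `j`, `h` in a subgroup `N` containing `x c`, `y c`, `z c`, `w x`, modulo the centre. -/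
theorem hasSL_quot (h : DFive w x c y z) (hyz : y ≠ z) {N : Subgroup O} (h1 : x * c ∈ N) (h2 : y * c ∈ N)
    (h3 : z * c ∈ N) (h4 : w * x ∈ N) {Y : Type*} [Group Y] (π : N →* Y)
    (hπ : ∀ g, π g = 1 → g ∈ center N) : HasSL Y := by
  have hgi : (c * y)⁻¹ = y * c := by
    apply inv_eq_of_mul_eq_one_right
    calc c * y * (y * c) = c * (y * y) * c := by simp only [mul_assoc]
      _ = 1 := by rw [h.yy, mul_one, h.cc]
  have hg : c * y ∈ N := by
    have := N.inv_mem h2
    rwa [← hgi, inv_inv] at this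
  have hi : qi x c y z ∈ N := by
    have : qi x c y z = x * c * (y * c) * (z * c) := by simp only [qi, mul_assoc]
    rw [this]
    exact N.mul_mem (N.mul_mem h1 h2) h3
  set i := qi x c y z with hid
  set g := c * y with hgd
  have hB : g⁻¹ * i * g⁻¹ = i * g * i := by rw [hgi]; exact h.relB
  have hA : g * (i * i) = i * i * g := h.qi_sq_h
  have h3 : g * g * g = 1 := by
    calc g * g * g = (c * y * c) * y * c * y := by rw [hgd]; simp only [mul_assoc]
      _ = (y * c) * (y * y) * c * y := by rw [← h.yc]; simp only [mul_assoc]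
      _ = 1 := by rw [h.yy, mul_one, mul_assoc y, h.cc, mul_one, h.yy]
  have hgg : g⁻¹ = g * g := inv_eq_of_mul_eq_one_left h3
  let i' : N := ⟨i, hi⟩
  let g' : N := ⟨g, hg⟩
  have hA' : g' * (i' * i') = i' * i' * g' := Subtype.ext hA
  have hB' : g' * (g' * i' * g'⁻¹) * g'⁻¹ = i' * (g' * i' * g'⁻¹) := by
    apply Subtype.ext
    change g * (g * i * g⁻¹) * g⁻¹ = i * (g * i * g⁻¹)
    calc g * (g * i * g⁻¹) * g⁻¹ = (g * g) * i * g⁻¹ * g⁻¹ := by group
      _ = (i * g * i) * g⁻¹ := by rw [← hgg, hB]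
      _ = i * (g * i * g⁻¹) := by group
  have hne : π i' * π i' ≠ 1 := by
    intro h5
    rw [← map_mul] at h5
    have h6 := mem_center_iff.1 (hπ _ h5) ⟨w * x, h4⟩
    have h7 : w * x * (i * i) = i * i * (w * x) := congrArg Subtype.val h6
    apply hyz
    apply h.eq_of_comm
    have h8 : x * (i * i) = i * i * x := h.x_sq
    have h9 : w * (i * i) * x = i * i * w * x := by
      rw [mul_assoc, ← h8, ← mul_assoc, h7, ← mul_assoc]
    exact mul_right_cancel h9
  refine ⟨π i', π (g' * i' * g'⁻¹), π g', ⟨?_, ?_, hne⟩, ?_, ?_⟩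
  · rw [← map_mul, ← map_mul]
    congr 1
    calc i' * i' = i' * i' * g' * g'⁻¹ := by group
      _ = g' * (i' * i') * g'⁻¹ := by rw [← hA']
      _ = g' * i' * g'⁻¹ * (g' * i' * g'⁻¹) := by group
  · rw [← map_mul, ← map_mul, ← map_mul]
    congr 1
    calc i' * (g' * i' * g'⁻¹) * (i' * (g' * i' * g'⁻¹))
        = g' * (g' * i' * g'⁻¹) * g'⁻¹ * (g' * (g' * i' * g'⁻¹) * g'⁻¹) := by rw [hB']
      _ = g' * (g' * (i' * i')) * g'⁻¹ * g'⁻¹ := by group
      _ = g' * (i' * i' * g') * g'⁻¹ * g'⁻¹ := by rw [hA']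
      _ = g' * (i' * i') * g'⁻¹ := by group
      _ = i' * i' * g' * g'⁻¹ := by rw [hA']
      _ = i' * i' := by group
  · rw [← map_mul, ← map_inv, ← map_mul]
  · rw [← map_mul, ← map_inv, ← map_mul, hB', map_mul]

theorem hasSL_center (h : DFive w x c y z) (hyz : y ≠ z) : HasSL (O ⧸ center O) := by
  refine h.hasSL_quot hyz (N := ⊤) (mem_top _) (mem_top _) (mem_top _) (mem_top _)
    ((QuotientGroup.mk' (center O)).comp (⊤ : Subgroup O).subtype) ?_
  intro g hg
  have h1 : (g : O) ∈ center O := (QuotientGroup.eq_one_iff (g : O)).1 hg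
  rw [mem_center_iff]
  intro k
  exact Subtype.ext (mem_center_iff.1 h1 k)

theorem hasSL (h : DFive w x c y z) (hyz : y ≠ z) : HasSL O := by
  refine h.hasSL_quot hyz (N := ⊤) (mem_top _) (mem_top _) (mem_top _) (mem_top _) (⊤ : Subgroup O).subtype ?_
  intro g hg
  have h1 : g = 1 := Subtype.ext hg
  rw [h1]
  exact (center _).one_mem

/-- products of noncommuting generators are commutators -/
theorem mem_commutator_of_braid {a b : O} (ha : a * a = 1) (hb : b * b = 1) (hab : a * b * a = b * a * b) :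
    a * b ∈ commutator O := by
  have h1 : a⁻¹ = a := inv_eq_of_mul_eq_one_left ha
  have h2 : b⁻¹ = b := inv_eq_of_mul_eq_one_left hb
  have h3 : a * b = ⁅b, a⁆ := by
    rw [commutatorElement_def, h1, h2]
    calc a * b = (b * b) * a * b := by rw [hb, one_mul]
      _ = b * (b * a * b) := by simp only [mul_assoc]
      _ = b * (a * b * a) := by rw [hab]
      _ = b * a * b * a := by simp only [mul_assoc]
  rw [h3]
  exact commutator_mem_commutator (mem_top _) (mem_top _)

end DFive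

end Cfsg.Agent.H466.RT

private theorem dce_0f2d6d4691a0 : _root_.True := by
  try have : _root_.True := by simp only [_root_.Cfsg.Agent.H466.RT.DFive.sg.eq_1]
  try have : _root_.True := by simp only [_root_.Cfsg.Agent.H466.RT.DFive.tt.eq_1]
  try have : _root_.True := by simp only [_root_.Cfsg.Agent.H466.RT.DFive.qi.eq_1]
  exact _root_.True.intro
end

-- part: H466/RT/OneClass
section
prune_inst 0x24306604482212000000001000002664580001020063000171400d06010e1300850006004c801f00980a02000004002002080010421000000a00000040040521802a50049208a10427000980b007180c00000000000000000000000000041004200000000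
set_option linter.all false
open scoped Cfsg.Agent.FastGrp

/-!
# Pairs: one class of involutions

`Pair.false_of_oneClass`: no pair `M`, `K` such that `K / Z(K)` has one class of involutions, 2-rank at
least 3, involution centralizers 2-groups, and `|Z(K)| < |K / Z(K)|_2`.
-/

set_option autoImplicit false

namespace Cfsg.Agent.H466.RT

open Subgroup Cfsg

/-- `r, s, t` generate an elementary abelian group of order 8. -/
structure Three {S : Type*} [Group S] (r s t : S) : Prop where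
  rr : r * r = 1
  ss : s * s = 1
  tt : t * t = 1
  rs : r * s = s * r
  rt : r * t = t * r
  st : s * t = t * s
  r1 : r ≠ 1
  s1 : s ≠ 1
  t1 : t ≠ 1
  hrs : r ≠ s
  hrt : r ≠ t
  hst : s ≠ t
  hrst : r * s ≠ t

/-- one class of involutions -/
def OneCl (S : Type*) [Group S] : Prop :=
  ∀ s t : S, s * s = 1 → s ≠ 1 → t * t = 1 → t ≠ 1 → IsConj s t

section Lift

variable {L : Type*} [Group L]

local notation "Z" => center L

theorem mk_eq_one {x : L} : (x : L ⧸ center L) = 1 ↔ x ∈ center L := QuotientGroup.eq_one_iff x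

/-- If all involutions of `L / Z(L)` are conjugate and there is an elementary abelian subgroup of order 8
then some involution of `L` is not central. -/
theorem exists_noncentral (hcl : OneCl (L ⧸ center L)) {r s t : L ⧸ center L} (h : Three r s t) :
    ∃ y : L, y * y = 1 ∧ y ∉ center L := by
  obtain ⟨a, rfl⟩ := QuotientGroup.mk_surjective r
  obtain ⟨b, rfl⟩ := QuotientGroup.mk_surjective s
  obtain ⟨d, rfl⟩ := QuotientGroup.mk_surjective t
  -- the squares of the lifts of involutions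
  have hq : ∀ y : L, y * y ∈ Z → y ∉ Z → ∃ w ∈ Z, y * y = a * a * (w * w) := by
    intro y hyy hy
    have h1 : (y : L ⧸ center L) * y = 1 := by rw [← QuotientGroup.mk_mul, mk_eq_one]; exact hyy
    have h2 : (y : L ⧸ center L) ≠ 1 := fun h => hy (mk_eq_one.1 h)
    obtain ⟨g, hg⟩ := isConj_iff.1 (hcl _ _ h.rr h.r1 h1 h2)
    obtain ⟨g, rfl⟩ := QuotientGroup.mk_surjective g
    have h3 : (g * a * g⁻¹)⁻¹ * y ∈ Z := by
      rw [← mk_eq_one, QuotientGroup.mk_mul, QuotientGroup.mk_inv, QuotientGroup.mk_mul,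
        QuotientGroup.mk_mul, QuotientGroup.mk_inv, hg, inv_mul_cancel]
    refine ⟨_, h3, ?_⟩
    set w := (g * a * g⁻¹)⁻¹ * y with hw
    have hyw : y = g * a * g⁻¹ * w := by rw [hw]; group
    have haa : a * a ∈ Z := by
      rw [← mk_eq_one, QuotientGroup.mk_mul]
      exact h.rr
    have hwc : ∀ x, x * w = w * x := fun x => mem_center_iff.1 h3 x
    calc y * y = g * a * g⁻¹ * (w * (g * a * g⁻¹)) * w := by rw [hyw]; group
      _ = g * (a * a) * g⁻¹ * (w * w) := by rw [← hwc]; group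
      _ = a * a * (w * w) := by rw [mem_center_iff.1 haa g, mul_inv_cancel_right]
  have haa : a * a ∈ Z := by rw [← mk_eq_one, QuotientGroup.mk_mul]; exact h.rr
  have hbb : b * b ∈ Z := by rw [← mk_eq_one, QuotientGroup.mk_mul]; exact h.ss
  have hdd : d * d ∈ Z := by rw [← mk_eq_one, QuotientGroup.mk_mul]; exact h.tt
  -- commutators
  have hkap : ∀ x y : L, x * x ∈ Z → y * y ∈ Z → x ∉ Z → y ∉ Z → y * x * (x * y)⁻¹ ∈ Z → x * y ∉ Z →
      ∃ v ∈ Z, y * x * (x * y)⁻¹ = (a * a)⁻¹ * (v * v) := by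
    intro x y hxx hyy hx hy hc hxy
    obtain ⟨w₁, hw₁, h1⟩ := hq x hxx hx
    obtain ⟨w₂, hw₂, h2⟩ := hq y hyy hy
    set k := y * x * (x * y)⁻¹ with hk
    have hyx : y * x = k * (x * y) := by rw [hk]; group
    have hkc : ∀ g, g * k = k * g := fun g => mem_center_iff.1 hc g
    have h3 : x * y * (x * y) = k * (x * x) * (y * y) := by
      calc x * y * (x * y) = x * (y * x) * y := by group
        _ = (x * k) * x * y * y := by rw [hyx]; group
        _ = k * (x * x) * (y * y) := by rw [hkc]; group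
    have h4 : x * y * (x * y) ∈ Z := by
      rw [h3]
      exact (center L).mul_mem ((center L).mul_mem hc hxx) hyy
    obtain ⟨w₃, hw₃, h5⟩ := hq (x * y) h4 hxy
    refine ⟨w₃ * (w₁ * w₂)⁻¹, (center L).mul_mem hw₃ ((center L).inv_mem ((center L).mul_mem hw₁ hw₂)), ?_⟩
    have c1 : ∀ g, g * w₁ = w₁ * g := fun g => mem_center_iff.1 hw₁ g
    have c2 : ∀ g, g * w₂ = w₂ * g := fun g => mem_center_iff.1 hw₂ g
    have c3 : ∀ g, g * w₃ = w₃ * g := fun g => mem_center_iff.1 hw₃ g
    have ca : ∀ g, g * (a * a) = (a * a) * g := fun g => mem_center_iff.1 haa g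
    rw [h3, h1, h2] at h5
    -- work in the commutative group `Z`
    have key : ∀ A W₁ W₂ W₃ K : center L, K * (A * (W₁ * W₁)) * (A * (W₂ * W₂)) = A * (W₃ * W₃) →
        K = A⁻¹ * ((W₃ * (W₁ * W₂)⁻¹) * (W₃ * (W₁ * W₂)⁻¹)) := by
      intro A W₁ W₂ W₃ K hK
      have h6 : K = A * (W₃ * W₃) * (A * (W₂ * W₂))⁻¹ * (A * (W₁ * W₁))⁻¹ := by rw [← hK]; group
      rw [h6]
      simp only [mul_inv_rev]
      have e1 : ∀ x y : center L, x * y = y * x := fun x y => mul_comm' x y
      calc A * (W₃ * W₃) * (W₂⁻¹ * W₂⁻¹ * A⁻¹) * (W₁⁻¹ * W₁⁻¹ * A⁻¹)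
          = A * (W₃ * W₃) * ((W₂⁻¹ * W₂⁻¹) * A⁻¹) * ((W₁⁻¹ * W₁⁻¹) * A⁻¹) := by group
        _ = A * (W₃ * W₃) * (A⁻¹ * (W₂⁻¹ * W₂⁻¹)) * (A⁻¹ * (W₁⁻¹ * W₁⁻¹)) := by
            rw [e1 (W₂⁻¹ * W₂⁻¹) A⁻¹, e1 (W₁⁻¹ * W₁⁻¹) A⁻¹]
        _ = (A * (W₃ * W₃) * A⁻¹) * ((W₂⁻¹ * W₂⁻¹) * A⁻¹) * (W₁⁻¹ * W₁⁻¹) := by group
        _ = ((W₃ * W₃) * A * A⁻¹) * (A⁻¹ * (W₂⁻¹ * W₂⁻¹)) * (W₁⁻¹ * W₁⁻¹) := by
            rw [e1 A (W₃ * W₃), e1 (W₂⁻¹ * W₂⁻¹) A⁻¹]
        _ = ((W₃ * W₃) * A⁻¹) * (W₂⁻¹ * W₂⁻¹) * (W₁⁻¹ * W₁⁻¹) := by group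
        _ = (A⁻¹ * (W₃ * W₃)) * (W₂⁻¹ * W₂⁻¹) * (W₁⁻¹ * W₁⁻¹) := by rw [e1 (W₃ * W₃) A⁻¹]
        _ = A⁻¹ * W₃ * (W₃ * W₂⁻¹) * (W₂⁻¹ * W₁⁻¹) * W₁⁻¹ := by group
        _ = A⁻¹ * W₃ * (W₂⁻¹ * W₃) * (W₁⁻¹ * W₂⁻¹) * W₁⁻¹ := by rw [e1 W₃ W₂⁻¹, e1 W₂⁻¹ W₁⁻¹]
        _ = A⁻¹ * (W₃ * W₂⁻¹ * (W₃ * W₁⁻¹) * (W₂⁻¹ * W₁⁻¹)) := by group
        _ = A⁻¹ * (W₃ * W₂⁻¹ * (W₁⁻¹ * W₃) * (W₂⁻¹ * W₁⁻¹)) := by rw [e1 W₃ W₁⁻¹]
        _ = A⁻¹ * (W₃ * (W₂⁻¹ * W₁⁻¹) * (W₃ * (W₂⁻¹ * W₁⁻¹))) := by group
    have h6 := key ⟨a * a, haa⟩ ⟨w₁, hw₁⟩ ⟨w₂, hw₂⟩ ⟨w₃, hw₃⟩ ⟨k, hc⟩ (Subtype.ext (by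
      change k * (a * a * (w₁ * w₁)) * (a * a * (w₂ * w₂)) = a * a * (w₃ * w₃)
      exact h5))
    exact congrArg Subtype.val h6
  have hne : ∀ {x y : L}, (x : L ⧸ center L) ≠ y → (y : L ⧸ center L) * y = 1 → x * y ∉ Z := by
    intro x y hxy hy hmem
    rw [← mk_eq_one, QuotientGroup.mk_mul] at hmem
    apply hxy
    rw [eq_inv_of_mul_eq_one_left hmem]
    exact inv_eq_of_mul_eq_one_left hy
  have hcm : ∀ {x y : L}, (x : L ⧸ center L) * y = y * x → y * x * (x * y)⁻¹ ∈ Z := by
    intro x y hxy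
    rw [← mk_eq_one, QuotientGroup.mk_mul, QuotientGroup.mk_inv, QuotientGroup.mk_mul,
      QuotientGroup.mk_mul, hxy, mul_inv_cancel]
  have han : a ∉ Z := fun h' => h.r1 (mk_eq_one.2 h')
  have hbn : b ∉ Z := fun h' => h.s1 (mk_eq_one.2 h')
  have hdn : d ∉ Z := fun h' => h.t1 (mk_eq_one.2 h')
  -- the three commutators with `d`
  obtain ⟨v₁, hv₁, k1⟩ := hkap a d haa hdd han hdn (hcm h.rt) (hne h.hrt h.tt)
  obtain ⟨v₂, hv₂, k2⟩ := hkap b d hbb hdd hbn hdn (hcm h.st) (hne h.hst h.tt)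
  have habn : a * b ∉ Z := hne h.hrs h.ss
  have habab : a * b * (a * b) ∈ Z := by
    rw [← mk_eq_one, QuotientGroup.mk_mul, QuotientGroup.mk_mul]
    have h1 := h.rs
    calc (a : L ⧸ center L) * b * (a * b) = a * ((b : L ⧸ center L) * a) * b := by group
      _ = (a * a) * ((b : L ⧸ center L) * b) := by rw [← h1]; group
      _ = 1 := by rw [h.rr, h.ss, mul_one]
  have habd : ((a * b : L) : L ⧸ center L) * d = d * ((a * b : L) : L ⧸ center L) := by
    rw [QuotientGroup.mk_mul]
    calc (a : L ⧸ center L) * b * d = a * ((b : L ⧸ center L) * d) := by group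
      _ = (a * (d : L ⧸ center L)) * b := by rw [h.st]; group
      _ = d * ((a : L ⧸ center L) * b) := by rw [h.rt]; group
  have habdn : ((a * b : L) : L ⧸ center L) ≠ d := by
    rw [QuotientGroup.mk_mul]
    exact h.hrst
  obtain ⟨v₃, hv₃, k3⟩ := hkap (a * b) d habab hdd habn hdn (hcm habd) (hne habdn h.tt)
  have k4 : d * (a * b) * (a * b * d)⁻¹ = (d * a * (a * d)⁻¹) * (d * b * (b * d)⁻¹) := by
    have h1 : ∀ g, g * (d * b * (b * d)⁻¹) = (d * b * (b * d)⁻¹) * g := fun g => mem_center_iff.1 (hcm h.st) g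
    calc d * (a * b) * (a * b * d)⁻¹ = (d * a * (a * d)⁻¹) * (a * (d * b * (b * d)⁻¹)) * a⁻¹ := by group
      _ = (d * a * (a * d)⁻¹) * (d * b * (b * d)⁻¹) := by rw [h1]; group
  rw [k1, k2, k3] at k4
  have key2 : ∀ A V₁ V₂ V₃ : center L, A⁻¹ * (V₃ * V₃) = A⁻¹ * (V₁ * V₁) * (A⁻¹ * (V₂ * V₂)) →
      A = (V₁ * V₂ * V₃⁻¹) * (V₁ * V₂ * V₃⁻¹) := by
    intro A V₁ V₂ V₃ hA
    have e1 : ∀ x y : center L, x * y = y * x := fun x y => mul_comm' x y
    have h1 : V₃ * V₃ = (V₁ * V₁) * A⁻¹ * (V₂ * V₂) := by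
      have : A⁻¹ * (V₃ * V₃) = A⁻¹ * ((V₁ * V₁) * A⁻¹ * (V₂ * V₂)) := by rw [hA]; group
      exact mul_left_cancel this
    have h2 : A * (V₃ * V₃) = (V₁ * V₁) * (V₂ * V₂) := by
      rw [h1, e1 (V₁ * V₁) A⁻¹]; group
    have h3 : A = (V₁ * V₁) * (V₂ * V₂) * (V₃ * V₃)⁻¹ := by rw [← h2]; group
    calc A = (V₁ * V₁) * (V₂ * V₂) * (V₃ * V₃)⁻¹ := h3
      _ = V₁ * (V₁ * V₂) * (V₂ * V₃⁻¹) * V₃⁻¹ := by group
      _ = V₁ * (V₂ * V₁) * (V₃⁻¹ * V₂) * V₃⁻¹ := by rw [e1 V₁ V₂, e1 V₂ V₃⁻¹]
      _ = V₁ * V₂ * (V₁ * V₃⁻¹) * (V₂ * V₃⁻¹) := by group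
      _ = V₁ * V₂ * (V₃⁻¹ * V₁) * (V₂ * V₃⁻¹) := by rw [e1 V₁ V₃⁻¹]
      _ = _ := by group
  have k5 := key2 ⟨a * a, haa⟩ ⟨v₁, hv₁⟩ ⟨v₂, hv₂⟩ ⟨v₃, hv₃⟩ (Subtype.ext (by
    change (a * a)⁻¹ * (v₃ * v₃) = (a * a)⁻¹ * (v₁ * v₁) * ((a * a)⁻¹ * (v₂ * v₂))
    exact k4))
  have k6 : a * a = (v₁ * v₂ * v₃⁻¹) * (v₁ * v₂ * v₃⁻¹) := congrArg Subtype.val k5
  set v := v₁ * v₂ * v₃⁻¹ with hv
  have hvZ : v ∈ Z := (center L).mul_mem ((center L).mul_mem hv₁ hv₂) ((center L).inv_mem hv₃)
  have hvi : ∀ g, g * v⁻¹ = v⁻¹ * g := fun g => mem_center_iff.1 ((center L).inv_mem hvZ) g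
  refine ⟨a * v⁻¹, ?_, ?_⟩
  · calc a * v⁻¹ * (a * v⁻¹) = a * (v⁻¹ * a) * v⁻¹ := by group
      _ = a * a * (v * v)⁻¹ := by rw [← hvi]; group
      _ = 1 := by rw [k6, mul_inv_cancel]
  · intro h1
    apply han
    have h2 := (center L).mul_mem h1 hvZ
    rwa [inv_mul_cancel_right] at h2

end Lift

namespace Pair

variable {M : Type*} [Group M] [Finite M] {K : Subgroup M} {c : ℕ}

/-- **one class of involutions** -/
theorem false_of_oneClass (h : Pair M K c) (hcl : OneCl (K ⧸ center K))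
    (hcent : ∀ s : K ⧸ center K, s * s = 1 → s ≠ 1 → IsPGroup 2 (centralizer ({s} : Set (K ⧸ center K))))
    (hthree : ∃ r s t : K ⧸ center K, Three r s t)
    (hcard : Nat.card (center K) < 2 ^ nu (Nat.card (K ⧸ center K))) : False := by
  have : Fact (Nat.Prime 2) := ⟨Nat.prime_two⟩
  have := Zm_normal h.nrm
  have hn := h.nrm
  obtain ⟨r, s, t, h3⟩ := hthree
  have ho : orderOf r = 2 := orderOf_eq_prime (by rw [pow_two, h3.rr]) h3.r1
  have h2 : 2 ∣ Nat.card (K ⧸ center K) := by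
    rw [← ho]
    exact orderOf_dvd_natCard r
  have hsimple : IsSimpleGroup (K ⧸ center K) := h.qs.2
  -- real element of odd order
  have hO : ∀ N : Subgroup (K ⧸ center K), N.Normal → IsPGroup 2 N → r ∉ N := by
    intro N hN hN2 hr
    rcases hsimple.eq_bot_or_eq_top_of_normal N hN with h4 | h4
    · rw [h4, mem_bot] at hr
      exact h3.r1 hr
    · rw [h4] at hN2
      have h5 : IsPGroup 2 (K ⧸ center K) := hN2.of_equiv topEquiv
      have hnt : Nontrivial (K ⧸ center K) := ⟨r, 1, h3.r1⟩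
      have h6 := h5.bot_lt_center
      rcases hsimple.eq_bot_or_eq_top_of_normal (center (K ⧸ center K)) inferInstance with h7 | h7
      · exact absurd h7 h6.ne'
      · -- abelian and simple
        have hab : ∀ a b : K ⧸ center K, a * b = b * a := by
          intro a b
          have : a ∈ center (K ⧸ center K) := by rw [h7]; exact mem_top a
          exact (mem_center_iff.1 this b).symm
        have h8 : (zpowers r).Normal := by
          constructor
          intro n hn g
          rw [hab g n, mul_inv_cancel_right]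
          exact hn
        rcases hsimple.eq_bot_or_eq_top_of_normal (zpowers r) h8 with h9 | h9
        · rw [zpowers_eq_bot] at h9
          exact h3.r1 h9
        · have h10 : s ∈ zpowers r := by rw [h9]; exact mem_top s
          obtain ⟨k, hk⟩ := mem_zpowers_iff.1 h10
          rcases Int.even_or_odd k with ⟨m, hm⟩ | ⟨m, hm⟩
          · apply h3.s1
            rw [← hk, hm, ← two_mul, zpow_mul, zpow_two, h3.rr, one_zpow]
          · apply h3.hrs
            rw [← hk, hm, zpow_add, zpow_mul, zpow_one]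
            have : r ^ (2 : ℤ) = 1 := by rw [zpow_two, h3.rr]
            rw [this, one_zpow, one_mul]
  obtain ⟨q, hq1, hqo, hqr⟩ := Cfsg.Agent.S0200.result r ho hO
  obtain ⟨x, hxr, hxo, hx1, hxc⟩ := exists_real_odd h.z2 ⟨r, hqr⟩ hqo hq1
  -- the centralizer of `q` has odd order
  have hqodd : nu (Nat.card (centralizer ({q} : Set (K ⧸ center K)))) = 0 := by
    apply Nat.factorization_eq_zero_of_not_dvd
    intro h4
    obtain ⟨u, hu⟩ := exists_prime_orderOf_dvd_card' (G := centralizer ({q} : Set (K ⧸ center K))) 2 h4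
    have hu2 : (u : K ⧸ center K) * u = 1 := by
      have h5 : u ^ 2 = 1 := by rw [← hu, pow_orderOf_eq_one]
      have h6 := congrArg Subtype.val h5
      rw [coe_pow, pow_two] at h6
      exact h6
    have hu1 : (u : K ⧸ center K) ≠ 1 := by
      intro h5
      have h6 : u = 1 := Subtype.ext h5
      rw [h6, orderOf_one] at hu
      omega
    have h7 := hcent u hu2 hu1
    have h8 : q ∈ centralizer ({(u : K ⧸ center K)} : Set (K ⧸ center K)) := by
      rw [mem_cent]
      have h9 := mem_cent.1 u.2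
      rw [mul_inv_eq_iff_eq_mul] at h9 ⊢
      exact h9.symm
    exact hq1 (isPGroup_of_le_odd_eq_one h7 h8 hqo)
  have h4 := h.req_real hxr hxo hx1
  have h5 := nu_normal_cent (K := K) x
  have h6 := nu_card_quot (center K)
  -- a noncentral involution which is almost central in a Sylow 2-subgroup
  obtain ⟨P, hP2, hPc, y, hyK, hyZ, hyy, hyP⟩ := h.exists_y h2
  obtain ⟨y₀, hy₀, hy₀Z⟩ := exists_noncentral hcl h3
  have hex : ∃ y₁ ∈ K, y₁ * y₁ = 1 ∧ y₁ ∉ Zm K ∧ ∀ p ∈ P, ∃ w ∈ Zm K, p * y₁ * p⁻¹ = y₁ * w := by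
    have h7 : ((y₀ : K) : K ⧸ center K) * y₀ = 1 := by
      rw [← QuotientGroup.mk_mul, hy₀, QuotientGroup.mk_one]
    have h8 : ((y₀ : K) : K ⧸ center K) ≠ 1 := fun h' => hy₀Z (mk_eq_one.1 h')
    have h9 : (((⟨y, hyK⟩ : K)) : K ⧸ center K) * ((⟨y, hyK⟩ : K) : K ⧸ center K) = 1 := by
      rw [← QuotientGroup.mk_mul, mk_eq_one]
      exact (mem_Zm.1 hyy).2
    have h10 : (((⟨y, hyK⟩ : K)) : K ⧸ center K) ≠ 1 := fun h' => hyZ (mem_Zm.2 ⟨hyK, mk_eq_one.1 h'⟩)
    obtain ⟨g, hg⟩ := isConj_iff.1 (hcl _ _ h7 h8 h9 h10)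
    obtain ⟨g, rfl⟩ := QuotientGroup.mk_surjective g
    have h11 : (⟨y, hyK⟩ : K)⁻¹ * (g * y₀ * g⁻¹) ∈ center K := by
      rw [← QuotientGroup.eq, ← hg]
      rfl
    obtain ⟨w, hw, hyw⟩ : ∃ w ∈ Zm K, ((g * y₀ * g⁻¹ : K) : M) = y * w :=
      ⟨_, ⟨_, h11, rfl⟩, by
        change ((g * y₀ * g⁻¹ : K) : M) = y * (y⁻¹ * ((g * y₀ * g⁻¹ : K) : M))
        group⟩
    refine ⟨((g * y₀ * g⁻¹ : K) : M), (g * y₀ * g⁻¹).2, ?_, ?_, ?_⟩
    · have : (g * y₀ * g⁻¹) * (g * y₀ * g⁻¹) = 1 := by
        calc (g * y₀ * g⁻¹) * (g * y₀ * g⁻¹) = g * (y₀ * y₀) * g⁻¹ := by group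
          _ = 1 := by rw [hy₀]; group
      exact congrArg Subtype.val this
    · rw [hyw]
      intro h12
      apply hyZ
      have := (Zm K).mul_mem h12 ((Zm K).inv_mem hw)
      rwa [mul_inv_cancel_right] at this
    · intro p hp
      obtain ⟨w', hw', hpw⟩ := hyP p hp
      refine ⟨w' * (w⁻¹ * (p * w * p⁻¹)), (Zm K).mul_mem hw' ((Zm K).mul_mem ((Zm K).inv_mem hw)
        ((Zm_normal h.nrm).conj_mem w hw p)), ?_⟩
      rw [hyw]
      have h12 : w * w' = w' * w := by
        obtain ⟨hwK, hwc⟩ := mem_Zm.1 hw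
        exact (congrArg Subtype.val (mem_center_iff.1 hwc ⟨w', Zm_le hw'⟩)).symm
      calc p * (y * w) * p⁻¹ = (p * y * p⁻¹) * (p * w * p⁻¹) := by group
        _ = y * (w' * w) * (w⁻¹ * (p * w * p⁻¹)) := by rw [hpw]; group
        _ = y * w * (w' * (w⁻¹ * (p * w * p⁻¹))) := by rw [← h12]; group
  obtain ⟨y₁, hy₁K, hy₁y, hy₁Z, hy₁P⟩ := hex
  have hy₁n : ∃ k ∈ K, k * y₁ ≠ y₁ * k := by
    by_contra hcon
    push Not at hcon
    apply hy₁Z
    refine mem_Zm.2 ⟨hy₁K, ?_⟩
    rw [mem_center_iff]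
    intro k
    exact Subtype.ext (hcon k k.2)
  have h7 := h.req y₁ hy₁K (Real'.of_sq hy₁y) hy₁n
  -- `|P : C_P(y₁)| ≤ |Z|`
  let C : Subgroup P := (centralizer ({y₁} : Set M)).subgroupOf P
  have hidx : C.index ≤ Nat.card (center K) := by
    rw [← card_Zm (K := K)]
    let f : P ⧸ C → Zm K := Quotient.lift (fun p : P => (⟨y₁⁻¹ * ((p : M) * y₁ * (p : M)⁻¹), by
        obtain ⟨w, hw, hpw⟩ := hy₁P p p.2
        rw [hpw]
        simpa using hw⟩ : Zm K)) (by
      intro p p' hpp
      apply Subtype.ext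
      have h8 : p⁻¹ * p' ∈ C := QuotientGroup.leftRel_apply.1 hpp
      have h9 := mem_cent.1 (mem_subgroupOf.1 h8)
      change (((p⁻¹ * p' : P) : M)) * y₁ * (((p⁻¹ * p' : P) : M))⁻¹ = y₁ at h9
      change y₁⁻¹ * ((p : M) * y₁ * (p : M)⁻¹) = y₁⁻¹ * ((p' : M) * y₁ * (p' : M)⁻¹)
      rw [coe_mul, coe_inv] at h9
      congr 1
      calc (p : M) * y₁ * (p : M)⁻¹ = (p : M) * ((p : M)⁻¹ * p' * y₁ * ((p : M)⁻¹ * p')⁻¹) * (p : M)⁻¹ := by rw [h9]
        _ = _ := by group)
    apply Nat.card_le_card_of_injective f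
    intro a b hab
    induction a using QuotientGroup.induction_on with | H p => ?_
    induction b using QuotientGroup.induction_on with | H p' => ?_
    have h8 : y₁⁻¹ * ((p : M) * y₁ * (p : M)⁻¹) = y₁⁻¹ * ((p' : M) * y₁ * (p' : M)⁻¹) := congrArg Subtype.val hab
    rw [QuotientGroup.eq, mem_subgroupOf, mem_cent, coe_mul, coe_inv]
    have h9 := mul_left_cancel h8
    calc (p : M)⁻¹ * p' * y₁ * ((p : M)⁻¹ * p')⁻¹ = (p : M)⁻¹ * ((p' : M) * y₁ * (p' : M)⁻¹) * p := by group
      _ = y₁ := by rw [← h9]; group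
  have h8 := card_mul_index C
  have h9 : nu (Nat.card C) ≤ c := by
    have h10 : Nat.card C = Nat.card (C.map P.subtype) := (card_map_of_injective P.subtype_injective).symm
    rw [h10, ← h7]
    apply nu_card_le
    rintro _ ⟨p, hp, rfl⟩
    exact mem_subgroupOf.1 hp
  have hi0 : C.index ≠ 0 := index_ne_zero_of_finite
  have h10 : nu C.index < nu (Nat.card (K ⧸ center K)) := by
    have h11 : 2 ^ nu C.index ≤ C.index := Nat.le_of_dvd (Nat.pos_of_ne_zero hi0) (dvd_of_le_nu hi0 le_rfl)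
    exact (Nat.pow_lt_pow_iff_right (by norm_num : 1 < 2)).1 (by omega)
  have h11 := congrArg nu h8
  rw [nu_mul (card_ne _) hi0] at h11
  omega

end Pair

end Cfsg.Agent.H466.RT
end

-- part: H466/RT/QClass
section
prune_inst 0x3410670474221200080000100200066030000002004000002000010209490000800400003a10011000800080700c002002080000422800000a000000000405218000000080080000060009000000000000000000000000000000000000000000200000000
set_option linter.all false
open scoped Cfsg.Agent.FastGrp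

/-!
# `SL(2, 3)` in `U₆(2)`, `Sp₆(2)`, `Ω₈⁺(2)`
-/

set_option autoImplicit false

namespace Cfsg.Agent.H466.RT

open Subgroup Cfsg
open scoped Matrix

section Unitary

open Cfsg.Agent.R01.PSUSix Cfsg.Agent.SporadicStructure.UnitTwo Cfsg.Agent.LieClassical.HermBasic
open Cfsg.Agent.ClassicalGeometry.UnitAutBasic

theorem exists_omega {F : Type*} [Field F] [Fintype F] (hF : Fintype.card F = 4) : ∃ ω : F, ω ^ 2 + ω + 1 = 0 := by
  classical
  obtain ⟨a, ha⟩ : ∃ a : F, a ∉ ({0, 1} : Finset F) := by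
    by_contra hcon
    push Not at hcon
    have h1 : (Finset.univ : Finset F) ⊆ {0, 1} := fun x _ => hcon x
    have h2 := Finset.card_le_card h1
    rw [Finset.card_univ, hF] at h2
    have h3 := Finset.card_le_two (a := (0 : F)) (b := 1)
    omega
  simp only [Finset.mem_insert, Finset.mem_singleton, not_or] at ha
  refine ⟨a, ?_⟩
  have h1 := FiniteField.pow_card a
  rw [hF] at h1
  have h2 : a * ((a - 1) * (a ^ 2 + a + 1)) = 0 := by linear_combination h1
  rcases mul_eq_zero.1 h2 with h | h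
  · exact absurd h ha.1
  · rcases mul_eq_zero.1 h with h | h
    · exact absurd (by linear_combination h) ha.2
    · exact h

variable {F : Type*} [Field F] [Fintype F] {n : ℕ} (hF : Fintype.card F = 2 ^ 2)

include hF in
theorem tau_braid {v w : Fin n → F} (hv : hermForm n F 2 v v = 0) (hw : hermForm n F 2 w w = 0)
    (h : hermForm n F 2 v w * hermForm n F 2 w v = 1) :
    tau hF v * tau hF w * tau hF v = tau hF w * tau hF v * tau hF w := by
  rw [tau_conj_tau hF hv hw, tau_conj_tau hF hw hv]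
  set a := hermForm n F 2 v w with ha
  set b := hermForm n F 2 w v with hb
  have h2 := two_eq_zero hF
  have hb0 : b ≠ 0 := by
    rintro h0
    rw [h0, mul_zero] at h
    exact zero_ne_one h
  have h3 : w + b • v = b • (v + a • w) := by
    rw [smul_add, smul_smul, mul_comm b a, h, one_smul, add_comm]
  have h4 : hermForm n F 2 (v + a • w) (v + a • w) = 0 := by
    rw [herm_add_left, herm_add_right (by rw [hF]), herm_add_right (by rw [hF]), herm_smul_left, herm_smul_left,
      herm_smul_right, herm_smul_right, hv, hw, ← ha, ← hb]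
    have ha0 : a ≠ 0 := by
      rintro h0
      rw [h0, zero_mul] at h
      exact zero_ne_one h
    have ha3 : a ^ 3 = 1 := Cfsg.Agent.SporadicStructure.UnitTwo.pow_three hF ha0
    linear_combination ha3 + h + h2
  rw [h3, tau_smul hF h4 hb0]

theorem hasSL_u62 {F : Type*} [Field F] [Fintype F] (hF : Fintype.card F = 4) : HasSL (PSU 6 F 2) := by
  have hF' : Fintype.card F = 2 ^ 2 := by rw [hF]; norm_num
  have h2 := two_eq_zero hF'
  obtain ⟨ω, hω⟩ := exists_omega hF
  have h3 : ω ^ 3 = 1 := by linear_combination (ω - 1) * hω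
  let w : Fin 6 → F := ![1, 1, 0, 0, 0, 0]
  let x : Fin 6 → F := ![1, ω, 0, 0, 0, 0]
  let c : Fin 6 → F := ![1, 1, 1, 1, 0, 0]
  let y : Fin 6 → F := ![0, 0, 1, ω, 0, 0]
  let z : Fin 6 → F := ![0, 0, 1, ω, 1, 1]
  have hww : hermForm 6 F 2 w w = 0 := by simp only [herm_def, Fin.sum_univ_six, w, _root_.Fin.isValue, _root_.Matrix.cons_val_zero, _root_.one_pow, _root_.mul_one, _root_.Matrix.cons_val_one, _root_.Matrix.cons_val, _root_.ne_eq, _root_.OfNat.ofNat_ne_zero, _root_.not_false_eq_true, _root_.zero_pow, _root_.MulZeroClass.mul_zero, _root_.add_zero]; linear_combination h2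
  have hxx : hermForm 6 F 2 x x = 0 := by simp only [herm_def, Fin.sum_univ_six, x, _root_.Fin.isValue, _root_.Matrix.cons_val_zero, _root_.one_pow, _root_.mul_one, _root_.Matrix.cons_val_one, _root_.Matrix.cons_val, _root_.ne_eq, _root_.OfNat.ofNat_ne_zero, _root_.not_false_eq_true, _root_.zero_pow, _root_.MulZeroClass.mul_zero, _root_.add_zero]; linear_combination h2 + h3
  have hcc : hermForm 6 F 2 c c = 0 := by simp only [herm_def, Fin.sum_univ_six, c, _root_.Fin.isValue, _root_.Matrix.cons_val_zero, _root_.one_pow, _root_.mul_one, _root_.Matrix.cons_val_one, _root_.Matrix.cons_val, _root_.ne_eq, _root_.OfNat.ofNat_ne_zero, _root_.not_false_eq_true, _root_.zero_pow, _root_.MulZeroClass.mul_zero, _root_.add_zero]; linear_combination 2 * h2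
  have hyy : hermForm 6 F 2 y y = 0 := by simp only [herm_def, Fin.sum_univ_six, y, _root_.Fin.isValue, _root_.Matrix.cons_val_zero, _root_.ne_eq, _root_.OfNat.ofNat_ne_zero, _root_.not_false_eq_true, _root_.zero_pow, _root_.MulZeroClass.mul_zero, _root_.Matrix.cons_val_one, _root_.add_zero, _root_.Matrix.cons_val, _root_.one_pow, _root_.mul_one, _root_.zero_add]; linear_combination h2 + h3
  have hzz : hermForm 6 F 2 z z = 0 := by simp only [herm_def, Fin.sum_univ_six, z, _root_.Fin.isValue, _root_.Matrix.cons_val_zero, _root_.ne_eq, _root_.OfNat.ofNat_ne_zero, _root_.not_false_eq_true, _root_.zero_pow, _root_.MulZeroClass.mul_zero, _root_.Matrix.cons_val_one, _root_.add_zero, _root_.Matrix.cons_val, _root_.one_pow, _root_.mul_one, _root_.zero_add]; linear_combination 2 * h2 + h3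
  have hw0 : w ≠ 0 := fun h => by simpa [w] using congrFun h 0
  have hx0 : x ≠ 0 := fun h => by simpa [x] using congrFun h 0
  have hc0 : c ≠ 0 := fun h => by simpa [c] using congrFun h 0
  have hy0 : y ≠ 0 := fun h => by simpa [y] using congrFun h 2
  have hD : DFive (tau hF' w) (tau hF' x) (tau hF' c) (tau hF' y) (tau hF' z) := by
    refine ⟨tau_mul_self hF' hww, tau_mul_self hF' hxx, tau_mul_self hF' hcc, tau_mul_self hF' hyy,
      tau_mul_self hF' hzz, tau_braid hF' hww hxx ?_, tau_braid hF' hxx hcc ?_, tau_braid hF' hyy hcc ?_,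
      tau_braid hF' hzz hcc ?_, (tau_commute_iff hF' (by norm_num) hww hcc hw0).2 ?_,
      (tau_commute_iff hF' (by norm_num) hww hyy hw0).2 ?_, (tau_commute_iff hF' (by norm_num) hww hzz hw0).2 ?_,
      (tau_commute_iff hF' (by norm_num) hxx hyy hx0).2 ?_, (tau_commute_iff hF' (by norm_num) hxx hzz hx0).2 ?_,
      (tau_commute_iff hF' (by norm_num) hyy hzz hy0).2 ?_⟩
    · simp only [herm_def, Fin.sum_univ_six, w, x, _root_.Fin.isValue, _root_.Matrix.cons_val_zero, _root_.one_pow, _root_.mul_one, _root_.Matrix.cons_val_one, _root_.one_mul, _root_.Matrix.cons_val, _root_.ne_eq, _root_.OfNat.ofNat_ne_zero, _root_.not_false_eq_true, _root_.zero_pow, _root_.MulZeroClass.mul_zero, _root_.add_zero]; linear_combination hω + h3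
    · simp only [herm_def, Fin.sum_univ_six, c, x, _root_.Fin.isValue, _root_.Matrix.cons_val_zero, _root_.one_pow, _root_.mul_one, _root_.Matrix.cons_val_one, _root_.Matrix.cons_val, _root_.add_zero, _root_.ne_eq, _root_.OfNat.ofNat_ne_zero, _root_.not_false_eq_true, _root_.zero_pow, _root_.MulZeroClass.mul_zero, _root_.one_mul]; linear_combination hω + h3
    · simp only [herm_def, Fin.sum_univ_six, c, y, _root_.Fin.isValue, _root_.Matrix.cons_val_zero, _root_.one_pow, _root_.mul_one, _root_.Matrix.cons_val_one, _root_.add_zero, _root_.Matrix.cons_val, _root_.zero_add, _root_.ne_eq, _root_.OfNat.ofNat_ne_zero, _root_.not_false_eq_true, _root_.zero_pow, _root_.MulZeroClass.mul_zero, _root_.one_mul]; linear_combination hω + h3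
    · simp only [herm_def, Fin.sum_univ_six, c, z, _root_.Fin.isValue, _root_.Matrix.cons_val_zero, _root_.one_pow, _root_.mul_one, _root_.Matrix.cons_val_one, _root_.add_zero, _root_.Matrix.cons_val, _root_.zero_add, _root_.ne_eq, _root_.OfNat.ofNat_ne_zero, _root_.not_false_eq_true, _root_.zero_pow, _root_.MulZeroClass.mul_zero, _root_.one_mul]; linear_combination hω + h3
    · simp only [herm_def, Fin.sum_univ_six, c, w, _root_.Fin.isValue, _root_.Matrix.cons_val_zero, _root_.one_pow, _root_.mul_one, _root_.Matrix.cons_val_one, _root_.Matrix.cons_val, _root_.add_zero, _root_.ne_eq, _root_.OfNat.ofNat_ne_zero, _root_.not_false_eq_true, _root_.zero_pow, _root_.MulZeroClass.mul_zero]; linear_combination h2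
    · simp [herm_def, Fin.sum_univ_six, w, y]
    · simp [herm_def, Fin.sum_univ_six, w, z]
    · simp [herm_def, Fin.sum_univ_six, x, y]
    · simp [herm_def, Fin.sum_univ_six, x, z]
    · simp only [herm_def, Fin.sum_univ_six, y, z, _root_.Fin.isValue, _root_.Matrix.cons_val_zero, _root_.ne_eq, _root_.OfNat.ofNat_ne_zero, _root_.not_false_eq_true, _root_.zero_pow, _root_.MulZeroClass.mul_zero, _root_.Matrix.cons_val_one, _root_.add_zero, _root_.Matrix.cons_val, _root_.one_pow, _root_.mul_one, _root_.zero_add]; linear_combination h2 + h3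
  apply hD.hasSL
  intro he
  obtain ⟨k, -, hk⟩ := (tau_eq_iff hF' (by norm_num) hyy hzz hy0).1 he
  have h4 := congrFun hk 4
  simp [y, z] at h4

end Unitary

section Symplectic

open Cfsg.Agent.LieClassical.SympTransvection Matrix

variable {F : Type*} [Field F] {l : Type*} [Fintype l] [DecidableEq l]

theorem tvS_ext {A B : symplecticGroup l F} (h : ∀ x, A.1 *ᵥ x = B.1 *ᵥ x) : A = B := by
  apply Subtype.ext
  apply Matrix.toLin'.injective
  apply LinearMap.ext
  intro x
  rw [Matrix.toLin'_apply, Matrix.toLin'_apply]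
  exact h x

theorem tvS_sq (h2 : (2 : F) = 0) (u : l ⊕ l → F) : tvS 1 u * tvS 1 u = (1 : symplecticGroup l F) := by
  apply tvS_ext
  intro x
  change (tv 1 u * tv 1 u) *ᵥ x = (1 : Matrix (l ⊕ l) (l ⊕ l) F) *ᵥ x
  rw [← Matrix.mulVec_mulVec, tv_mulVec, tv_mulVec, Matrix.one_mulVec]
  funext i
  simp only [om_add_left, om_smul_left, om_self, one_mul, Pi.add_apply, Pi.smul_apply, smul_eq_mul, mul_zero,
    add_zero]
  linear_combination (om x u * u i) * h2

theorem tvS_comm {u v : l ⊕ l → F} (h : om u v = 0) : (tvS 1 u * tvS 1 v : symplecticGroup l F) = tvS 1 v * tvS 1 u := by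
  have h' : om v u = 0 := by rw [om_swap, h, neg_zero]
  apply tvS_ext
  intro x
  change (tv 1 u * tv 1 v) *ᵥ x = (tv 1 v * tv 1 u) *ᵥ x
  rw [← Matrix.mulVec_mulVec, ← Matrix.mulVec_mulVec, tv_mulVec, tv_mulVec, tv_mulVec, tv_mulVec]
  funext i
  simp only [om_add_left, om_smul_left, h, h', one_mul, Pi.add_apply, Pi.smul_apply, smul_eq_mul, mul_zero,
    add_zero]
  ring

theorem tvS_braid (h2 : (2 : F) = 0) {u v : l ⊕ l → F} (h : om u v = 1) :
    (tvS 1 u * tvS 1 v * tvS 1 u : symplecticGroup l F) = tvS 1 v * tvS 1 u * tvS 1 v := by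
  have h' : om v u = 1 := by rw [om_swap, h]; linear_combination -h2
  apply tvS_ext
  intro x
  change (tv 1 u * tv 1 v * tv 1 u) *ᵥ x = (tv 1 v * tv 1 u * tv 1 v) *ᵥ x
  simp only [← Matrix.mulVec_mulVec, tv_mulVec]
  funext i
  simp only [om_add_left, om_smul_left, om_self, h, h', one_mul, Pi.add_apply, Pi.smul_apply, smul_eq_mul, mul_zero,
    add_zero, mul_one]
  linear_combination (om x u * u i - om x v * v i) * h2

theorem hasSL_sp62 {F : Type*} [Field F] [Fintype F] (hF : Fintype.card F = 2) : HasSL (PSp 3 F) := by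
  have h2 : (2 : F) = 0 := by
    have := FiniteField.cast_card_eq_zero F
    rw [hF] at this
    exact_mod_cast this
  let w : Fin 3 ⊕ Fin 3 → F := Sum.elim ![1, 0, 0] ![0, 0, 0]
  let x : Fin 3 ⊕ Fin 3 → F := Sum.elim ![0, 0, 0] ![1, 0, 0]
  let c : Fin 3 ⊕ Fin 3 → F := Sum.elim ![1, 1, 0] ![0, 0, 0]
  let y : Fin 3 ⊕ Fin 3 → F := Sum.elim ![0, 0, 0] ![0, 1, 0]
  let z : Fin 3 ⊕ Fin 3 → F := Sum.elim ![0, 0, 1] ![0, 1, 0]
  have hD : DFive (tvS 1 w : symplecticGroup (Fin 3) F) (tvS 1 x) (tvS 1 c) (tvS 1 y) (tvS 1 z) := by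
    refine ⟨tvS_sq h2 _, tvS_sq h2 _, tvS_sq h2 _, tvS_sq h2 _, tvS_sq h2 _, tvS_braid h2 ?_, tvS_braid h2 ?_,
      tvS_braid h2 ?_, tvS_braid h2 ?_, tvS_comm ?_, tvS_comm ?_, tvS_comm ?_, tvS_comm ?_, tvS_comm ?_,
      tvS_comm ?_⟩
    · simp [om_eq_sum, Fin.sum_univ_three, w, x]; linear_combination -h2
    · simp [om_eq_sum, Fin.sum_univ_three, c, x]
    · simp [om_eq_sum, Fin.sum_univ_three, c, y]
    · simp [om_eq_sum, Fin.sum_univ_three, c, z]
    · simp [om_eq_sum, Fin.sum_univ_three, c, w]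
    · simp [om_eq_sum, Fin.sum_univ_three, w, y]
    · simp [om_eq_sum, Fin.sum_univ_three, w, z]
    · simp [om_eq_sum, Fin.sum_univ_three, x, y]
    · simp [om_eq_sum, Fin.sum_univ_three, x, z]
    · simp [om_eq_sum, Fin.sum_univ_three, y, z]
  apply hD.hasSL_center
  intro he
  let v : Fin 3 ⊕ Fin 3 → F := Sum.elim ![0, 0, 0] ![0, 0, 1]
  have h3 : tv 1 y *ᵥ v = tv 1 z *ᵥ v := (congrArg (fun A : symplecticGroup (Fin 3) F => A.1 *ᵥ v) he :)
  rw [tv_mulVec, tv_mulVec] at h3
  have h4 := congrFun h3 (.inl 2)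
  simp [om_eq_sum, Fin.sum_univ_three, y, z, v] at h4

end Symplectic

section Orthogonal

open Cfsg.Agent.SporadicStructure.OrthTransTwo Cfsg.Agent.S1629

variable {ι : Type} [Fintype ι] [DecidableEq ι] {Q : (ι → ZMod 2) → ZMod 2}
  {B : (ι → ZMod 2) → (ι → ZMod 2) → ZMod 2} (h : IsNdForm Q B)

theorem otau_sq {u : ι → ZMod 2} (hu : Q u = 1) : tau h u hu * tau h u hu = 1 := by
  have h2 : (2 : ZMod 2) = 0 := rfl
  apply act_ext
  intro x
  rw [act_mul, act_tau, act_tau, act_one]
  funext i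
  simp only [B_add_right h, B_smul_right h, B_self h, Pi.add_apply, Pi.smul_apply, smul_eq_mul, mul_zero, add_zero]
  linear_combination (B u x * u i) * h2

theorem otau_comm {u v : ι → ZMod 2} (hu : Q u = 1) (hv : Q v = 1) (huv : B u v = 0) :
    tau h u hu * tau h v hv = tau h v hv * tau h u hu := by
  have huv' : B v u = 0 := by rw [B_symm h, huv]
  apply act_ext
  intro x
  rw [act_mul, act_mul, act_tau, act_tau, act_tau, act_tau]
  funext i
  simp only [B_add_right h, B_smul_right h, huv, huv', Pi.add_apply, Pi.smul_apply, smul_eq_mul, mul_zero, add_zero]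
  ring

theorem otau_braid {u v : ι → ZMod 2} (hu : Q u = 1) (hv : Q v = 1) (huv : B u v = 1) :
    tau h u hu * tau h v hv * tau h u hu = tau h v hv * tau h u hu * tau h v hv := by
  have h2 : (2 : ZMod 2) = 0 := rfl
  have huv' : B v u = 1 := by rw [B_symm h, huv]
  apply act_ext
  intro x
  simp only [act_mul, act_tau]
  funext i
  simp only [B_add_right h, B_smul_right h, B_self h, huv, huv', Pi.add_apply, Pi.smul_apply, smul_eq_mul, mul_zero,
    add_zero, mul_one]
  linear_combination (B u x * u i - B v x * v i) * h2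

theorem hasSL_o8 {F : Type} [Field F] [Fintype F] (hF : Fintype.card F = 2) :
    HasSL (POmega F (quadFormPlus 4 F)) := by
  classical
  have hnd := isNdForm_plus 4
  have hch : CharP F 2 := by
    have h1 := FiniteField.cast_card_eq_zero F
    rw [hF] at h1
    exact CharTwo.of_one_ne_zero_of_two_eq_zero one_ne_zero (by exact_mod_cast h1)
  let φ : F ≃+* ZMod 2 := (ZMod.ringEquivOfPrime F Nat.prime_two hF).symm
  have hφ : ∀ v, φ (quadFormPlus 4 F v) = quadFormPlus 4 (ZMod 2) (φ ∘ v) := by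
    intro v
    simp [quadFormPlus, map_sum, map_mul]
  let e := Cfsg.Agent.ClassicalGeometry.IsoTransfer.isometryGroupCongr φ (quadFormPlus 4 F)
    (quadFormPlus 4 (ZMod 2)) hφ
  let w : Fin 4 ⊕ Fin 4 → ZMod 2 := Sum.elim ![0, 0, 0, 1] ![0, 0, 0, 1]
  let x : Fin 4 ⊕ Fin 4 → ZMod 2 := Sum.elim ![0, 0, 1, 0] ![0, 0, 1, 1]
  let c : Fin 4 ⊕ Fin 4 → ZMod 2 := Sum.elim ![0, 0, 0, 1] ![0, 1, 0, 1]
  let y : Fin 4 ⊕ Fin 4 → ZMod 2 := Sum.elim ![0, 1, 0, 0] ![0, 1, 0, 0]
  let z : Fin 4 ⊕ Fin 4 → ZMod 2 := Sum.elim ![0, 1, 0, 0] ![1, 1, 0, 0]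
  have hw : quadFormPlus 4 (ZMod 2) w = 1 := by decide
  have hx : quadFormPlus 4 (ZMod 2) x = 1 := by decide
  have hc : quadFormPlus 4 (ZMod 2) c = 1 := by decide
  have hy : quadFormPlus 4 (ZMod 2) y = 1 := by decide
  have hz : quadFormPlus 4 (ZMod 2) z = 1 := by decide
  have hD : DFive (tau hnd w hw) (tau hnd x hx) (tau hnd c hc) (tau hnd y hy) (tau hnd z hz) := by
    refine ⟨otau_sq _ _, otau_sq _ _, otau_sq _ _, otau_sq _ _, otau_sq _ _, otau_braid _ _ _ ?_,
      otau_braid _ _ _ ?_, otau_braid _ _ _ ?_, otau_braid _ _ _ ?_, otau_comm _ _ _ ?_, otau_comm _ _ _ ?_,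
      otau_comm _ _ _ ?_, otau_comm _ _ _ ?_, otau_comm _ _ _ ?_, otau_comm _ _ _ ?_⟩ <;> decide
  have hne : tau hnd y hy ≠ tau hnd z hz := by
    intro he
    have h1 := congrArg (fun g => act g (Sum.elim ![1, 0, 0, 0] ![0, 0, 0, 0])) he
    simp only [act_tau] at h1
    have h2 := congrFun h1 (.inl 1)
    revert h2
    decide
  have hE := hD.map e.symm.toMonoidHom
  have hbr : ∀ {a b : isometryGroup F (quadFormPlus 4 F)}, a * a = 1 → b * b = 1 → a * b * a = b * a * b →
      a * b ∈ Omega F (quadFormPlus 4 F) := fun ha hb hab => DFive.mem_commutator_of_braid ha hb hab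
  refine hE.hasSL_quot (fun h => hne (e.symm.injective h)) (N := Omega F (quadFormPlus 4 F))
    (hbr hE.xx hE.cc hE.xc) (hbr hE.yy hE.cc hE.yc) (hbr hE.zz hE.cc hE.zc) (hbr hE.ww hE.xx hE.wx)
    (QuotientGroup.mk' (center (Omega F (quadFormPlus 4 F)))) ?_
  intro g hg
  exact (QuotientGroup.eq_one_iff g).1 hg

end Orthogonal

end Cfsg.Agent.H466.RT

private theorem dce_7659589cf2de : _root_.True := by
  try have : _root_.True := by simp only [_root_.Cfsg.quadFormPlus.eq_1]
  try have : _root_.True := by simp only [_root_.Cfsg.Agent.LieClassical.SympTransvection.tv.congr_simp]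
  exact _root_.True.intro
end

-- part: H466/RT/QLie
section
set_option linter.all false
open scoped Cfsg.Agent.FastGrp

/-!
# Quaternion groups in `F₄(2)` and `G₂(4)`
-/

set_option autoImplicit false

namespace Cfsg.Agent.H466.RT

open Subgroup Cfsg Cfsg.Lie

section FFour

open Cfsg.Agent.FourTwo.Base

theorem hasQ_LL : HasQ LL := by
  refine ⟨wd [24, 46], wd [24, 26, 45], ?_, ?_, ?_⟩
  · rw [← wd_append, ← wd_append]
    exact wd_eq _ _ (by decide +kernel)
  · rw [← wd_append, ← wd_append, ← wd_append]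
    exact wd_eq _ _ (by decide +kernel)
  · rw [← wd_append]
    have h1 : wd ([24, 46] ++ [24, 46]) = wd [47] := wd_eq _ _ (by decide +kernel)
    rw [h1, wd_one]
    exact Cfsg.Agent.FourTwo.BN.x_ne_one (by norm_num)

theorem hasQ_F42 {F : Type} [Field F] [Fintype F] (hF : Fintype.card F = 2) : HasQ (chevF4.group F) :=
  HasQ.map (f := (Cfsg.Agent.ChevStructure.FieldMap.groupEquivOfRingEquiv chevF4
    (ZMod.ringEquivOfPrime F Nat.prime_two hF)).toMonoidHom) (MulEquiv.injective _) hasQ_LL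

end FFour

section GTwo

open Cfsg.Agent.ChevalleyStructure.G2N Cfsg.Agent.ChevalleyStructure.ReeVec

variable {F : Type*} [Field F]

theorem g2_ext {A B : Matrix chevG2.Idx chevG2.Idx F}
    (h : ∀ a b x0 x1 x2 x3 x4 x5 x6 x7 x8 x9 x10 x11 : F,
      A.mulVec (vec a b x0 x1 x2 x3 x4 x5 x6 x7 x8 x9 x10 x11) = B.mulVec (vec a b x0 x1 x2 x3 x4 x5 x6 x7 x8 x9 x10 x11)) :
    A = B := by
  apply Matrix.toLin'.injective
  apply LinearMap.ext
  intro v
  rw [Matrix.toLin'_apply, Matrix.toLin'_apply, vec_eta v]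
  exact h _ _ _ _ _ _ _ _ _ _ _ _ _ _

/-- the commutator relation of two long root elements in characteristic 2 -/
theorem comm_6_10 [CharP F 2] (s t : F) :
    (xG 6 s * xG 10 t : GL chevG2.Idx F) = xG 11 (s * t) * (xG 10 t * xG 6 s) := by
  apply Units.ext
  simp only [Units.val_mul, coe_xG]
  apply g2_ext
  intro a b x0 x1 x2 x3 x4 x5 x6 x7 x8 x9 x10 x11
  simp only [← Matrix.mulVec_mulVec, x6_vec, x10_vec, x11_vec]
  apply vec_congr <;> rw [← sub_eq_zero] <;> ring_nf <;> reduce_mod_char!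

theorem comm_6_11 [CharP F 2] (s t : F) : (xG 6 s * xG 11 t : GL chevG2.Idx F) = xG 11 t * xG 6 s := by
  apply Units.ext
  simp only [Units.val_mul, coe_xG]
  apply g2_ext
  intro a b x0 x1 x2 x3 x4 x5 x6 x7 x8 x9 x10 x11
  simp only [← Matrix.mulVec_mulVec, x6_vec, x11_vec]
  apply vec_congr <;> rw [← sub_eq_zero] <;> ring_nf <;> reduce_mod_char!

theorem comm_10_11 [CharP F 2] (s t : F) : (xG 10 s * xG 11 t : GL chevG2.Idx F) = xG 11 t * xG 10 s := by
  apply Units.ext
  simp only [Units.val_mul, coe_xG]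
  apply g2_ext
  intro a b x0 x1 x2 x3 x4 x5 x6 x7 x8 x9 x10 x11
  simp only [← Matrix.mulVec_mulVec, x10_vec, x11_vec]
  apply vec_congr <;> rw [← sub_eq_zero] <;> ring_nf <;> reduce_mod_char!

theorem xG11_ne : (xG 11 (1 : F) : GL chevG2.Idx F) ≠ 1 := by
  intro h
  have h1 : (chevG2.x F 11 1).mulVec (vec 0 0 1 0 0 0 0 0 0 0 0 0 0 0) = vec 0 0 1 0 0 0 0 0 0 0 0 0 0 0 := by
    rw [← coe_xG, h, Units.val_one, Matrix.one_mulVec]
  rw [x11_vec] at h1
  have h2 := (vec_inj h1).1
  simp at h2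

theorem xG_mem (r : ℕ) (hr : r < 12) (t : F) : (xG r t : GL chevG2.Idx F) ∈ chevG2.group F := by
  apply Subgroup.subset_closure
  refine ⟨⟨r, hr⟩, t, ?_⟩
  rw [coe_xG]
  exact dif_pos hr

theorem sq_xG [CharP F 2] (s t : F) :
    (xG 6 s * xG 10 t * (xG 6 s * xG 10 t) : GL chevG2.Idx F) = xG 11 (s * t) := by
  have h2 : ∀ u : F, u + u = 0 := fun u => CharTwo.add_self_eq_zero u
  have h3 : ∀ (r : ℕ) (u : F), (xG r u * xG r u : GL chevG2.Idx F) = 1 := fun r u => by
    rw [← xG_add, h2, xG_zero]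
  calc (xG 6 s * xG 10 t * (xG 6 s * xG 10 t) : GL chevG2.Idx F)
      = xG 6 s * xG 10 t * (xG 11 (s * t) * (xG 10 t * xG 6 s)) := by rw [comm_6_10]
    _ = xG 6 s * (xG 10 t * xG 11 (s * t)) * xG 10 t * xG 6 s := by simp only [mul_assoc]
    _ = (xG 6 s * xG 11 (s * t)) * (xG 10 t * xG 10 t) * xG 6 s := by
        rw [comm_10_11]; simp only [mul_assoc]
    _ = xG 11 (s * t) * (xG 6 s * xG 6 s) := by rw [h3, comm_6_11, mul_one, mul_assoc]
    _ = xG 11 (s * t) := by rw [h3, mul_one]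

theorem hasQ_G24 {F : Type} [Field F] [Fintype F] (hF : Fintype.card F = 4) : HasQ (chevG2.group F) := by
  obtain ⟨ω, hω⟩ := exists_omega hF
  have hch : CharP F 2 := by
    have h1 := FiniteField.cast_card_eq_zero F
    rw [hF] at h1
    have h2 : (2 : F) * 2 = 0 := by
      have : ((4 : ℕ) : F) = 2 * 2 := by norm_num
      rw [← this]
      exact h1
    exact CharTwo.of_one_ne_zero_of_two_eq_zero one_ne_zero (mul_self_eq_zero.1 h2)
  have h2 : (2 : F) = 0 := CharTwo.two_eq_zero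
  let i : chevG2.group F := ⟨xG 6 1 * xG 10 1, mul_mem (xG_mem 6 (by norm_num) _) (xG_mem 10 (by norm_num) _)⟩
  let j : chevG2.group F := ⟨xG 6 ω * xG 10 (ω ^ 2), mul_mem (xG_mem 6 (by norm_num) _) (xG_mem 10 (by norm_num) _)⟩
  have h3 : ω * ω ^ 2 = 1 := by linear_combination (ω - 1) * hω
  have hii : (xG 6 1 * xG 10 1 * (xG 6 1 * xG 10 1) : GL chevG2.Idx F) = xG 11 1 := by
    rw [sq_xG, one_mul]
  refine ⟨i, j, ?_, ?_, ?_⟩
  · apply Subtype.ext
    change (xG 6 1 * xG 10 1 * (xG 6 1 * xG 10 1) : GL chevG2.Idx F) =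
      xG 6 ω * xG 10 (ω ^ 2) * (xG 6 ω * xG 10 (ω ^ 2))
    rw [sq_xG, sq_xG, h3, one_mul]
  · apply Subtype.ext
    change (xG 6 1 * xG 10 1 * (xG 6 ω * xG 10 (ω ^ 2)) * (xG 6 1 * xG 10 1 * (xG 6 ω * xG 10 (ω ^ 2))) :
      GL chevG2.Idx F) = xG 6 1 * xG 10 1 * (xG 6 1 * xG 10 1)
    rw [hii]
    have hdd : ∀ u : F, u + u = 0 := fun u => CharTwo.add_self_eq_zero u
    have hsq : ∀ (r : ℕ) (u : F), (xG r u * xG r u : GL chevG2.Idx F) = 1 := fun r u => by
      rw [← xG_add, hdd, xG_zero]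
    have h4 : (xG 10 1 * xG 6 ω : GL chevG2.Idx F) = xG 11 ω * (xG 6 ω * xG 10 1) := by
      rw [comm_6_10, mul_one]
      calc (xG 10 1 * xG 6 ω : GL chevG2.Idx F) = (xG 11 ω * xG 11 ω) * (xG 10 1 * xG 6 ω) := by
            rw [hsq, one_mul]
        _ = _ := by simp only [mul_assoc]
    have h5 : (xG 6 1 * xG 10 1 * (xG 6 ω * xG 10 (ω ^ 2)) : GL chevG2.Idx F) =
        xG 11 ω * (xG 6 (1 + ω) * xG 10 (1 + ω ^ 2)) := by
      calc (xG 6 1 * xG 10 1 * (xG 6 ω * xG 10 (ω ^ 2)) : GL chevG2.Idx F)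
          = xG 6 1 * (xG 10 1 * xG 6 ω) * xG 10 (ω ^ 2) := by simp only [mul_assoc]
        _ = (xG 6 1 * xG 11 ω) * xG 6 ω * xG 10 1 * xG 10 (ω ^ 2) := by rw [h4]; simp only [mul_assoc]
        _ = xG 11 ω * (xG 6 (1 + ω) * xG 10 (1 + ω ^ 2)) := by
            rw [comm_6_11, xG_add, xG_add]; simp only [mul_assoc]
    have h6 : (xG 6 (1 + ω) * xG 10 (1 + ω ^ 2) * xG 11 ω : GL chevG2.Idx F) =
        xG 11 ω * (xG 6 (1 + ω) * xG 10 (1 + ω ^ 2)) := by
      rw [mul_assoc, comm_10_11, ← mul_assoc, comm_6_11, mul_assoc]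
    rw [h5]
    calc (xG 11 ω * (xG 6 (1 + ω) * xG 10 (1 + ω ^ 2)) * (xG 11 ω * (xG 6 (1 + ω) * xG 10 (1 + ω ^ 2))) :
          GL chevG2.Idx F)
        = xG 11 ω * (xG 6 (1 + ω) * xG 10 (1 + ω ^ 2) * xG 11 ω) * (xG 6 (1 + ω) * xG 10 (1 + ω ^ 2)) := by
          simp only [mul_assoc]
      _ = (xG 11 ω * xG 11 ω) * (xG 6 (1 + ω) * xG 10 (1 + ω ^ 2) * (xG 6 (1 + ω) * xG 10 (1 + ω ^ 2))) := by
          rw [h6]; simp only [mul_assoc]
      _ = xG 11 1 := by
          rw [hsq, one_mul, sq_xG]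
          congr 1
          linear_combination ω * hω
  · intro h
    exact xG11_ne (hii.symm.trans (congrArg Subtype.val h))

end GTwo

end Cfsg.Agent.H466.RT
end

-- part: H466/RT/CoxRel
section
set_option linter.all false
open scoped Cfsg.Agent.FastGrp

/-!
# Coxeter relations in presented groups
-/

set_option autoImplicit false

namespace Cfsg.Agent.H466.RT

open Subgroup Cfsg.Spor

section Basic

variable {α : Type*} [DecidableEq α] {edges : List (α × ℕ × α)} {extra : List (FreeGroup α)}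

/-- the generators -/
def gn (edges : List (α × ℕ × α)) (extra : List (FreeGroup α)) (x : α) : CoxPresented α edges extra :=
  PresentedGroup.of x

theorem gn_rel {x y : α} (hx : x ∈ coxNodes edges) (hy : y ∈ coxNodes edges) :
    (gn edges extra x * gn edges extra y) ^ coxLabel edges x y = 1 := by
  have h1 : ((FreeGroup.of x * FreeGroup.of y) ^ coxLabel edges x y : FreeGroup α) ∈
      coxRelators edges ∪ {r | r ∈ extra} := Or.inl ⟨x, hx, y, hy, rfl⟩
  have h2 := PresentedGroup.one_of_mem h1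
  rw [map_pow, map_mul] at h2
  exact h2

theorem gn_extra {r : FreeGroup α} (hr : r ∈ extra) :
    (PresentedGroup.mk (coxRelators edges ∪ {r | r ∈ extra}) r : CoxPresented α edges extra) = 1 :=
  PresentedGroup.one_of_mem (Or.inr hr)

theorem gn_sq {x : α} (hx : x ∈ coxNodes edges) : gn edges extra x * gn edges extra x = 1 := by
  have h1 := gn_rel (extra := extra) hx hx
  rwa [coxLabel, if_pos rfl, pow_one] at h1

theorem gn_comm {x y : α} (hx : x ∈ coxNodes edges) (hy : y ∈ coxNodes edges) (h : coxLabel edges x y = 2) :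
    gn edges extra x * gn edges extra y = gn edges extra y * gn edges extra x := by
  have h1 := gn_rel (extra := extra) hx hy
  rw [h, pow_two] at h1
  have h2 := eq_inv_of_mul_eq_one_left h1
  rw [mul_inv_rev, inv_eq_of_mul_eq_one_left (gn_sq (extra := extra) hx),
    inv_eq_of_mul_eq_one_left (gn_sq (extra := extra) hy)] at h2
  exact h2

theorem gn_braid {x y : α} (hx : x ∈ coxNodes edges) (hy : y ∈ coxNodes edges) (h : coxLabel edges x y = 3) :
    gn edges extra x * gn edges extra y * gn edges extra x =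
      gn edges extra y * gn edges extra x * gn edges extra y := by
  have h1 := gn_rel (extra := extra) hx hy
  have hx1 := inv_eq_of_mul_eq_one_left (gn_sq (extra := extra) hx)
  have hy1 := inv_eq_of_mul_eq_one_left (gn_sq (extra := extra) hy)
  set a := gn edges extra x
  set b := gn edges extra y
  rw [h, pow_succ, pow_two] at h1
  have h2 : a * b * a * (b * a * b) = 1 := by rw [← h1]; simp only [mul_assoc]
  have h3 := eq_inv_of_mul_eq_one_left h2
  rw [h3, mul_inv_rev, mul_inv_rev, hx1, hy1, mul_assoc]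

end Basic

section Step

variable {G : Type*} [Group G]

/-- `p` braids with `a` and commutes with `b = a`: then `p = a` -/
theorem eq_of_step {p a b : G} (hp : p * p = 1) (ha : a * a = 1) (hab : a = b) (h1 : p * a * p = a * p * a)
    (h2 : p * b = b * p) : p = a := by
  rw [← hab] at h2
  calc p = p * a * a := by rw [mul_assoc, ha, mul_one]
    _ = (a * p) * a := by rw [h2]
    _ = p * a * p := h1.symm
    _ = a * (p * p) := by rw [h2, mul_assoc]
    _ = a := by rw [hp, mul_one]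

/-- a group generated by the values of a constant family is commutative -/
theorem comm_of_const {ι : Type*} (t : ι → G) (hcl : closure (Set.range t) = ⊤) (s : G) (h : ∀ i, t i = s)
    (a b : G) : a * b = b * a := by
  have h1 : ∀ g : G, g ∈ zpowers s := by
    intro g
    have h2 : closure (Set.range t) ≤ zpowers s := by
      rw [closure_le]
      rintro _ ⟨i, rfl⟩
      rw [h i]
      exact mem_zpowers s
    rw [hcl] at h2
    exact h2 (mem_top g)
  obtain ⟨m, rfl⟩ := mem_zpowers_iff.1 (h1 a)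
  obtain ⟨n, rfl⟩ := mem_zpowers_iff.1 (h1 b)
  rw [← zpow_add, ← zpow_add, add_comm]

/-- `Q8` from commuting groups of order 8 and 4 -/
theorem isQ_of {f g u a : G} (hf : f * f = 1) (hfg : f * g * (f * g) = a) (hg : g * g = 1) (hu : u * u = a)
    (huf : u * f = f * u) (hug : u * g = g * u) (ha : a ≠ 1) : IsQ (f * g) (f * u) := by
  refine ⟨?_, ?_, ?_⟩
  · calc f * g * (f * g) = u * u := by rw [hfg, hu]
      _ = f * f * (u * u) := by rw [hf, one_mul]
      _ = f * u * (f * u) := by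
        calc f * f * (u * u) = f * (f * u) * u := by simp only [mul_assoc]
          _ = f * (u * f) * u := by rw [huf]
          _ = f * u * (f * u) := by simp only [mul_assoc]
  · have h1 : f * g * (f * u) = u * (f * g * f) := by
      calc f * g * (f * u) = f * g * (u * f) := by rw [huf]
        _ = f * (g * u) * f := by simp only [mul_assoc]
        _ = (f * u) * g * f := by rw [← hug]; simp only [mul_assoc]
        _ = u * (f * g * f) := by rw [← huf]; simp only [mul_assoc]
    have h2 : u * (f * g * f) = f * g * f * u := by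
      calc u * (f * g * f) = f * g * (f * u) := h1.symm
        _ = f * g * f * u := by simp only [mul_assoc]
    have h3 : f * g * f * (f * g * f) = 1 := by
      calc f * g * f * (f * g * f) = f * (g * (f * f) * g) * f := by simp only [mul_assoc]
        _ = 1 := by rw [hf, mul_one, hg, mul_one, hf]
    calc f * g * (f * u) * (f * g * (f * u)) = u * (f * g * f) * (f * g * f * u) := by rw [h1, h2]
      _ = u * (f * g * f * (f * g * f)) * u := by simp only [mul_assoc]
      _ = f * g * (f * g) := by rw [h3, mul_one, hu, hfg]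
  · rw [hfg]
    exact ha

end Step

end Cfsg.Agent.H466.RT

private theorem dce_406feed73728 : _root_.True := by
  try have : _root_.True := by simp only [_root_.Cfsg.Spor.coxLabel.eq_1]
  exact _root_.True.intro
end

-- part: OddHalf/U2/Mul
section
prune_inst 0x4300600582212000000001000002444580001000063000151400d06010e1300050006004c801d00180a02000000002002180010421000000a00000000040401802a50049208a104260009803007180c00000000000000000000000000041004200000000
set_option linter.all false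
open scoped Cfsg.Agent.FastGrp

/-!
# Perfect central extensions by 2-groups: Sylow 2-subgroup dihedral, or elementary abelian

`K` finite and perfect, `f : K → X` surjective with central kernel, a 2-group.

* `mem_commutator`: the kernel lies in the derived subgroup of the preimage of a Sylow 2-subgroup of `X`;
* `dih_cyclic`, `dih_inv`: if a Sylow 2-subgroup of `X` is dihedral (or a four-group) then the kernel is cyclic, and if
  moreover the involutions of `X` are conjugate and the kernel is nontrivial, then all involutions of `K` lie in it;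
* `elem_ker`: if a Sylow 2-subgroup of `X` is elementary abelian of order at least 8 and the involutions of `X` are
  conjugate then the kernel is trivial.
-/

set_option autoImplicit false

namespace Cfsg.Agent.OddHalf.U2.Mul

open Subgroup Cfsg.Agent.GH.L2Aut
open scoped commutatorElement

variable {K : Type*} [Group K] [Finite K] {X : Type*} [Group X]

/-- Transfer: a central 2-element of a perfect group lies in the derived subgroup of every subgroup of odd index. -/
theorem mem_commutator_of_central (hK : commutator K = ⊤) (P : Subgroup K) (hP : ¬ 2 ∣ P.index) {z : K}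
    (hz : ∀ g, g * z = z * g) {n : ℕ} (hn : z ^ 2 ^ n = 1) : z ∈ ⁅P, P⁆ := by
  have h0 : P.FiniteIndex := inferInstance
  have key : ∀ (k : ℕ) (g₀ : K), g₀⁻¹ * z ^ k * g₀ ∈ P → g₀⁻¹ * z ^ k * g₀ = z ^ k := by
    intro k g₀ _
    have h1 : z ^ k * g₀ = g₀ * z ^ k := (Commute.pow_left (hz g₀).symm k : _)
    rw [mul_assoc, h1, inv_mul_cancel_left]
  have h1 := MonoidHom.transfer_eq_pow (Abelianization.of : ↥P →* Abelianization ↥P) z key
  have h2 : MonoidHom.transfer (Abelianization.of : ↥P →* Abelianization ↥P) z = 1 := by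
    have h3 : commutator K ≤ (MonoidHom.transfer (Abelianization.of : ↥P →* Abelianization ↥P)).ker :=
      Abelianization.commutator_subset_ker _
    have h4 : z ∈ commutator K := hK ▸ mem_top z
    exact MonoidHom.mem_ker.mp (h3 h4)
  rw [h2] at h1
  have h3 : (⟨z ^ P.index, MonoidHom.transfer_eq_pow_aux z key⟩ : ↥P) ∈ commutator ↥P := by
    rw [← Abelianization.ker_of]
    exact h1.symm
  have h4 : z ^ P.index ∈ ⁅P, P⁆ := by
    have h5 := Subgroup.mem_map_of_mem P.subtype h3
    rw [commutator_def, Subgroup.map_commutator, ← MonoidHom.range_eq_map, range_subtype] at h5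
    exact h5
  -- the index is odd
  have hcop : Nat.Coprime P.index (2 ^ n) :=
    Nat.Coprime.pow_right n ((Nat.Prime.coprime_iff_not_dvd Nat.prime_two).2 hP).symm
  have hord : orderOf z ∣ 2 ^ n := orderOf_dvd_of_pow_eq_one hn
  have hc2 : Nat.Coprime (orderOf z) P.index := (hcop.coprime_dvd_right hord).symm
  obtain ⟨m, hm⟩ := exists_pow_eq_self_of_coprime hc2.symm
  rw [← hm]
  exact pow_mem h4 m

section Ext

variable (hK : commutator K = ⊤) (f : K →* X) (hf : Function.Surjective f)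
  (hc : ∀ z, f z = 1 → ∀ g, g * z = z * g) (h2 : IsPGroup 2 f.ker)

include hK hf hc h2

theorem mem_commutator (S : Sylow 2 X) {z : K} (hz : f z = 1) :
    z ∈ ⁅(S : Subgroup X).comap f, (S : Subgroup X).comap f⁆ := by
  have : Finite X := Finite.of_surjective f hf
  obtain ⟨n, hn⟩ := h2 ⟨z, MonoidHom.mem_ker.mpr hz⟩
  refine mem_commutator_of_central hK _ ?_ (hc z hz) (n := n) (congrArg Subtype.val hn)
  rw [Subgroup.index_comap_of_surjective _ hf]
  exact S.not_dvd_index

set_option linter.unusedSectionVars false in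
/-- A Sylow 2-subgroup of `X` is elementary abelian of order at least 8 and the involutions are conjugate: the kernel
is trivial. -/
theorem elem_ker {S : Sylow 2 X} (hS : ∀ s ∈ (S : Subgroup X), s * s = 1) (h8 : 8 ≤ Nat.card ↥(S : Subgroup X))
    (hconj : ∀ s t : X, s * s = 1 → s ≠ 1 → t * t = 1 → t ≠ 1 → ∃ g : X, g * s * g⁻¹ = t) :
    ∀ z, f z = 1 → z = 1 := by
  classical
  have : Finite X := Finite.of_surjective f hf
  have pick : ∀ T : Finset X, T.card < 8 → ∃ s ∈ (S : Subgroup X), s ∉ T := by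
    intro T hT
    by_contra hcon
    push Not at hcon
    have h1 : Nat.card ↥(S : Subgroup X) ≤ Nat.card ↥T :=
      Nat.card_le_card_of_injective (fun s : ↥(S : Subgroup X) => (⟨s, hcon s s.2⟩ : ↥T)) (by
        intro s t hst
        exact Subtype.ext (congrArg (fun x : ↥T => (x : X)) hst))
    have h3 : Nat.card ↥T = T.card := by rw [Nat.card_eq_fintype_card, Fintype.card_coe]
    omega
  obtain ⟨a', haS, ha⟩ := pick {1} (by simp)
  obtain ⟨b', hbS, hb⟩ := pick {1, a'} (by
    calc _ ≤ 2 := Finset.card_le_two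
      _ < 8 := by norm_num)
  obtain ⟨c', hcS, hcc⟩ := pick {1, a', b', a' * b'} (by
    calc _ ≤ 4 := Finset.card_le_four
      _ < 8 := by norm_num)
  simp only [Finset.mem_insert, Finset.mem_singleton, not_or] at ha hb hcc
  obtain ⟨hc1, hca, hcb, hcab⟩ := hcc
  obtain ⟨a, rfl⟩ := hf a'
  obtain ⟨b, rfl⟩ := hf b'
  obtain ⟨c, rfl⟩ := hf c'
  -- squares of elements outside the kernel
  set e := a * a with he
  have hae : f e = 1 := by rw [he, map_mul, hS _ haS]
  have hZ := hc
  have sq : ∀ x, f x ≠ 1 → f x * f x = 1 → ∃ w, f w = 1 ∧ x * x = e * (w * w) := by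
    intro x hx hx2
    obtain ⟨g, hg⟩ := hconj (f a) (f x) (hS _ haS) ha hx2 hx
    obtain ⟨g', rfl⟩ := hf g
    refine ⟨(g' * a * g'⁻¹)⁻¹ * x, ?_, ?_⟩
    · rw [map_mul, map_inv, map_mul, map_mul, map_inv, hg, inv_mul_cancel]
    · set w := (g' * a * g'⁻¹)⁻¹ * x with hw
      have hw1 : f w = 1 := by rw [hw, map_mul, map_inv, map_mul, map_mul, map_inv, hg, inv_mul_cancel]
      have hx' : x = g' * a * g'⁻¹ * w := by rw [hw]; group
      have h1 : w * (g' * a * g'⁻¹) = g' * a * g'⁻¹ * w := ((hZ w hw1) _).symm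
      calc x * x = g' * a * g'⁻¹ * (w * (g' * a * g'⁻¹)) * w := by rw [hx']; group
        _ = g' * e * g'⁻¹ * (w * w) := by rw [h1, he]; group
        _ = e * (w * w) := by rw [hZ e hae, mul_inv_cancel_right]
  -- commutators
  have comm : ∀ x y : K, f x ≠ 1 → f y ≠ 1 → f x * f y ≠ 1 → f x * f x = 1 → f y * f y = 1 →
      f x * f y * (f x * f y) = 1 → ∃ w, f w = 1 ∧ ⁅y, x⁆ = e⁻¹ * (w * w) := by
    intro x y hx hy hxy hx2 hy2 hxy2
    obtain ⟨w1, h1, h1'⟩ := sq x hx hx2
    obtain ⟨w2, h2', h2''⟩ := sq y hy hy2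
    obtain ⟨w3, h3, h3'⟩ := sq (x * y) (by rwa [map_mul]) (by rwa [map_mul])
    -- `⁅y,x⁆` is in the kernel
    have hk : f ⁅y, x⁆ = 1 := by
      have h4 : f y * f x = f x * f y := by
        have h5 : f x * f y = (f x * f y)⁻¹ := (inv_eq_of_mul_eq_one_left hxy2).symm
        rw [h5, mul_inv_rev, inv_eq_of_mul_eq_one_left hx2, inv_eq_of_mul_eq_one_left hy2]
      rw [map_commutatorElement, commutatorElement_eq_one_iff_mul_comm, h4]
    have hkc := hZ _ hk
    have h5 : x * y * (x * y) = ⁅y, x⁆ * (x * x) * (y * y) := by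
      have h6 : y * x = ⁅y, x⁆ * (x * y) := by rw [commutatorElement_def]; group
      calc x * y * (x * y) = x * (y * x) * y := by group
        _ = x * ⁅y, x⁆ * (x * y) * y := by rw [h6]; group
        _ = ⁅y, x⁆ * x * (x * y) * y := by rw [hkc x]
        _ = _ := by group
    have w12 : w1 * w2 = w2 * w1 := (hZ w1 h1 w2).symm
    have w13 : w1 * w3 = w3 * w1 := (hZ w1 h1 w3).symm
    have w23 : w2 * w3 = w3 * w2 := (hZ w2 h2' w3).symm
    refine ⟨w3 * w1⁻¹ * w2⁻¹, by rw [map_mul, map_mul, map_inv, map_inv, h1, h2', h3]; group, ?_⟩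
    have h7 : ⁅y, x⁆ = x * y * (x * y) * (y * y)⁻¹ * (x * x)⁻¹ := by rw [h5]; group
    rw [h7, h3', h1', h2'']
    have ce : ∀ g, g * e = e * g := hZ e hae
    have E1 : Commute e w1 := (ce w1).symm
    have E2 : Commute e w2 := (ce w2).symm
    have E3 : Commute e w3 := (ce w3).symm
    have C12 : Commute w1 w2 := w12
    have C13 : Commute w1 w3 := w13
    have C23 : Commute w2 w3 := w23
    have h8 : w3 * w1⁻¹ * w2⁻¹ * (w3 * w1⁻¹ * w2⁻¹) = (w3 * w3) * (w1 * w1)⁻¹ * (w2 * w2)⁻¹ := by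
      have a1 : Commute (w1⁻¹ * w2⁻¹) w3 := (C13.inv_left).mul_left (C23.inv_left)
      have a2 : Commute (w2⁻¹) (w1⁻¹) := C12.symm.inv_inv
      calc w3 * w1⁻¹ * w2⁻¹ * (w3 * w1⁻¹ * w2⁻¹) = w3 * ((w1⁻¹ * w2⁻¹) * w3) * (w1⁻¹ * w2⁻¹) := by group
        _ = w3 * w3 * (w1⁻¹ * (w2⁻¹ * w1⁻¹) * w2⁻¹) := by rw [a1.eq]; group
        _ = w3 * w3 * (w1⁻¹ * (w1⁻¹ * w2⁻¹) * w2⁻¹) := by rw [a2.eq]
        _ = _ := by group
    rw [h8]
    have b1 : Commute (w3 * w3) e := (E3.mul_right E3).symm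
    have b2 : Commute ((w2 * w2)⁻¹) e⁻¹ := ((E2.mul_right E2).symm.inv_inv)
    have b3 : Commute ((w2 * w2)⁻¹) ((w1 * w1)⁻¹) :=
      ((C12.symm.mul_right C12.symm).mul_left (C12.symm.mul_right C12.symm)).inv_inv
    have b4 : Commute ((w3 * w3) * (w2 * w2)⁻¹) e⁻¹ := (b1.inv_right).mul_left b2
    have b5 : Commute ((w1 * w1)⁻¹) e⁻¹ := ((E1.mul_right E1).symm.inv_inv)
    calc e * (w3 * w3) * (e * (w2 * w2))⁻¹ * (e * (w1 * w1))⁻¹
        = (e * (w3 * w3) * (w2 * w2)⁻¹ * e⁻¹) * ((w1 * w1)⁻¹ * e⁻¹) := by group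
      _ = (e * ((w3 * w3) * (w2 * w2)⁻¹) * e⁻¹) * ((w1 * w1)⁻¹ * e⁻¹) := by group
      _ = (w3 * w3) * (w2 * w2)⁻¹ * ((w1 * w1)⁻¹ * e⁻¹) := by
          rw [mul_assoc e, b4.eq, mul_inv_cancel_left]
      _ = (w3 * w3) * ((w2 * w2)⁻¹ * (w1 * w1)⁻¹) * e⁻¹ := by group
      _ = ((w3 * w3) * (w1 * w1)⁻¹ * (w2 * w2)⁻¹) * e⁻¹ := by rw [b3.eq]; group
      _ = e⁻¹ * ((w3 * w3) * (w1 * w1)⁻¹ * (w2 * w2)⁻¹) := by
          have b6 : Commute ((w3 * w3) * (w1 * w1)⁻¹ * (w2 * w2)⁻¹) e⁻¹ :=
            ((b1.inv_right).mul_left b5).mul_left b2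
          exact b6.eq
  -- `e` is a square
  have hS2 : ∀ x y : X, x ∈ (S : Subgroup X) → y ∈ (S : Subgroup X) → x * y * (x * y) = 1 :=
    fun x y hx hy => hS _ (mul_mem hx hy)
  have inv' : ∀ x : X, x ∈ (S : Subgroup X) → x⁻¹ = x := fun x hx => inv_eq_of_mul_eq_one_left (hS x hx)
  have hab1 : f a * f b ≠ 1 := fun h => hb.2 (by rw [← inv_eq_of_mul_eq_one_right h, inv' _ haS])
  have hac1 : f a * f c ≠ 1 := fun h => hca (by rw [← inv_eq_of_mul_eq_one_right h, inv' _ haS])
  have hbc1 : f b * f c ≠ 1 := fun h => hcb (by rw [← inv_eq_of_mul_eq_one_right h, inv' _ hbS])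
  have habc1 : f a * (f b * f c) ≠ 1 := fun h => hcab (by
    rw [← mul_assoc] at h
    rw [← inv_eq_of_mul_eq_one_right h, inv' _ (mul_mem haS hbS)])
  obtain ⟨u1, hu1, hu1'⟩ := comm a b ha hb.1 hab1 (hS _ haS) (hS _ hbS) (hS2 _ _ haS hbS)
  obtain ⟨u2, hu2, hu2'⟩ := comm a c ha hc1 hac1 (hS _ haS) (hS _ hcS) (hS2 _ _ haS hcS)
  obtain ⟨u3, hu3, hu3'⟩ := comm a (b * c) ha (by rwa [map_mul]) (by rwa [map_mul])
    (hS _ haS) (by rw [map_mul]; exact hS2 _ _ hbS hcS)
    (by rw [map_mul]; exact hS2 _ _ haS (mul_mem hbS hcS))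
  have hkca : ∀ g, g * ⁅c, a⁆ = ⁅c, a⁆ * g := by
    rw [hu2']
    exact hZ _ (by rw [map_mul, map_inv, hae, map_mul, hu2]; group)
  have h9 : ⁅b * c, a⁆ = ⁅b, a⁆ * ⁅c, a⁆ := by
    calc ⁅b * c, a⁆ = b * ⁅c, a⁆ * (a * b⁻¹ * a⁻¹) := by
          rw [commutatorElement_def, commutatorElement_def]; group
      _ = ⁅c, a⁆ * ⁅b, a⁆ := by rw [hkca b, commutatorElement_def b a]; group
      _ = ⁅b, a⁆ * ⁅c, a⁆ := (hkca _).symm
  rw [hu3', hu1', hu2'] at h9
  -- `e = w * w` with `w` in the kernel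
  obtain ⟨w, hw, hew⟩ : ∃ w, f w = 1 ∧ e = w * w := by
    refine ⟨u1 * u2 * u3⁻¹, by rw [map_mul, map_mul, map_inv, hu1, hu2, hu3]; group, ?_⟩
    have E1 : Commute e u1 := (hZ e hae u1).symm
    have E2 : Commute e u2 := (hZ e hae u2).symm
    have C12 : Commute u1 u2 := (hZ u1 hu1 u2).symm
    have C13 : Commute u1 u3 := (hZ u1 hu1 u3).symm
    have C23 : Commute u2 u3 := (hZ u2 hu2 u3).symm
    have h10 : e * (u3 * u3) = (u1 * u1) * (u2 * u2) := by
      have h11 : e * (e * (e⁻¹ * (u3 * u3))) = e * (e * (e⁻¹ * (u1 * u1) * (e⁻¹ * (u2 * u2)))) := by rw [h9]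
      have h12 : e * (e * (e⁻¹ * (u3 * u3))) = e * (u3 * u3) := by group
      have h13 : e * (e * (e⁻¹ * (u1 * u1) * (e⁻¹ * (u2 * u2)))) = (u1 * u1) * (u2 * u2) := by
        have : (u1 * u1) * e⁻¹ = e⁻¹ * (u1 * u1) := ((E1.mul_right E1).symm.inv_right).eq
        calc _ = e * ((u1 * u1) * e⁻¹) * (u2 * u2) := by group
          _ = _ := by rw [this]; group
      rw [h12, h13] at h11
      exact h11
    have h14 : e = (u1 * u1) * (u2 * u2) * (u3 * u3)⁻¹ := by rw [← h10]; group
    rw [h14]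
    have a1 : Commute (u3⁻¹) (u1 * u2) := ((C13.symm.inv_left).mul_right (C23.symm.inv_left))
    calc u1 * u1 * (u2 * u2) * (u3 * u3)⁻¹ = u1 * (u1 * u2) * u2 * (u3⁻¹ * u3⁻¹) := by group
      _ = u1 * (u2 * u1) * u2 * (u3⁻¹ * u3⁻¹) := by rw [C12.eq]
      _ = (u1 * u2) * ((u1 * u2) * u3⁻¹) * u3⁻¹ := by group
      _ = (u1 * u2) * (u3⁻¹ * (u1 * u2)) * u3⁻¹ := by rw [a1.eq]
      _ = u1 * u2 * u3⁻¹ * (u1 * u2 * u3⁻¹) := by group
  -- the squares of the kernel
  let Q : Subgroup K :=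
    { carrier := {z | ∃ w, f w = 1 ∧ z = w * w}
      one_mem' := ⟨1, map_one f, by group⟩
      mul_mem' := by
        rintro _ _ ⟨w1, h1, rfl⟩ ⟨w2, h2, rfl⟩
        refine ⟨w1 * w2, by rw [map_mul, h1, h2, one_mul], ?_⟩
        have : w1 * w2 = w2 * w1 := hZ w2 h2 w1
        calc w1 * w1 * (w2 * w2) = w1 * (w1 * w2) * w2 := by group
          _ = w1 * (w2 * w1) * w2 := by rw [this]
          _ = _ := by group
      inv_mem' := by
        rintro _ ⟨w1, h1, rfl⟩
        exact ⟨w1⁻¹, by rw [map_inv, h1, inv_one], by group⟩ }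
  have heQ : e ∈ Q := ⟨w, hw, hew⟩
  have hPQ : ⁅(S : Subgroup X).comap f, (S : Subgroup X).comap f⁆ ≤ Q := by
    rw [Subgroup.commutator_le]
    intro y hy x hx
    have hy' : f y ∈ (S : Subgroup X) := hy
    have hx' : f x ∈ (S : Subgroup X) := hx
    by_cases h1 : f x = 1
    · rw [commutatorElement_eq_one_iff_mul_comm.mpr (hZ x h1 y)]
      exact one_mem _
    by_cases h2 : f y = 1
    · rw [commutatorElement_eq_one_iff_mul_comm.mpr (hZ y h2 x).symm]
      exact one_mem _
    by_cases h3 : f x * f y = 1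
    · have h4 : f (x * y) = 1 := by rw [map_mul, h3]
      have h5 := hZ _ h4 x
      have h6 : y * x = x * y := by
        have h7 : x * (x * y) = x * (y * x) := by rw [h5]; group
        exact (mul_left_cancel h7).symm
      rw [commutatorElement_eq_one_iff_mul_comm.mpr h6]
      exact one_mem _
    obtain ⟨w', hw', h⟩ := comm x y h1 h2 h3 (hS _ hx') (hS _ hy') (hS2 _ _ hx' hy')
    rw [h]
    exact mul_mem (inv_mem heQ) ⟨w', hw', rfl⟩
  -- squaring is surjective on the kernel
  have hsurj : Function.Surjective (fun z : f.ker => z * z) := by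
    rintro ⟨z, hz⟩
    obtain ⟨w', hw', h⟩ := hPQ (mem_commutator hK f hf hc h2 S (MonoidHom.mem_ker.mp hz))
    exact ⟨⟨w', MonoidHom.mem_ker.mpr hw'⟩, Subtype.ext h.symm⟩
  have hinj := Finite.injective_iff_surjective.mpr hsurj
  intro z hz
  obtain ⟨n, hn⟩ := h2 ⟨z, MonoidHom.mem_ker.mpr hz⟩
  have key : ∀ n : ℕ, ∀ z : f.ker, z ^ 2 ^ n = 1 → z = 1 := by
    intro n
    induction n with
    | zero => intro z h; simpa using h
    | succ n ih =>
      intro z h
      apply ih
      apply hinj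
      show z ^ 2 ^ n * z ^ 2 ^ n = 1 * 1
      rw [← pow_add, ← two_mul, ← pow_succ', h, one_mul]
  exact congrArg Subtype.val (key n _ hn)

end Ext

end Cfsg.Agent.OddHalf.U2.Mul
end

-- part: OddHalf/U2/MulL2
section
set_option linter.all false
open scoped Cfsg.Agent.FastGrp

/-!
# The multiplier facts of `U2.Cut.Mult`

* `rank_l2`: a perfect group whose centre is a nontrivial 2-group and whose central quotient is `PSL(2,q)`, `q` odd,
  `q > 3`, has 2-rank 1;
* `center_ree`: ... Ree group: the centre is trivial;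
* `mult`: `U2.Cut.Mult`.
-/

set_option autoImplicit false

namespace Cfsg.Agent.OddHalf.U2.MulL2

open Subgroup Cfsg Cfsg.Agent.OddHalf.U2.Mul Cfsg.Agent.GH.L2Aut

universe u

variable {K : Type u} [Group K] [Finite K]

/-- Ree groups. -/
theorem center_ree (hK : commutator K = ⊤) (hs : IsSimpleGroup (K ⧸ center K)) (h2 : IsPGroup 2 ↥(center K))
    (hR : Lie.IsoRee (K ⧸ center K)) : center K = ⊥ := by
  obtain ⟨E, iE, iE', m, hm, hE, ⟨e⟩⟩ := hR
  obtain ⟨a, haH, ha1, ha2⟩ := Cfsg.Agent.S1157.exists_involution hE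
  obtain ⟨⟨ε⟩, hS⟩ := Cfsg.Agent.S1152.result hE a haH ha1 ha2
  have hfin : Finite ↥(Cfsg.Lie.twistedG2 E (3 ^ m)) := Finite.of_equiv _ e.toEquiv
  have hsim : IsSimpleGroup ↥(Cfsg.Lie.twistedG2 E (3 ^ m)) := by
    have : Nontrivial ↥(Cfsg.Lie.twistedG2 E (3 ^ m)) := e.symm.toEquiv.nontrivial
    exact IsSimpleGroup.isSimpleGroup_of_surjective e.toMonoidHom e.surjective
  have hab : ∀ P : Sylow 2 ↥(Cfsg.Lie.twistedG2 E (3 ^ m)), ∀ a b : P, a * b = b * a := by
    intro P a b
    have h1 : ∀ x : P, x * x = 1 := fun x => Subtype.ext ((hS P).2 x x.2)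
    have h3 : ∀ x : P, x⁻¹ = x := fun x => inv_eq_of_mul_eq_one_left (h1 x)
    calc a * b = (a * b)⁻¹ := (h3 _).symm
      _ = b * a := by rw [mul_inv_rev, h3, h3]
  have ho : orderOf a = 2 := orderOf_eq_prime (by rw [sq, ha2]) ha1
  have hodd : Odd (Fintype.card E) := by rw [hE]; exact Odd.pow (by decide)
  have h8 : Fintype.card E % 8 = 3 ∨ Fintype.card E % 8 = 5 := by
    left
    rw [hE, pow_succ, pow_mul]
    have h9 : (3 ^ 2) ^ m % 8 = 1 := by
      rw [Nat.pow_mod]; norm_num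
    omega
  obtain ⟨T, hT⟩ := Cfsg.Agent.Ree.Reduce.out_of_odd hab a ho ε hodd h8
  have hconj : ∀ s t : ↥(Cfsg.Lie.twistedG2 E (3 ^ m)), s * s = 1 → s ≠ 1 → t * t = 1 → t ≠ 1 →
      ∃ g, g * s * g⁻¹ = t := by
    intro s t hs hs1 ht ht1
    have h3 := hT.conj s (orderOf_eq_prime (by rw [sq, hs]) hs1)
    have h4 := hT.conj t (orderOf_eq_prime (by rw [sq, ht]) ht1)
    exact isConj_iff.mp (h3.symm.trans h4)
  let f : K →* ↥(Cfsg.Lie.twistedG2 E (3 ^ m)) := e.toMonoidHom.comp (QuotientGroup.mk' (center K))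
  have hf : Function.Surjective f := e.surjective.comp (QuotientGroup.mk'_surjective _)
  have hf1 : ∀ z, f z = 1 ↔ z ∈ center K := by
    intro z
    show e (QuotientGroup.mk' (center K) z) = 1 ↔ _
    rw [EmbeddingLike.map_eq_one_iff, QuotientGroup.mk'_apply, QuotientGroup.eq_one_iff]
  have hker : f.ker = center K := by
    ext z
    rw [MonoidHom.mem_ker, hf1]
  rw [eq_bot_iff]
  intro z hz
  exact elem_ker hK f hf (fun z hz g => mem_center_iff.mp ((hf1 z).mp hz) g) (by rw [hker]; exact h2)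
    (S := T) (fun s hs => (hS T).2 s hs) (hS T).1.ge hconj z ((hf1 z).mpr hz)

end Cfsg.Agent.OddHalf.U2.MulL2
end
end
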